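import Groth.Agent.Chev24.Tools
import Groth.Agent.AlgGrp25.AntiAff
import Groth.Agent.S11408
import Groth.Agent.S3293
import Groth.Agent.S3026

/-! Chevalley's theorem over an algebraically closed field. -/

set_option linter.style.haveILetI false

open CategoryTheory AlgebraicGeometry MonoidalCategory CartesianMonoidalCategory MonObj Limits IsLocalRing
open Groth.Agent.VarDim (deg)

namespace Groth.Agent.Chev24

universe u

variable {k : Type u} [Field k]

/-- A kernel inside a subgroup is the kernel of the restriction. -/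
theorem isKernel_comp_mono {L M G Q : Over (Spec (CommRingCat.of k))} [GrpObj L] [GrpObj M] [GrpObj G] [GrpObj Q]
    (l : L ⟶ M) (j : M ⟶ G) [Mono j] (q : G ⟶ Q) (h : AlgGrp.IsKernel (l ≫ j) q) : AlgGrp.IsKernel l (j ≫ q) := by
  refine IsPullback.of_isLimit' ⟨by rw [← Category.assoc, h.w]⟩ (PullbackCone.IsLimit.mk _
    (fun s => h.lift (s.fst ≫ j) s.snd (by rw [Category.assoc, s.condition]))
    (fun s => ?_) (fun s => h.lift_snd _ _ _) fun s m h1 h2 => ?_)
  · rw [← cancel_mono j, Category.assoc, h.lift_fst]
  · refine h.hom_ext ?_ (h2.trans (h.lift_snd _ _ _).symm)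
    rw [h.lift_fst, ← Category.assoc, h1]

variable [IsAlgClosed k]

/-- A commutative connected group has an affine subgroup with proper quotient. -/
theorem exists_chevalley_comm {G : Over (Spec (CommRingCat.of k))} [GrpObj G] [IsCommMonObj G] [Smooth G.hom]
    [QuasiCompact G.hom] [ConnectedSpace G.left] :
    ∃ (L Q : Over (Spec (CommRingCat.of k))) (_ : GrpObj L) (_ : GrpObj Q) (l : L ⟶ G) (q : G ⟶ Q),
      IsMonHom l ∧ IsClosedImmersion l.left ∧ Smooth L.hom ∧ ConnectedSpace L.left ∧ IsAffine L.left ∧
      IsMonHom q ∧ Flat q.left ∧ Surjective q.left ∧ AlgGrp.IsKernel l q ∧ IsProper Q.hom := by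
  haveI : IsIntegral G.left := by
    haveI := AlgGrpH24.geometricallyIntegral_grp G
    exact GeometricallyIntegral.isIntegral_of_subsingleton G.hom
  haveI : IsSeparated G.hom := GrpSchLib.AntiAffine.isSeparated_grp G
  suffices key : ∀ (d : ℕ) (L : Over (Spec (CommRingCat.of k))) [GrpObj L] (l : L ⟶ G) [IsMonHom l]
      [IsClosedImmersion l.left] [Smooth L.hom] [ConnectedSpace L.left] [IsAffine L.left] [IsIntegral L.left],
      deg G.hom (genericPoint G.left) - deg L.hom (genericPoint L.left) = d → _ from by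
    haveI : IsClosedImmersion (η[G]).left := by
      haveI : IsClosedImmersion ((η[G]).left ≫ G.hom) := by rw [Over.w]; exact inferInstanceAs (IsClosedImmersion (𝟙 _))
      exact IsClosedImmersion.of_comp (η[G]).left G.hom
    haveI : Smooth (𝟙_ (Over (Spec (CommRingCat.of k)))).hom := inferInstanceAs (Smooth (𝟙 _))
    haveI : ConnectedSpace (𝟙_ (Over (Spec (CommRingCat.of k)))).left :=
      inferInstanceAs (ConnectedSpace (Spec (CommRingCat.of k)))
    haveI : IsAffine (𝟙_ (Over (Spec (CommRingCat.of k)))).left :=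
      inferInstanceAs (IsAffine (Spec (CommRingCat.of k)))
    haveI : IsIntegral (𝟙_ (Over (Spec (CommRingCat.of k)))).left :=
      inferInstanceAs (IsIntegral (Spec (CommRingCat.of k)))
    exact key _ (𝟙_ _) η[G] rfl
  intro d
  induction d using Nat.strong_induction_on with
  | _ d IH => ?_
  intro L _ l _ _ _ _ _ _ hd
  haveI : QuasiCompact L.hom := inferInstance
  haveI : Mono l := Over.mono_of_mono_left _
  obtain ⟨Q, _, q, hqm, hqs, hqf, hqp, hQl, hQq, hQsep, hqk⟩ :=
    AlgGrpH24.exists_quotient_grp l (fun T g x => ⟨x, by rw [_root_.mul_comm g, mul_inv_cancel_right]⟩)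
  haveI := hqm; haveI := hqs; haveI := hqf; haveI := hQl; haveI := hQq; haveI := hQsep
  haveI : QuasiCompact q.left := by
    haveI : QuasiCompact (q.left ≫ Q.hom) := by rw [Over.w]; infer_instance
    exact QuasiCompact.of_comp q.left Q.hom
  by_cases hQU : UniversallyClosed Q.hom
  · exact ⟨L, Q, inferInstance, inferInstance, l, q, inferInstance, inferInstance, inferInstance, inferInstance,
      inferInstance, hqm, hqf, hqs, hqk, {}⟩
  haveI : Smooth Q.hom := GrpSchLib.smooth_of_quotient q
  haveI : ConnectedSpace Q.left := q.left.surjective.connectedSpace q.left.continuous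
  haveI : IsCommMonObj Q := by
    haveI := (AlgGrpH24.isCover_tensorHom (f := q) (g := q) ⟨hqf, hqs, ‹_›⟩ ⟨hqf, hqs, ‹_›⟩).epi
    refine ⟨?_⟩
    rw [← cancel_epi (q ⊗ₘ q), BraidedCategory.braiding_naturality_assoc, ← IsMonHom.mul_hom,
      IsCommMonObj.mul_comm_assoc]
  obtain ⟨H, _, i, hi, hic, hHs, hHc, hHa, hHn⟩ := exists_affine_sub_comm hQU
  haveI := hi; haveI := hic; haveI := hHs; haveI := hHc; haveI := hHa; haveI := hHn
  haveI : QuasiCompact H.hom := inferInstance
  obtain ⟨R, _, r, hrm, -, -, -, hRl, -, -, hrk⟩ :=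
    AlgGrpH24.exists_quotient_grp i (fun T g x => ⟨x, by rw [_root_.mul_comm g, mul_inv_cancel_right]⟩)
  haveI := hrm; haveI := hRl
  obtain ⟨E, _, j, p, c, hj, hjc, -, -, hpm, hpf, hps, hpi, hcm, hcj, hck⟩ := exists_extension q l hqk i r hrk
  haveI := hj; haveI := hjc; haveI := hpm; haveI := hpf; haveI := hps; haveI := hcm
  haveI : LocallyOfFiniteType E.hom := by rw [← Over.w j]; infer_instance
  haveI : QuasiCompact E.hom := by rw [← Over.w j]; infer_instance
  obtain ⟨hEa, hEs, hEc⟩ := Groth.Agent.S7982.result k L E H c p hck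
  haveI := hEa inferInstance inferInstance
  haveI := hEs inferInstance inferInstance
  haveI := hEc inferInstance inferInstance
  haveI : IsIntegral E.left := by
    haveI := AlgGrpH24.geometricallyIntegral_grp E
    exact GeometricallyIntegral.isIntegral_of_subsingleton E.hom
  haveI : IsClosedImmersion c.left := by
    haveI : IsClosedImmersion (c.left ≫ j.left) := by rw [← Over.comp_left, hcj]; infer_instance
    exact IsClosedImmersion.of_comp c.left j.left
  have hlt : deg L.hom (genericPoint L.left) < deg E.hom (genericPoint E.left) := by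
    rw [deg_of_closedImmersion c]
    by_contra h
    have hgen : genericPoint E.left ∈ Set.range c.left := by
      rw [VarDim.eq_of_specializes_of_deg_le E.hom (genericPoint_specializes (c.left (genericPoint L.left)))
        (by omega)]
      exact ⟨_, rfl⟩
    haveI : Surjective c.left := ⟨fun x =>
      c.left.isClosedEmbedding.isClosed_range.closure_subset_iff.2 (Set.singleton_subset_iff.2 hgen)
        (specializes_iff_mem_closure.1 (genericPoint_specializes x))⟩
    refine not_subsingleton H.left ⟨fun x y => ?_⟩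
    have key : ∀ z, z = η[H].left (closedPoint k) := fun z => by
      obtain ⟨e, rfl⟩ := p.left.surjective z
      obtain ⟨e', rfl⟩ := c.left.surjective e
      refine (congrArg (fun m : L ⟶ H => m.left e') hck.w).trans ?_
      exact congrArg η[H].left (Subsingleton.elim (α := Spec (CommRingCat.of k)) _ _)
    exact (key x).trans (key y).symm
  have hle : deg E.hom (genericPoint E.left) ≤ deg G.hom (genericPoint G.left) := by
    rw [deg_of_closedImmersion j]
    by_contra h
    have e := VarDim.eq_of_specializes_of_deg_le G.hom (genericPoint_specializes (j.left (genericPoint E.left))) (by omega)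
    rw [← e] at h
    exact h le_rfl
  exact IH _ (by omega) E j rfl

/-- Chevalley's theorem over an algebraically closed field. -/
theorem exists_chevalley {G : Over (Spec (CommRingCat.of k))} [GrpObj G] [Smooth G.hom] [QuasiCompact G.hom]
    [ConnectedSpace G.left] :
    ∃ (L Q : Over (Spec (CommRingCat.of k))) (_ : GrpObj L) (_ : GrpObj Q) (l : L ⟶ G) (q : G ⟶ Q),
      IsMonHom l ∧ IsClosedImmersion l.left ∧ Smooth L.hom ∧ ConnectedSpace L.left ∧ IsAffine L.left ∧
      AlgGrp.IsNormalHom l ∧ IsMonHom q ∧ Flat q.left ∧ Surjective q.left ∧ AlgGrp.IsKernel l q ∧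
      IsProper Q.hom ∧ Smooth Q.hom ∧ ConnectedSpace Q.left := by
  haveI : IsSeparated G.hom := GrpSchLib.AntiAffine.isSeparated_grp G
  obtain ⟨M, I, _, _, j, p, h⟩ := AlgGrp25.exists_antiAffPart G
  haveI := h.isMonHom_j; haveI := h.isClosedImmersion_j; haveI := h.isMonHom_p; haveI := h.flat_p
  haveI := h.surjective_p; haveI := h.affine; haveI := h.lft; haveI := h.qc; haveI := h.lft_M; haveI := h.qc_M
  haveI : Mono j := Over.mono_of_mono_left _
  have hO := (GrpSchLib.AntiAffine.bijective_appTop_iff M.hom).2 h.antiAffine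
  obtain ⟨hMc, hMcomm⟩ := Groth.Agent.S3293.result k M hO
  haveI := hMc; haveI := hMcomm
  haveI : Smooth M.hom := Groth.Agent.S3026.result k M hO
  obtain ⟨L, A, _, _, l, qM, hlm, hlc, hLs, hLc, hLa, hqMm, hqMf, hqMs, hqMk, hAp⟩ := exists_chevalley_comm (G := M)
  haveI := hlm; haveI := hlc; haveI := hLs; haveI := hLc; haveI := hLa
  haveI := hqMm; haveI := hqMf; haveI := hqMs; haveI := hAp
  haveI : Smooth A.hom := GrpSchLib.smooth_of_quotient qM
  haveI : ConnectedSpace A.left := qM.left.surjective.connectedSpace qM.left.continuous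
  haveI : QuasiCompact L.hom := inferInstance
  haveI : IsClosedImmersion (l ≫ j).left := by rw [Over.comp_left]; infer_instance
  have hnorm : AlgGrp.IsNormalHom (l ≫ j) := fun T g x => ⟨x, by
    have := Groth.Agent.S7996.result k M G hO j T (x ≫ l) T (𝟙 T) g
    simp only [Category.id_comp, Category.assoc] at this
    rw [← this, mul_inv_cancel_right]⟩
  obtain ⟨G', _, q, hqm, hqs, hqf, hqp, hG'l, hG'q, hG'sep, hqk⟩ := AlgGrpH24.exists_quotient_grp (l ≫ j) hnorm
  haveI := hqm; haveI := hqs; haveI := hqf; haveI := hG'l; haveI := hG'q; haveI := hG'sep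
  haveI : QuasiCompact q.left := by
    haveI : QuasiCompact (q.left ≫ G'.hom) := by rw [Over.w]; infer_instance
    exact QuasiCompact.of_comp q.left G'.hom
  haveI : Smooth G'.hom := GrpSchLib.smooth_of_quotient q
  haveI : ConnectedSpace G'.left := q.left.surjective.connectedSpace q.left.continuous
  obtain ⟨i', hi', hqi', hi'c⟩ := exists_closedImmersion_factor qM l hqMk (j ≫ q) (isKernel_comp_mono l j q hqk)
  haveI := hi'; haveI := hi'c
  haveI : IsSeparated I.hom := GrpSchLib.AntiAffine.isSeparated_grp I
  obtain ⟨p', hp'm, hqp', -⟩ := Groth.Agent.S3280.result k G L G' I q (l ≫ j) hqk p (by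
    rw [Category.assoc, h.kernel.w, ← Category.assoc, comp_toUnit])
  haveI := hp'm
  haveI : Smooth I.hom := GrpSchLib.smooth_of_quotient p
  haveI : IsReduced I.left := H23.RigidGamma.isReduced_of_smooth I.hom
  haveI : Surjective p'.left := by
    haveI : Surjective (q.left ≫ p'.left) := by rw [← Over.comp_left, hqp']; infer_instance
    exact Surjective.of_comp q.left p'.left
  haveI : Mono i' := Over.mono_of_mono_left _
  have hi'w : i' ≫ p' = 1 := by
    haveI : QuasiCompact qM.left := by
      haveI : QuasiCompact (qM.left ≫ A.hom) := by rw [Over.w]; infer_instance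
      exact QuasiCompact.of_comp qM.left A.hom
    haveI : Epi qM.left := Flat.epi_of_flat_of_surjective _
    haveI : Epi qM := (Over.forget _).epi_of_epi_map (by assumption)
    rw [← cancel_epi qM, reassoc_of% hqi', hqp', h.kernel.w, MonObj.comp_one, Hom.one_def]
  have hlift : ∀ {T : Over (Spec (CommRingCat.of k))} (g : T ⟶ G'), g ≫ p' = 1 → ∃ a : T ⟶ A, a ≫ i' = g := by
    intro T g hg
    let T' : Over (Spec (CommRingCat.of k)) := Over.mk (pullback.fst g.left q.left ≫ T.hom)
    let π : T' ⟶ T := Over.homMk (pullback.fst g.left q.left) rfl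
    let t : T' ⟶ G := Over.homMk (pullback.snd g.left q.left) (by
      show _ ≫ G.hom = _ ≫ T.hom
      rw [← Over.w q, ← pullback.condition_assoc, Over.w g])
    have htq : t ≫ q = π ≫ g := Over.OverMorphism.ext pullback.condition.symm
    obtain ⟨m, hm⟩ := h.exists_lift t (by
      rw [← hqp', reassoc_of% htq, hg, MonObj.comp_one])
    obtain ⟨a, ha⟩ := GrpSchLib.AntiAffineSmooth.exists_factor (pullback.fst g.left q.left) g.left i'.left (m ≫ qM).left (by
      rw [← Over.comp_left, Category.assoc, hqi', reassoc_of% hm, htq]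
      rfl)
    exact ⟨Over.homMk a (by rw [← Over.w i', reassoc_of% ha, Over.w g]), Over.OverMorphism.ext ha⟩
  have hp'k : AlgGrp.IsKernel i' p' := by
    refine IsPullback.of_isLimit' ⟨hi'w.trans Hom.one_def⟩ (PullbackCone.IsLimit.mk _
      (fun s => (hlift s.fst (s.condition.trans (by rw [toUnit_unique s.snd (toUnit _), ← Hom.one_def]))).choose)
      (fun s => (hlift s.fst (s.condition.trans (by rw [toUnit_unique s.snd (toUnit _), ← Hom.one_def]))).choose_spec)
      (fun s => toUnit_unique _ _) fun s m h1 _ => ?_)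
    rw [← cancel_mono i', h1,
      (hlift s.fst (s.condition.trans (by rw [toUnit_unique s.snd (toUnit _), ← Hom.one_def]))).choose_spec]
  obtain ⟨H, _, hh, hhm, hhc, hHs, hHc, hHn, hsurj, hfin⟩ := Groth.Agent.S11408.result k G' A i'
  haveI := hhm; haveI := hhc; haveI := hHs; haveI := hHc; haveI := hsurj; haveI := hfin
  haveI : QuasiCompact H.hom := by rw [← Over.w hh]; infer_instance
  haveI : Mono hh := Over.mono_of_mono_left _
  let h2 : H ⟶ I := hh ≫ p'
  let f : A ⊗ H ⟶ G' := (i' ⊗ₘ hh) ≫ μ[G']
  have hf : ∀ {X : Over (Spec (CommRingCat.of k))} [GrpObj X] (ψ : G' ⟶ X) [IsMonHom ψ],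
      f ≫ ψ = (fst A H ≫ i' ≫ ψ) * (snd A H ≫ hh ≫ ψ) := fun {X} _ ψ _ => by
    show ((i' ⊗ₘ hh) ≫ μ[G']) ≫ ψ = _
    have : (i' ⊗ₘ hh) ≫ μ[G'] = (fst A H ≫ i') * (snd A H ≫ hh) := by
      rw [Hom.mul_def, ← lift_map, lift_fst_snd, Category.id_comp]
    rw [this, MonObj.mul_comp, Category.assoc, Category.assoc]
  haveI : Surjective h2.left := by
    haveI : Surjective ((snd A H).left ≫ h2.left) := by
      have e : snd A H ≫ h2 = f ≫ p' := by rw [hf p', hi'w, MonObj.comp_one, _root_.one_mul]
      rw [← Over.comp_left, e, Over.comp_left]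
      infer_instance
    exact Surjective.of_comp (snd A H).left h2.left
  haveI : QuasiCompact h2.left := by
    haveI : QuasiCompact (h2.left ≫ I.hom) := by rw [Over.w]; infer_instance
    exact QuasiCompact.of_comp h2.left I.hom
  haveI : Flat h2.left := GrpSchLib.flat_of_surjective_hom h2
  obtain ⟨K, _, c, hcm, hcc, -, hck⟩ := GrpSchLib.exists_kernel h2
  haveI := hcm; haveI := hcc
  haveI : Mono c := Over.mono_of_mono_left _
  obtain ⟨a, ha⟩ := hlift (c ≫ hh) (by rw [Category.assoc, hck.w, ← Hom.one_def])
  haveI : IsFinite K.hom := by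
    let κ : K.left ⟶ pullback i'.left hh.left := pullback.lift a.left c.left (by rw [← Over.comp_left, ha]; rfl)
    haveI : IsClosedImmersion (κ ≫ pullback.snd i'.left hh.left) := by rw [pullback.lift_snd]; infer_instance
    haveI : IsClosedImmersion κ := IsClosedImmersion.of_comp κ (pullback.snd i'.left hh.left)
    rw [show K.hom = κ ≫ pullback.fst i'.left hh.left ≫ A.hom from (Over.w a).symm.trans (pullback.lift_fst_assoc _ _ _ _).symm]
    infer_instance
  haveI := isFinite_of_finite_kernel c h2 hck
  haveI : IsAffine H.left := isAffine_of_isAffineHom h2.left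
  obtain ⟨Q, _, r, hrm, hrs, hrf, -, hQl, hQq, hQsep, hrk⟩ := AlgGrpH24.exists_quotient_grp hh hHn
  haveI := hrm; haveI := hrs; haveI := hrf; haveI := hQl; haveI := hQq; haveI := hQsep
  obtain ⟨E, _, jE, pE, cE, hjm, hjc, hjn, hjk, hpm, hpf, hps, -, hcEm, -, hcEk⟩ :=
    exists_extension q (l ≫ j) hqk hh r hrk
  haveI := hjm; haveI := hjc; haveI := hpm; haveI := hpf; haveI := hps; haveI := hcEm
  haveI : LocallyOfFiniteType E.hom := by rw [← Over.w jE]; infer_instance
  haveI : QuasiCompact E.hom := by rw [← Over.w jE]; infer_instance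
  obtain ⟨hEa, hEs, hEc⟩ := Groth.Agent.S7982.result k L E H cE pE hcEk
  haveI hQp : IsProper Q.hom := by
    haveI : Surjective ((fst A H).left ≫ (i' ≫ r).left) := by
      have e : fst A H ≫ i' ≫ r = f ≫ r := by
        rw [hf r, hrk.w, ← Category.assoc (snd A H), comp_toUnit, ← Hom.one_def, _root_.mul_one]
      rw [← Over.comp_left, e, Over.comp_left]
      infer_instance
    haveI : Surjective (i' ≫ r).left := Surjective.of_comp (fst A H).left (i' ≫ r).left
    haveI : UniversallyClosed ((i' ≫ r).left ≫ Q.hom) := by rw [Over.w]; infer_instance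
    haveI : UniversallyClosed Q.hom := UniversallyClosed.of_comp_surjective (i' ≫ r).left Q.hom
    exact {}
  haveI : Surjective (q ≫ r).left := by rw [Over.comp_left]; infer_instance
  haveI : Flat (q ≫ r).left := by rw [Over.comp_left]; infer_instance
  exact ⟨E, Q, inferInstance, inferInstance, jE, q ≫ r, hjm, hjc, hEs inferInstance inferInstance,
    hEc inferInstance inferInstance, hEa inferInstance inferInstance, hjn, inferInstance,
    by rw [Over.comp_left]; infer_instance, inferInstance, hjk, hQp, GrpSchLib.smooth_of_quotient (q ≫ r),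
    (q ≫ r).left.surjective.connectedSpace (q ≫ r).left.continuous⟩

end Groth.Agent.Chev24
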