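import Groth.Agent.AlgGrpH24.GrpInt
import Groth.Agent.H23.EquidimFibres
import Groth.Agent.H23.RatExt

/-! Rational points of schemes of finite type over an algebraically closed field. -/

set_option linter.style.haveILetI false

open CategoryTheory AlgebraicGeometry MonoidalCategory CartesianMonoidalCategory MonObj Limits IsLocalRing

namespace Groth.Agent.Chev24

universe u

variable {k : Type u} [Field k]

/-- The point of a rational point. -/
noncomputable def pt {X : Over (Spec (CommRingCat.of k))} (t : 𝟙_ (Over (Spec (CommRingCat.of k))) ⟶ X) : X.left :=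
  t.left (closedPoint k : Spec (CommRingCat.of k))

theorem pt_comp {X Y : Over (Spec (CommRingCat.of k))} (t : 𝟙_ (Over (Spec (CommRingCat.of k))) ⟶ X) (f : X ⟶ Y) :
    pt (t ≫ f) = f.left (pt t) := rfl

theorem range_pt {X : Over (Spec (CommRingCat.of k))} (t : 𝟙_ (Over (Spec (CommRingCat.of k))) ⟶ X) :
    Set.range t.left = {pt t} :=
  Set.ext fun x => ⟨fun ⟨z, hz⟩ => by
      rw [Set.mem_singleton_iff, ← hz]
      exact congrArg t.left (Subsingleton.elim (α := Spec (CommRingCat.of k)) z (closedPoint k)),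
    fun hx => ⟨_, hx.symm⟩⟩

theorem isClosed_pt {X : Over (Spec (CommRingCat.of k))} [IsSeparated X.hom]
    (t : 𝟙_ (Over (Spec (CommRingCat.of k))) ⟶ X) : IsClosed ({pt t} : Set X.left) := by
  haveI : IsClosedImmersion (t.left ≫ X.hom) := by rw [Over.w]; exact inferInstanceAs (IsClosedImmersion (𝟙 _))
  haveI := IsClosedImmersion.of_comp t.left X.hom
  rw [← range_pt]
  exact t.left.isClosedEmbedding.isClosed_range

variable [IsAlgClosed k]

theorem exists_pt {X : Over (Spec (CommRingCat.of k))} [LocallyOfFiniteType X.hom] (x : X.left)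
    (hx : IsClosed ({x} : Set X.left)) : ∃ t : 𝟙_ (Over (Spec (CommRingCat.of k))) ⟶ X, pt t = x :=
  ⟨Over.homMk (pointOfClosedPoint X.hom x hx) (pointOfClosedPoint_comp _ _ _), pointOfClosedPoint_apply _ _ _ _⟩

theorem exists_pt_mem {X : Over (Spec (CommRingCat.of k))} [LocallyOfFiniteType X.hom] {Z : Set X.left}
    (hZ : Z.Nonempty) (hlc : IsLocallyClosed Z) : ∃ t : 𝟙_ (Over (Spec (CommRingCat.of k))) ⟶ X, pt t ∈ Z := by
  haveI : JacobsonSpace X.left := LocallyOfFiniteType.jacobsonSpace (Y := Spec _) X.hom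
  obtain ⟨x, hxZ, hx⟩ := nonempty_inter_closedPoints hZ hlc
  obtain ⟨t, rfl⟩ := exists_pt x hx
  exact ⟨t, hxZ⟩

/-- A closed set with at most one rational point is at most a point. -/
theorem subsingleton_of_pts {X : Over (Spec (CommRingCat.of k))} [LocallyOfFiniteType X.hom]
    {Z : Set X.left} (hZ : IsClosed Z) (z : X.left) (hz : IsClosed ({z} : Set X.left))
    (h : ∀ t : 𝟙_ (Over (Spec (CommRingCat.of k))) ⟶ X, pt t ∈ Z → pt t = z) : Z ⊆ {z} := by
  intro x hx
  by_contra hxz
  obtain ⟨t, ht, ht'⟩ := exists_pt_mem (Z := Z ∩ {z}ᶜ) ⟨x, hx, hxz⟩ (hZ.isLocallyClosed.inter hz.isOpen_compl.isLocallyClosed)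
  exact ht' (h t ht)

/-- Products of varieties. -/
theorem isIntegral_tensor (X Y : Over (Spec (CommRingCat.of k))) [LocallyOfFiniteType X.hom] [LocallyOfFiniteType Y.hom]
    [IsIntegral X.left] [IsIntegral Y.left] : IsIntegral (X ⊗ Y).left := by
  haveI : GeometricallyIntegral X.hom := H23.EquidimFibres.geometricallyIntegral_of_isAlgClosed
  haveI : GeometricallyIntegral Y.hom := H23.EquidimFibres.geometricallyIntegral_of_isAlgClosed
  haveI := H23.RatExt.geometricallyIntegral_prod X Y
  exact H23.MaxAbelian.isIntegral_of_geometricallyIntegral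

theorem lft_tensor (X Y : Over (Spec (CommRingCat.of k))) [LocallyOfFiniteType X.hom] [LocallyOfFiniteType Y.hom] :
    LocallyOfFiniteType (X ⊗ Y).hom :=
  inferInstanceAs (LocallyOfFiniteType (pullback.fst X.hom Y.hom ≫ X.hom))

theorem separated_tensor (X Y : Over (Spec (CommRingCat.of k))) [IsSeparated X.hom] [IsSeparated Y.hom] :
    IsSeparated (X ⊗ Y).hom :=
  inferInstanceAs (IsSeparated (pullback.fst X.hom Y.hom ≫ X.hom))

theorem qc_tensor (X Y : Over (Spec (CommRingCat.of k))) [QuasiCompact X.hom] [QuasiCompact Y.hom] :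
    QuasiCompact (X ⊗ Y).hom :=
  inferInstanceAs (QuasiCompact (pullback.fst X.hom Y.hom ≫ X.hom))

/-- The open subscheme as an object over the base. -/
noncomputable abbrev op {X : Over (Spec (CommRingCat.of k))} (U : X.left.Opens) : Over (Spec (CommRingCat.of k)) :=
  Over.mk (U.ι ≫ X.hom)

/-- Its inclusion. -/
noncomputable abbrev opι {X : Over (Spec (CommRingCat.of k))} (U : X.left.Opens) : op U ⟶ X :=
  Over.homMk U.ι rfl

omit [IsAlgClosed k] in
theorem range_opι {X : Over (Spec (CommRingCat.of k))} (U : X.left.Opens) : Set.range (opι U).left = (U : Set X.left) :=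
  Scheme.Opens.range_ι U

omit [IsAlgClosed k] in
theorem exists_lift_opι {X T : Over (Spec (CommRingCat.of k))} (U : X.left.Opens) (f : T ⟶ X)
    (h : Set.range f.left ⊆ (U : Set X.left)) : ∃ l : T ⟶ op U, l ≫ opι U = f :=
  ⟨Over.homMk (IsOpenImmersion.lift U.ι f.left (h.trans (Scheme.Opens.range_ι U).ge)) (by
      show _ ≫ U.ι ≫ X.hom = T.hom
      rw [IsOpenImmersion.lift_fac_assoc, Over.w]),
    Over.OverMorphism.ext (IsOpenImmersion.lift_fac _ _ _)⟩

end Groth.Agent.Chev24
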