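import Groth.Agent.Chev24.CommMain
import Groth.Agent.AlgGrpH24.QuasiKer
import Groth.Agent.GrpSchLib.ImageFlat
import Groth.Agent.GrpSchLib.AntiAffineSmooth
import Groth.Agent.H23.MaxAbelian
import Groth.Agent.S3280
import Groth.Agent.S7982

/-! Tools on extensions, preimages and quotients for Chevalley's theorem. -/

set_option linter.style.haveILetI false

open CategoryTheory AlgebraicGeometry MonoidalCategory CartesianMonoidalCategory MonObj Limits IsLocalRing

namespace Groth.Agent.Chev24

universe u

variable {k : Type u} [Field k]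

/-- The map induced on the quotient by the kernel of a homomorphism is a closed immersion. -/
theorem exists_closedImmersion_factor {G N Q H : Over (Spec (CommRingCat.of k))} [GrpObj G] [GrpObj Q] [GrpObj H]
    [LocallyOfFiniteType G.hom] [QuasiCompact G.hom] [LocallyOfFiniteType Q.hom] [QuasiCompact Q.hom]
    [LocallyOfFiniteType H.hom] [QuasiCompact H.hom] (q : G ⟶ Q) [IsMonHom q] [Flat q.left] [Surjective q.left]
    (i : N ⟶ G) (hq : AlgGrp.IsKernel i q) (f : G ⟶ H) [IsMonHom f] (hf : AlgGrp.IsKernel i f) :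
    ∃ e : Q ⟶ H, IsMonHom e ∧ q ≫ e = f ∧ IsClosedImmersion e.left := by
  haveI : IsSeparated Q.hom := GrpSchLib.AntiAffine.isSeparated_grp Q
  haveI : IsSeparated H.hom := GrpSchLib.AntiAffine.isSeparated_grp H
  obtain ⟨e, he, hqe, -⟩ := Groth.Agent.S3280.result k G N Q H q i hq f hf.w
  haveI := he
  haveI : QuasiCompact q.left := by
    haveI : QuasiCompact (q.left ≫ Q.hom) := by rw [Over.w]; infer_instance
    exact QuasiCompact.of_comp q.left Q.hom
  haveI : QuasiCompact e.left := by
    haveI : QuasiCompact (e.left ≫ H.hom) := by rw [Over.w]; infer_instance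
    exact QuasiCompact.of_comp e.left H.hom
  haveI : Mono e := by
    refine ⟨fun {T} a b hab => ?_⟩
    have h1 : (a * b⁻¹) ≫ e = 1 := by rw [MonObj.mul_comp, GrpObj.inv_comp, hab, mul_inv_cancel]
    let c := a * b⁻¹
    let T' : Over (Spec (CommRingCat.of k)) := Over.mk (pullback.fst c.left q.left ≫ T.hom)
    let π : T' ⟶ T := Over.homMk (pullback.fst c.left q.left) rfl
    let g : T' ⟶ G := Over.homMk (pullback.snd c.left q.left) (by
      show _ ≫ G.hom = _ ≫ T.hom
      rw [← Over.w q, ← pullback.condition_assoc, Over.w c])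
    have hgq : g ≫ q = π ≫ c := Over.OverMorphism.ext pullback.condition.symm
    have h2 : g ≫ f = 1 := by
      rw [← hqe, reassoc_of% hgq, h1, MonObj.comp_one]
    let n := hf.lift g (toUnit _) (h2.trans Hom.one_def)
    have h3 : π ≫ c = 1 := by
      rw [← hgq, ← hf.lift_fst g (toUnit _) (h2.trans Hom.one_def), Category.assoc, hq.w, ← Category.assoc,
        comp_toUnit, ← Hom.one_def]
    haveI : Epi π.left := by
      haveI : Flat π.left := inferInstanceAs (Flat (pullback.fst c.left q.left))
      haveI : Surjective π.left := inferInstanceAs (Surjective (pullback.fst c.left q.left))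
      exact Flat.epi_of_flat_of_surjective _
    haveI : Epi π := (Over.forget _).epi_of_epi_map (by assumption)
    have h4 : c = 1 := by rw [← cancel_epi π, h3, MonObj.comp_one]
    exact mul_inv_eq_one.1 h4
  exact ⟨e, he, hqe, Groth.Agent.S3036.result k Q H e⟩

/-- A homomorphism from a connected smooth affine group to a proper group is trivial. -/
theorem eq_one_of_affine_of_proper {H Q : Over (Spec (CommRingCat.of k))} [GrpObj H] [GrpObj Q] [Smooth H.hom]
    [IsAffine H.left] [ConnectedSpace H.left] [IsProper Q.hom] (f : H ⟶ Q) [IsMonHom f] : f = 1 := by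
  haveI : IsAffineHom H.hom := inferInstance
  haveI : QuasiCompact H.hom := inferInstance
  obtain ⟨K, _, i, hi, hic, hin, hik⟩ := GrpSchLib.exists_kernel f
  haveI := hi; haveI := hic
  obtain ⟨I, _, q, hqm, hqs, hqf, -, hIl, hIq, hIsep, hqk⟩ := AlgGrpH24.exists_quotient_grp i hin
  haveI := hqm; haveI := hqs; haveI := hqf; haveI := hIl; haveI := hIq
  obtain ⟨e, he, hqe, hec⟩ := exists_closedImmersion_factor q i hqk f hik
  haveI := hec
  haveI : IsProper I.hom := by rw [← Over.w e]; infer_instance
  haveI : IsAffine I.left := GrpSchLib.isAffine_of_quotient q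
  haveI : Smooth I.hom := GrpSchLib.smooth_of_quotient q
  haveI : ConnectedSpace I.left := q.left.surjective.connectedSpace q.left.continuous
  haveI := AlgGrpH24.geometricallyIntegral_grp I
  haveI : IsIso I.hom := by
    haveI : IsIso I.hom.appTop := (ConcreteCategory.isIso_iff_bijective _).2 (H23.Rigid.bijective_appTop I.hom)
    haveI : IsIso (I.hom ≫ (Spec (CommRingCat.of k)).isoSpec.hom) := by
      rw [← Scheme.isoSpec_hom_naturality]; infer_instance
    exact IsIso.of_isIso_comp_right I.hom (Spec (CommRingCat.of k)).isoSpec.hom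
  have : q = 1 := Over.OverMorphism.ext ((cancel_mono I.hom).1 ((Over.w q).trans (Over.w (1 : H ⟶ I)).symm))
  rw [← hqe, this, MonObj.one_comp]

/-- The preimage of a normal subgroup of a quotient. -/
theorem exists_extension {G L Q H R : Over (Spec (CommRingCat.of k))} [GrpObj G] [GrpObj L] [GrpObj Q] [GrpObj H]
    [GrpObj R] [LocallyOfFiniteType G.hom] [QuasiCompact G.hom] [LocallyOfFiniteType R.hom]
    (q : G ⟶ Q) [IsMonHom q] [Flat q.left] [Surjective q.left] [QuasiCompact q.left] (l : L ⟶ G) [IsMonHom l]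
    (hl : AlgGrp.IsKernel l q) (i : H ⟶ Q) [IsMonHom i] [IsClosedImmersion i.left] (r : Q ⟶ R) [IsMonHom r]
    (hr : AlgGrp.IsKernel i r) :
    ∃ (E : Over (Spec (CommRingCat.of k))) (_ : GrpObj E) (j : E ⟶ G) (p : E ⟶ H) (c : L ⟶ E),
      IsMonHom j ∧ IsClosedImmersion j.left ∧ AlgGrp.IsNormalHom j ∧ AlgGrp.IsKernel j (q ≫ r) ∧ IsMonHom p ∧
      Flat p.left ∧ Surjective p.left ∧ p ≫ i = j ≫ q ∧ IsMonHom c ∧ c ≫ j = l ∧ AlgGrp.IsKernel c p := by
  haveI : IsSeparated R.hom := GrpSchLib.AntiAffine.isSeparated_grp R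
  obtain ⟨E, _, j, hj, hjc, hjn, hjk⟩ := GrpSchLib.exists_kernel (q ≫ r)
  haveI := hj; haveI := hjc
  haveI : Mono i := Over.mono_of_mono_left _
  haveI : Mono j := Over.mono_of_mono_left _
  let p := hr.lift (j ≫ q) (toUnit _) (by rw [Category.assoc, hjk.w])
  have hp : p ≫ i = j ≫ q := hr.lift_fst _ _ _
  have hsq : IsPullback j p q i := by
    refine IsPullback.of_bot (v₂₁ := toUnit H) (h₃₁ := η[R]) ?_ hp.symm hr
    rw [comp_toUnit]
    exact hjk
  haveI : Flat p.left := MorphismProperty.of_isPullback (hsq.map (Over.forget _)) ‹Flat q.left›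
  haveI : Surjective p.left := MorphismProperty.of_isPullback (hsq.map (Over.forget _)) ‹Surjective q.left›
  haveI hpm : IsMonHom p := by
    refine AlgGrpH24.isMonHom_of_forall_mul p fun {T} a b => ?_
    rw [← cancel_mono i, Category.assoc, hp, MonObj.mul_comp, MonObj.mul_comp, Category.assoc a p, Category.assoc b p, hp]
  let c := hsq.lift l (1 : L ⟶ H) (by rw [MonObj.one_comp, hl.w, ← Hom.one_def])
  have hc : c ≫ j = l := hsq.lift_fst _ _ _
  have hcp : c ≫ p = 1 := hsq.lift_snd _ _ _
  haveI hcm : IsMonHom c := by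
    refine AlgGrpH24.isMonHom_of_forall_mul c fun {T} a b => ?_
    rw [← cancel_mono j, Category.assoc, hc, MonObj.mul_comp, MonObj.mul_comp, Category.assoc a, Category.assoc b, hc]
  refine ⟨E, inferInstance, j, p, c, hj, hjc, hjn, hjk, hpm, ‹_›, ‹_›, hp, hcm, hc, ?_⟩
  have hw : c ≫ p = toUnit L ≫ η[H] := hcp.trans Hom.one_def
  refine IsPullback.of_right (h₁₂ := j) (h₂₂ := i) (v₁₃ := q) ?_ hw hsq
  rw [hc, IsMonHom.one_hom]
  exact hl

/-- A homomorphism with finite kernel is finite onto its image. -/
theorem isFinite_of_finite_kernel {H I K : Over (Spec (CommRingCat.of k))} [GrpObj H] [GrpObj I] [GrpObj K]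
    [LocallyOfFiniteType H.hom] [QuasiCompact H.hom] [LocallyOfFiniteType I.hom]
    (i : K ⟶ H) [Mono i] [IsFinite K.hom] (h : H ⟶ I) [IsMonHom h] [Flat h.left] [Surjective h.left]
    (hker : AlgGrp.IsKernel i h) : IsFinite h.left := by
  haveI : IsSeparated I.hom := GrpSchLib.AntiAffine.isSeparated_grp I
  haveI : IsSeparated H.hom := GrpSchLib.AntiAffine.isSeparated_grp H
  haveI : UniversallyClosed h.left := universallyClosed_quotient i h hker
  haveI : IsSeparated h.left := by
    haveI : IsSeparated (h.left ≫ I.hom) := by rw [Over.w]; infer_instance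
    exact IsSeparated.of_comp h.left I.hom
  haveI : LocallyOfFiniteType h.left := by
    haveI : LocallyOfFiniteType (h.left ≫ I.hom) := by rw [Over.w]; infer_instance
    exact locallyOfFiniteType_of_comp h.left I.hom
  haveI : IsProper h.left := {}
  have hpb := (isPullback_kernel i h hker).map (Over.forget _)
  haveI : LocallyQuasiFinite h.left := by
    refine locallyQuasiFinite_iff_finite_preimage_singleton.2 fun y => ?_
    rcases Set.eq_empty_or_nonempty (h.left ⁻¹' {y}) with he | ⟨x, hx⟩
    · rw [he]; exact Set.finite_empty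
    haveI : IsFinite (snd K H).left := inferInstanceAs (IsFinite (pullback.snd K.hom H.hom))
    refine (((snd K H).left.finite_preimage_singleton x).image ((fst K H ≫ i) * snd K H).left).subset ?_
    intro x' hx'
    obtain ⟨z, hz1, hz2⟩ := Scheme.Pullback.exists_preimage_pullback (f := h.left) (g := h.left) x' x
      ((show h.left x' = y from hx').trans (show h.left x = y from hx).symm)
    refine ⟨hpb.isoPullback.inv z, ?_, ?_⟩
    · show (hpb.isoPullback.inv ≫ (snd K H).left) z = x
      rw [← hz2]
      exact congrArg (fun m : pullback h.left h.left ⟶ H.left => m z) hpb.isoPullback_inv_snd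
    · rw [← hz1]
      exact congrArg (fun m : pullback h.left h.left ⟶ H.left => m z) hpb.isoPullback_inv_fst
  exact IsFinite.of_isProper_of_locallyQuasiFinite h.left

end Groth.Agent.Chev24
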