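import Groth.Agent.Chev24.Structure
import Groth.Agent.H23.RatProductK
import Groth.Agent.AlgGrp25.LinPart
import Groth.Agent.AlgGrp25.AffToProper

/-! The largest smooth connected affine subgroup of an algebraic group over an algebraically closed field. -/

set_option linter.style.haveILetI false

open CategoryTheory AlgebraicGeometry MonoidalCategory CartesianMonoidalCategory MonObj Limits IsLocalRing

namespace Groth.Agent.Chev24

universe u

variable {k : Type u} [Field k]

/-- The identity component of a smooth group, with its factorization property. -/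
theorem exists_neutral (G : Over (Spec (CommRingCat.of k))) [GrpObj G] [Smooth G.hom] [QuasiCompact G.hom] :
    ∃ (G₀ : Over (Spec (CommRingCat.of k))) (_ : GrpObj G₀) (c : G₀ ⟶ G),
      IsMonHom c ∧ IsClosedImmersion c.left ∧ IsOpenImmersion c.left ∧ Smooth G₀.hom ∧ QuasiCompact G₀.hom ∧
      ConnectedSpace G₀.left ∧
      ∀ (H : Over (Spec (CommRingCat.of k))) [GrpObj H] [ConnectedSpace H.left] (h : H ⟶ G) [IsMonHom h],
        ∃ f : H ⟶ G₀, IsMonHom f ∧ f ≫ c = h := by
  obtain ⟨G₀, _, c, hcm, hcc, hcf, hcr, hgi, hcs⟩ := GrpSchLib.exists_identityComponent (G := G)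
  haveI := hcm; haveI := hcc; haveI := hcf; haveI := hgi; haveI := hcs
  haveI : LocallyOfFiniteType G₀.hom := by rw [← Over.w c]; infer_instance
  haveI : IsLocallyNoetherian G.left := LocallyOfFiniteType.isLocallyNoetherian G.hom
  haveI : LocallyOfFinitePresentation c.left := inferInstance
  haveI : IsOpenImmersion c.left := IsOpenImmersion.of_flat_of_mono c.left
  haveI : Smooth G₀.hom := by rw [← Over.w c]; infer_instance
  haveI : IrreducibleSpace G₀.left := GeometricallyIrreducible.irreducibleSpace_of_subsingleton G₀.hom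
  haveI : Mono c := Over.mono_of_mono_left _
  refine ⟨G₀, inferInstance, c, hcm, hcc, inferInstance, inferInstance,
    (quasiCompact_iff_compactSpace G₀.hom).mpr inferInstance, inferInstance, fun H _ _ h _ => ?_⟩
  have hr : Set.range h.left ⊆ Set.range c.left := by
    rw [hcr]
    refine (isConnected_range h.left.continuous).subset_connectedComponent ⟨η[H].left (closedPoint k), ?_⟩
    exact congrArg (fun m : 𝟙_ (Over (Spec (CommRingCat.of k))) ⟶ G => m.left (closedPoint k)) (IsMonHom.one_hom h)
  let f : H ⟶ G₀ := Over.homMk (IsOpenImmersion.lift c.left h.left hr)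
    (by rw [← Over.w c, IsOpenImmersion.lift_fac_assoc, Over.w h])
  have hf : f ≫ c = h := Over.OverMorphism.ext (IsOpenImmersion.lift_fac _ _ _)
  haveI : IsMonHom (f ≫ c) := by rw [hf]; infer_instance
  exact ⟨f, AlgGrp25.isMonHom_of_comp_mono f c, hf⟩

variable [IsAlgClosed k]

/-- The largest smooth connected affine subgroup is normal, and the identity component modulo it is an
abelian variety. -/
theorem exists_affPart (G : Over (Spec (CommRingCat.of k))) [GrpObj G] [Smooth G.hom] [QuasiCompact G.hom] :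
    ∃ (N : Over (Spec (CommRingCat.of k))) (_ : GrpObj N) (i : N ⟶ G),
      IsMonHom i ∧ IsClosedImmersion i.left ∧ Smooth N.hom ∧ ConnectedSpace N.left ∧ IsAffine N.left ∧
      AlgGrp.IsNormalHom i ∧
      ∀ (H : Over (Spec (CommRingCat.of k))) [GrpObj H] [Smooth H.hom] [ConnectedSpace H.left] [IsAffine H.left]
        (h : H ⟶ G) [IsMonHom h], ∃ f : H ⟶ N, f ≫ i = h := by
  obtain ⟨G₀, _, c, hcm, hcc, -, hG₀s, hG₀q, hG₀c, hfac⟩ := exists_neutral G
  haveI := hcm; haveI := hcc; haveI := hG₀s; haveI := hG₀q; haveI := hG₀c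
  obtain ⟨L, Q, _, _, l, q, hlm, hlc, hLs, hLc, hLa, -, hqm, hqf, hqs, hqk, hQp, hQs, hQc⟩ :=
    exists_chevalley (G := G₀)
  haveI := hlm; haveI := hlc; haveI := hLs; haveI := hLc; haveI := hLa; haveI := hqm; haveI := hQp
  have key : ∀ (H : Over (Spec (CommRingCat.of k))) [GrpObj H] [Smooth H.hom] [ConnectedSpace H.left] [IsAffine H.left]
      (h : H ⟶ G) [IsMonHom h], ∃ f : H ⟶ L, f ≫ l ≫ c = h := fun H _ _ _ _ h _ => by
    obtain ⟨f, hfm, hf⟩ := hfac H h
    haveI := hfm
    have h1 : f ≫ q = toUnit H ≫ η[Q] := (eq_one_of_affine_of_proper (f ≫ q)).trans Hom.one_def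
    exact ⟨hqk.lift f (toUnit H) h1, by rw [← Category.assoc, hqk.lift_fst, hf]⟩
  haveI : IsClosedImmersion (l ≫ c).left := by rw [Over.comp_left]; infer_instance
  refine ⟨L, inferInstance, l ≫ c, inferInstance, inferInstance, hLs, hLc, hLa, ?_, key⟩
  refine AlgGrp25.LinPart.isNormalHom_of_points (l ≫ c) fun g => ?_
  obtain ⟨f, hf⟩ := key L ((l ≫ c) ≫ AlgGrp25.LinPart.conj g)
  exact ⟨f, hf⟩

omit [IsAlgClosed k] in
/-- A pointed morphism from a connected smooth group to an abelian variety is a homomorphism. -/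
theorem isMonHom_of_one_toAV {G B : Over (Spec (CommRingCat.of k))} [GrpObj G] [GrpObj B] [Smooth G.hom]
    [ConnectedSpace G.left] [IsProper B.hom] [Smooth B.hom] [ConnectedSpace B.left] (f : G ⟶ B)
    (hf : η[G] ≫ f = η[B]) : IsMonHom f := by
  haveI : IsSeparated G.hom := GrpSchLib.AntiAffine.isSeparated_grp G
  haveI := AlgGrpH24.geometricallyIntegral_grp G
  haveI := AlgGrpH24.geometricallyIntegral_grp B
  haveI := isCommMonObj_of_isProper_of_geometricallyIntegral B
  have e1 : ∀ (T : Over (Spec (CommRingCat.of k))), (1 : T ⟶ G) ≫ f = 1 := fun T => by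
    rw [Hom.one_def, Category.assoc, hf, ← Hom.one_def]
  let d : G ⊗ G ⟶ B := ((fst G G * snd G G) ≫ f) * ((fst G G ≫ f) * (snd G G ≫ f))⁻¹
  have hd : d = toUnit _ ≫ η[B] := by
    refine H23.RatProductK.eq_const η[G] η[G] η[B] d ?_ ?_ <;>
    · rw [← Hom.one_def, ← Hom.one_def]
      simp only [d, MonObj.comp_mul, GrpObj.comp_inv, lift_fst_assoc, lift_snd_assoc, ← Category.assoc, lift_fst,
        lift_snd, Category.id_comp, e1, _root_.mul_one, _root_.one_mul, mul_inv_cancel]
  rw [← Hom.one_def, mul_inv_eq_one] at hd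
  refine ⟨hf, ?_⟩
  rw [show μ[G] = fst G G * snd G G by rw [Hom.mul_def, lift_fst_snd, Category.id_comp], hd, Hom.mul_def,
    ← lift_map, lift_fst_snd, Category.id_comp]

end Groth.Agent.Chev24
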