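import Groth.Agent.Chev24.AffPart
import Groth.Agent.GrpSchLib.ImageFlat

/-! Over an algebraically closed field a smooth group has an affine normal subgroup with proper quotient. -/

set_option linter.style.haveILetI false

open CategoryTheory AlgebraicGeometry MonoidalCategory CartesianMonoidalCategory MonObj Limits IsLocalRing

namespace Groth.Agent.Chev24

universe u

variable {k : Type u} [Field k] [IsAlgClosed k]

/-- A smooth group with universally closed identity component is universally closed. -/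
theorem universallyClosed_of_neutral {G G₀ : Over (Spec (CommRingCat.of k))} [GrpObj G] [GrpObj G₀] [Smooth G.hom]
    [QuasiCompact G.hom] (c : G₀ ⟶ G) [IsMonHom c] [IsClosedImmersion c.left] [IsOpenImmersion c.left]
    [UniversallyClosed G₀.hom] [ConnectedSpace G₀.left]
    (hfac : ∀ (H : Over (Spec (CommRingCat.of k))) [GrpObj H] [ConnectedSpace H.left] (h : H ⟶ G) [IsMonHom h],
      ∃ f : H ⟶ G₀, IsMonHom f ∧ f ≫ c = h) : UniversallyClosed G.hom := by
  haveI : Mono c := Over.mono_of_mono_left _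
  haveI : IsSeparated G.hom := GrpSchLib.AntiAffine.isSeparated_grp G
  have hn : AlgGrp.IsNormalHom c := AlgGrp25.LinPart.isNormalHom_of_points c fun g => by
    obtain ⟨f, -, hf⟩ := hfac G₀ (c ≫ AlgGrp25.LinPart.conj g)
    exact ⟨f, hf⟩
  obtain ⟨R, _, r, hrm, hrs, hrf, -, hRl, hRq, hRsep, hrk⟩ := AlgGrpH24.exists_quotient_grp c hn
  haveI := hrm; haveI := hrs; haveI := hrf; haveI := hRl; haveI := hRq; haveI := hRsep
  haveI : UniversallyClosed r.left := universallyClosed_quotient c r hrk
  have hfin := finite_image_of_open_subgroup c η[G₀] (IsMonHom.one_hom c) (𝟙 G) r (by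
    rw [Category.id_comp, hrk.w, ← Hom.one_def])
  rw [Category.id_comp, r.left.surjective.range_eq] at hfin
  haveI : Finite R.left := Set.finite_univ_iff.1 hfin
  haveI : LocallyQuasiFinite R.hom := locallyQuasiFinite_iff_finite_preimage_singleton.2 fun _ => Set.toFinite _
  haveI : IsFinite R.hom := IsFinite.of_locallyQuasiFinite R.hom
  rw [← Over.w r]; infer_instance

/-- A smooth group has a largest smooth connected affine normal subgroup and its quotient is proper. -/
theorem exists_affPart_properQuot (G : Over (Spec (CommRingCat.of k))) [GrpObj G] [Smooth G.hom] [QuasiCompact G.hom] :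
    ∃ (N : Over (Spec (CommRingCat.of k))) (_ : GrpObj N) (i : N ⟶ G),
      IsMonHom i ∧ IsClosedImmersion i.left ∧ Smooth N.hom ∧ ConnectedSpace N.left ∧ IsAffine N.left ∧
      AlgGrp.IsNormalHom i ∧
      (∃ (Q : Over (Spec (CommRingCat.of k))) (_ : GrpObj Q) (q : G ⟶ Q),
        IsMonHom q ∧ Surjective q.left ∧ Flat q.left ∧ AlgGrp.IsKernel i q ∧ IsProper Q.hom) ∧
      ∀ (H : Over (Spec (CommRingCat.of k))) [GrpObj H] [Smooth H.hom] [ConnectedSpace H.left] [IsAffine H.left]
        (h : H ⟶ G) [IsMonHom h], ∃ f : H ⟶ N, f ≫ i = h := by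
  obtain ⟨N, _, i, him, hic, hNs, hNc, hNa, hNn, hmax⟩ := exists_affPart G
  haveI := him; haveI := hic; haveI := hNs; haveI := hNc; haveI := hNa
  obtain ⟨Q, _, q, hqm, hqs, hqf, hqp, hQl, hQq, hQsep, hqk⟩ := AlgGrpH24.exists_quotient_grp i hNn
  haveI := hqm; haveI := hqs; haveI := hqf; haveI := hqp; haveI := hQl; haveI := hQq; haveI := hQsep
  haveI : Smooth Q.hom := GrpSchLib.smooth_of_quotient q
  obtain ⟨G₀, _, c, hcm, hcc, hco, hG₀s, hG₀q, hG₀c, -⟩ := exists_neutral G
  haveI := hcm; haveI := hcc; haveI := hco; haveI := hG₀s; haveI := hG₀q; haveI := hG₀c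
  obtain ⟨Q₁, _, d, hdm, hdc, hdo, hQ₁s, hQ₁q, hQ₁c, hfac⟩ := exists_neutral Q
  haveI := hdm; haveI := hdc; haveI := hdo; haveI := hQ₁s; haveI := hQ₁q; haveI := hQ₁c
  obtain ⟨L, A, _, _, l, α, hlm, hlc, hLs, hLc, hLa, -, hαm, hαf, hαs, hαk, hAp, -, -⟩ :=
    exists_chevalley (G := G₀)
  haveI := hlm; haveI := hlc; haveI := hLs; haveI := hLc; haveI := hLa; haveI := hαm; haveI := hαf; haveI := hαs
  haveI := hAp
  obtain ⟨h, hhm, hh⟩ := hfac G₀ (c ≫ q)
  haveI := hhm
  haveI : IrreducibleSpace Q₁.left := by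
    haveI := AlgGrpH24.geometricallyIntegral_grp Q₁
    exact GeometricallyIrreducible.irreducibleSpace_of_subsingleton Q₁.hom
  haveI : IsReduced Q₁.left := H23.RigidGamma.isReduced_of_smooth Q₁.hom
  haveI : IsDominant h.left := by
    have h1 : Set.range h.left = d.left ⁻¹' (q.left '' Set.range c.left) := by
      ext y
      constructor
      · rintro ⟨x, rfl⟩
        exact ⟨c.left x, ⟨x, rfl⟩, (congrArg (fun m : G₀ ⟶ Q => m.left x) hh).symm⟩
      · rintro ⟨_, ⟨x, rfl⟩, hx⟩
        exact ⟨x, d.left.isOpenEmbedding.injective ((congrArg (fun m : G₀ ⟶ Q => m.left x) hh).trans hx)⟩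
    have ho : IsOpen (Set.range h.left) := by
      rw [h1]
      exact (q.left.isOpenMap _ c.left.isOpenEmbedding.isOpen_range).preimage d.left.continuous
    exact ⟨ho.dense (Set.range_nonempty_iff_nonempty.mpr ⟨η[G₀].left (closedPoint k)⟩)⟩
  haveI : IsSchemeTheoreticallyDominant h.left := IsSchemeTheoreticallyDominant.of_isDominant h.left
  haveI := (GrpSchLib.ImageFlat.flat_surjective_of_dominant h).2
  haveI : Mono d := Over.mono_of_mono_left _
  obtain ⟨f, hf⟩ := hmax L (l ≫ c)
  obtain ⟨e, hem, hαe, -⟩ := Groth.Agent.S3280.result k G₀ L A Q₁ α l hαk h (by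
    rw [← cancel_mono d, Category.assoc, hh, ← reassoc_of% hf, hqk.w, ← Category.assoc, comp_toUnit,
      Category.assoc, IsMonHom.one_hom])
  haveI : Surjective e.left := by
    haveI : Surjective (α.left ≫ e.left) := by rw [← Over.comp_left, hαe]; infer_instance
    exact Surjective.of_comp α.left e.left
  haveI : UniversallyClosed (e.left ≫ Q₁.hom) := by rw [Over.w]; infer_instance
  haveI : UniversallyClosed Q₁.hom := UniversallyClosed.of_comp_surjective e.left Q₁.hom
  haveI : UniversallyClosed Q.hom := universallyClosed_of_neutral d hfac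
  exact ⟨N, inferInstance, i, him, hic, hNs, hNc, hNa, hNn, ⟨Q, inferInstance, q, hqm, hqs, hqf, hqk, {}⟩, hmax⟩

end Groth.Agent.Chev24
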