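import Groth.Agent.Chev24.AffPart

/-! The quotient by the largest affine subgroup, and auxiliary facts on products of subgroups. -/

set_option linter.style.haveILetI false

open CategoryTheory AlgebraicGeometry MonoidalCategory CartesianMonoidalCategory MonObj Limits IsLocalRing

namespace Groth.Agent.Chev24

universe u

variable {k : Type u} [Field k]

/-- A surjective product `H · N` gives a surjective product `N · H` for a normal `N`. -/
theorem surjective_mul_swap {G N H : Over (Spec (CommRingCat.of k))} [GrpObj G] [GrpObj N] [GrpObj H] (i : N ⟶ G)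
    (hN : AlgGrp.IsNormalHom i) (h : H ⟶ G) [Surjective ((i ⊗ₘ h) ≫ μ[G]).left] :
    Surjective ((h ⊗ₘ i) ≫ μ[G]).left := by
  obtain ⟨n', hn'⟩ := hN (N ⊗ H) (snd N H ≫ h)⁻¹ (fst N H)
  rw [inv_inv] at hn'
  let ψ : N ⊗ H ⟶ H ⊗ N := lift (snd N H) n'
  have e : ψ ≫ (h ⊗ₘ i) ≫ μ[G] = (i ⊗ₘ h) ≫ μ[G] := by
    have h1 : (i ⊗ₘ h) ≫ μ[G] = (fst N H ≫ i) * (snd N H ≫ h) := by
      rw [Hom.mul_def, ← lift_map, lift_fst_snd, Category.id_comp]
    rw [lift_map_assoc, ← Hom.mul_def, ← hn', h1]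
    group
  haveI : Surjective (ψ.left ≫ ((h ⊗ₘ i) ≫ μ[G]).left) := by rw [← Over.comp_left, e]; assumption
  exact Surjective.of_comp ψ.left _

variable [IsAlgClosed k]

/-- A largest affine normal subgroup contains every affine subgroup. -/
theorem exists_factor_affPart {G : Over (Spec (CommRingCat.of k))} [GrpObj G] [Smooth G.hom] [QuasiCompact G.hom]
    {N : Over (Spec (CommRingCat.of k))} (i : N ⟶ G)
    (hNmax : ∀ (N' : Over (Spec (CommRingCat.of k))) [GrpObj N'] (i' : N' ⟶ G) [IsMonHom i'] [IsClosedImmersion i'.left]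
      [Smooth N'.hom] [ConnectedSpace ↥N'.left] [IsAffine N'.left], AlgGrp.IsNormalHom i' → ∃ f : N' ⟶ N, f ≫ i = i')
    (H : Over (Spec (CommRingCat.of k))) [GrpObj H] [Smooth H.hom] [ConnectedSpace H.left] [IsAffine H.left]
    (h : H ⟶ G) [IsMonHom h] : ∃ f : H ⟶ N, f ≫ i = h := by
  obtain ⟨N₀, _, i₀, him, hic, hNs, hNc, hNa, hNn, hmax⟩ := exists_affPart G
  haveI := him; haveI := hic; haveI := hNs; haveI := hNc; haveI := hNa
  obtain ⟨f, hf⟩ := hmax H h
  obtain ⟨g, hg⟩ := hNmax N₀ i₀ hNn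
  exact ⟨f ≫ g, by rw [Category.assoc, hg, hf]⟩

/-- The quotient of a connected group by its largest affine subgroup is an abelian variety. -/
theorem exists_affQuot {G : Over (Spec (CommRingCat.of k))} [GrpObj G] [Smooth G.hom] [QuasiCompact G.hom]
    [ConnectedSpace G.left] {N : Over (Spec (CommRingCat.of k))} [GrpObj N] (i : N ⟶ G) [IsMonHom i]
    [IsClosedImmersion i.left] (hN : AlgGrp.IsNormalHom i)
    (hNmax : ∀ (N' : Over (Spec (CommRingCat.of k))) [GrpObj N'] (i' : N' ⟶ G) [IsMonHom i'] [IsClosedImmersion i'.left]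
      [Smooth N'.hom] [ConnectedSpace ↥N'.left] [IsAffine N'.left], AlgGrp.IsNormalHom i' → ∃ f : N' ⟶ N, f ≫ i = i') :
    ∃ (A : Over (Spec (CommRingCat.of k))) (_ : GrpObj A) (α : G ⟶ A), IsMonHom α ∧ Flat α.left ∧ Surjective α.left ∧
      AlgGrp.IsKernel i α ∧ IsProper A.hom ∧ Smooth A.hom ∧ ConnectedSpace A.left := by
  obtain ⟨L, Q, _, _, l, q, hlm, hlc, hLs, hLc, hLa, hLn, hqm, hqf, hqs, hqk, hQp, -, -⟩ := exists_chevalley (G := G)
  haveI := hlm; haveI := hlc; haveI := hLs; haveI := hLc; haveI := hLa; haveI := hqm; haveI := hqf; haveI := hqs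
  haveI := hQp
  obtain ⟨A, _, α, hαm, hαs, hαf, -, hAl, hAq, hAsep, hαk⟩ := AlgGrpH24.exists_quotient_grp i hN
  haveI := hαm; haveI := hαs; haveI := hαf; haveI := hAl; haveI := hAq; haveI := hAsep
  obtain ⟨f, hf⟩ := hNmax L l hLn
  obtain ⟨e, hem, hqe, -⟩ := Groth.Agent.S3280.result k G L Q A q l hqk α (by
    rw [← hf, Category.assoc, hαk.w, ← Category.assoc, comp_toUnit])
  haveI : Surjective e.left := by
    haveI : Surjective (q.left ≫ e.left) := by rw [← Over.comp_left, hqe]; infer_instance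
    exact Surjective.of_comp q.left e.left
  haveI : UniversallyClosed (e.left ≫ A.hom) := by rw [Over.w]; infer_instance
  haveI : UniversallyClosed A.hom := UniversallyClosed.of_comp_surjective e.left A.hom
  exact ⟨A, inferInstance, α, hαm, hαf, hαs, hαk, {}, GrpSchLib.smooth_of_quotient α,
    α.left.surjective.connectedSpace α.left.continuous⟩

/-- A finite connected smooth group over an algebraically closed field is trivial. -/
theorem isIso_hom_of_proper_of_affine {H : Over (Spec (CommRingCat.of k))} [GrpObj H] [Smooth H.hom]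
    [ConnectedSpace H.left] [IsProper H.hom] [IsAffine H.left] : IsIso H.hom := by
  have h : (𝟙 H : H ⟶ H) = 1 := eq_one_of_affine_of_proper (𝟙 H)
  exact ⟨⟨η[H].left, (congrArg CommaMorphism.left h).symm, Over.w η[H]⟩⟩

end Groth.Agent.Chev24
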