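import Groth.Agent.Chev24.Pts
import Groth.Agent.AlgGrpH24.Cover
import Groth.Agent.Triage.ZMTBir
import Groth.Agent.GrpSchLib.AntiAffineHom

/-! A map from a punctured curve to a group extends if its difference map has finitely many limits at the puncture. -/

set_option linter.style.haveILetI false

open CategoryTheory AlgebraicGeometry MonoidalCategory CartesianMonoidalCategory MonObj Limits IsLocalRing

namespace Groth.Agent.Chev24

universe u

variable {k : Type u} [Field k]

/-- The graph of the difference map of `γ` inside `(C × C) × G`. -/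
noncomputable def diffGraph {C C₀ G : Over (Spec (CommRingCat.of k))} [GrpObj G] (j : C₀ ⟶ C) (γ : C₀ ⟶ G) :
    C₀ ⊗ C₀ ⟶ (C ⊗ C) ⊗ G :=
  lift (j ⊗ₘ j) ((fst C₀ C₀ ≫ γ) * (snd C₀ C₀ ≫ γ)⁻¹)

/-- The limit values of the difference map at the puncture. -/
def IsLimitValue {C C₀ G : Over (Spec (CommRingCat.of k))} [GrpObj G] (c : 𝟙_ (Over (Spec (CommRingCat.of k))) ⟶ C)
    (j : C₀ ⟶ C) (γ : C₀ ⟶ G) (g : 𝟙_ (Over (Spec (CommRingCat.of k))) ⟶ G) : Prop :=
  pt (lift (lift c c) g) ∈ closure (Set.range (diffGraph j γ).left)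

variable [IsAlgClosed k]

theorem exists_extension_of_limit {C C₀ G : Over (Spec (CommRingCat.of k))} [Smooth C.hom] [IsSeparated C.hom]
    [QuasiCompact C.hom] [IsIntegral C.left] [GrpObj G] [LocallyOfFiniteType G.hom] [QuasiCompact G.hom]
    (c : 𝟙_ (Over (Spec (CommRingCat.of k))) ⟶ C) (j : C₀ ⟶ C) [IsOpenImmersion j.left]
    (hj : Set.range j.left = {pt c}ᶜ) (hne : Nonempty C₀.left) (γ : C₀ ⟶ G)
    (hlim : {g | IsLimitValue c j γ g}.Finite) :
    ∃ (V : C.left.Opens) (γ' : op V ⟶ G), pt c ∈ V ∧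
      ∀ (T : Over (Spec (CommRingCat.of k))) (a : T ⟶ C₀) (b : T ⟶ op V), a ≫ j = b ≫ opι V → a ≫ γ = b ≫ γ' := by
  haveI : IsSeparated G.hom := GrpSchLib.AntiAffine.isSeparated_grp G
  haveI : LocallyOfFiniteType C₀.hom := by rw [← Over.w j]; infer_instance
  haveI : IsSeparated C₀.hom := by rw [← Over.w j]; infer_instance
  haveI := hne
  haveI : IsIntegral C₀.left := isIntegral_of_isOpenImmersion j.left
  let B := C ⊗ C
  let B₀ := C₀ ⊗ C₀
  let P := B ⊗ G
  let j₂ : B₀ ⟶ B := j ⊗ₘ j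
  let gr : B₀ ⟶ P := diffGraph j γ
  let π : P ⟶ B := fst B G
  have hgr : gr ≫ π = j₂ := lift_fst _ _
  haveI : IsIntegral B.left := isIntegral_tensor C C
  haveI : IsIntegral B₀.left := isIntegral_tensor C₀ C₀
  haveI : LocallyOfFiniteType B.hom := lft_tensor C C
  haveI : LocallyOfFiniteType P.hom := lft_tensor B G
  haveI : IsSeparated B.hom := separated_tensor C C
  haveI : IsSeparated P.hom := separated_tensor B G
  haveI : QuasiCompact B.hom := qc_tensor C C
  haveI : QuasiCompact P.hom := qc_tensor B G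
  haveI hj₂ : IsOpenImmersion j₂.left := by
    rw [show j₂ = (j ▷ C₀) ≫ (C ◁ j) from tensorHom_def _ _, Over.comp_left]
    haveI : IsOpenImmersion (j ▷ C₀).left := AlgGrpH24.property_whiskerRight' j C₀ @IsOpenImmersion ‹_›
    haveI : IsOpenImmersion (C ◁ j).left := AlgGrpH24.property_whiskerLeft' C j @IsOpenImmersion ‹_›
    infer_instance
  -- the closure of the graph
  have hZc : IsClosed (closure (Set.range gr.left)) := isClosed_closure
  obtain ⟨Z₀, z, hzi, hZr, hzr⟩ := H23.RedSub.exists_reduced_subscheme P.left hZc.isLocallyClosed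
  haveI := hzi; haveI := hZr
  haveI : IsClosedImmersion z := .of_isPreimmersion _ (by rw [hzr]; exact hZc)
  let Z : Over (Spec (CommRingCat.of k)) := Over.mk (z ≫ P.hom)
  let ζ : Z ⟶ P := Over.homMk z rfl
  haveI : IsClosedImmersion ζ.left := inferInstanceAs (IsClosedImmersion z)
  haveI : IsReduced Z.left := hZr
  obtain ⟨g₀, hg₀⟩ := H23.RedSub.exists_lift_closed gr.left z (by rw [hzr]; exact subset_closure)
  let gZ : B₀ ⟶ Z := Over.homMk g₀ (by
    show g₀ ≫ z ≫ P.hom = _
    rw [reassoc_of% hg₀, Over.w])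
  have hgZ : gZ ≫ ζ = gr := Over.OverMorphism.ext hg₀
  haveI : IsDominant gZ.left := ⟨by
    intro x
    rw [ζ.left.isEmbedding.closure_eq_preimage_closure_image]
    show ζ.left x ∈ closure (ζ.left '' Set.range gZ.left)
    rw [← Set.range_comp, ← TopCat.coe_comp, ← Scheme.Hom.comp_base, ← Over.comp_left, hgZ]
    exact hzr.le ⟨x, rfl⟩⟩
  haveI : IrreducibleSpace Z.left :=
    { isPreirreducible_univ := by
        rw [← (gZ.left.denseRange).closure_range, ← Set.image_univ]
        exact (PreirreducibleSpace.isPreirreducible_univ.image gZ.left gZ.left.continuous.continuousOn).closure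
      toNonempty := ⟨gZ.left (Classical.arbitrary _)⟩ }
  haveI : IsIntegral Z.left := isIntegral_of_irreducibleSpace_of_isReduced _
  let p : Z ⟶ B := ζ ≫ π
  have hgp : gZ ≫ p = j₂ := by rw [← Category.assoc, hgZ, hgr]
  haveI : LocallyOfFiniteType Z.hom := inferInstanceAs (LocallyOfFiniteType (z ≫ P.hom))
  haveI : QuasiCompact Z.hom := inferInstanceAs (QuasiCompact (z ≫ P.hom))
  haveI : IsSeparated Z.hom := inferInstanceAs (IsSeparated (z ≫ P.hom))
  haveI : LocallyOfFiniteType p.left := by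
    haveI : LocallyOfFiniteType (p.left ≫ B.hom) := by rw [Over.w]; infer_instance
    exact locallyOfFiniteType_of_comp p.left B.hom
  haveI : QuasiCompact p.left := by
    haveI : QuasiCompact (p.left ≫ B.hom) := by rw [Over.w]; infer_instance
    exact QuasiCompact.of_comp p.left B.hom
  haveI : IsSeparated p.left := by
    haveI : IsSeparated (p.left ≫ B.hom) := by rw [Over.w]; infer_instance
    exact IsSeparated.of_comp p.left B.hom
  -- over the punctured square the closure is the graph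
  let U₂ : B.left.Opens := j₂.left.opensRange
  haveI : IsIso (p.left ∣_ U₂) := by
    let V := p.left ⁻¹ᵁ U₂
    have hV : Set.range gZ.left ⊆ (V : Set Z.left) := by
      rintro _ ⟨x, rfl⟩
      show p.left (gZ.left x) ∈ Set.range j₂.left
      exact ⟨x, by rw [← hgp]; rfl⟩
    obtain ⟨gV, hgV⟩ := exists_lift_opι V gZ hV
    haveI : IsDominant gV.left := ⟨by
      intro x
      rw [V.ι.isEmbedding.closure_eq_preimage_closure_image]
      show V.ι x ∈ closure (V.ι '' Set.range gV.left)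
      rw [← Set.range_comp, ← TopCat.coe_comp, ← Scheme.Hom.comp_base,
        show gV.left ≫ V.ι = gZ.left from congrArg CommaMorphism.left hgV]
      exact gZ.left.denseRange (V.ι x)⟩
    haveI : IsReduced V.toScheme := isReduced_of_isOpenImmersion V.ι
    have hinv : gV.left ≫ (p.left ∣_ U₂) ≫ U₂.ι = j₂.left := by
      rw [morphismRestrict_ι, ← hgp, ← hgV]; rfl
    let e := IsOpenImmersion.isoOfRangeEq j₂.left U₂.ι (by rw [Scheme.Opens.range_ι]; rfl)
    have he : e.hom ≫ U₂.ι = j₂.left := IsOpenImmersion.isoOfRangeEq_hom_fac _ _ _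
    have h1 : gV.left ≫ (p.left ∣_ U₂) = e.hom := by
      rw [← cancel_mono U₂.ι, Category.assoc, hinv, he]
    refine ⟨e.inv ≫ gV.left, ?_, by rw [Category.assoc, h1, Iso.inv_hom_id]⟩
    refine ext_of_isDominant_of_isSeparated (V.ι ≫ Z.hom) ?_ gV.left (by
      rw [← Category.assoc, h1, Category.comp_id, Iso.hom_inv_id_assoc])
    simp only [Category.assoc, Category.id_comp]
    have w1 : gV.left ≫ V.ι ≫ Z.hom = B₀.hom := Over.w gV
    rw [w1, show B₀.hom = j₂.left ≫ B.hom from (Over.w j₂).symm, ← he, Category.assoc, Iso.inv_hom_id_assoc,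
      morphismRestrict_ι_assoc, Over.w p]
  -- the point over the puncture
  let z₁ : 𝟙_ (Over (Spec (CommRingCat.of k))) ⟶ P := lift (lift c c) η[G]
  have hz₁ : pt z₁ ∈ closure (Set.range gr.left) := by
    -- limit of the diagonal
    let dg : C ⟶ P := lift (lift (𝟙 C) (𝟙 C)) (1 : C ⟶ G)
    have hdg : j ≫ dg = lift (𝟙 C₀) (𝟙 C₀) ≫ gr := by
      apply CartesianMonoidalCategory.hom_ext
      · simp [dg, gr, diffGraph, j₂]
      · simp [dg, gr, diffGraph, B, MonObj.comp_mul, GrpObj.comp_inv, MonObj.comp_one]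
    haveI : IsDominant j.left := ⟨j.left.isOpenEmbedding.isOpen_range.dense ⟨_, ⟨hne.some, rfl⟩⟩⟩
    have : c ≫ dg = z₁ := by
      apply CartesianMonoidalCategory.hom_ext
      · simp [dg, z₁]
      · simp [dg, z₁, MonObj.comp_one]
        rw [Hom.one_def, toUnit_unique (toUnit _) (𝟙 _), Category.id_comp]
    rw [← this, pt_comp]
    refine closure_mono ?_ (image_closure_subset_closure_image dg.left.continuous ⟨pt c, j.left.denseRange (pt c), rfl⟩)
    rintro _ ⟨_, ⟨x, rfl⟩, rfl⟩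
    exact ⟨(lift (𝟙 C₀) (𝟙 C₀)).left x, (congrArg (fun m : C₀ ⟶ P => m.left x) hdg).symm⟩
  obtain ⟨z₀, hz₀⟩ : ∃ z₀ : Z.left, ζ.left z₀ = pt z₁ := hzr.ge hz₁
  have hb : pt z₁ = z₁.left (closedPoint k) := rfl
  have hpz : p.left z₀ = pt (lift c c) := by
    show π.left (ζ.left z₀) = _
    rw [hz₀, ← pt_comp, lift_fst]
  haveI : JacobsonSpace Z.left := LocallyOfFiniteType.jacobsonSpace (Y := Spec _) Z.hom
  have hfib : (p.left ⁻¹' {p.left z₀}).Finite ∧ ∀ y ∈ p.left ⁻¹' {p.left z₀}, IsClosed ({y} : Set Z.left) := by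
    let F := p.left ⁻¹' {p.left z₀}
    have hF : IsClosed F := by
      show IsClosed (p.left ⁻¹' {p.left z₀})
      rw [hpz]; exact (isClosed_pt _).preimage p.left.continuous
    let S := F ∩ closedPoints Z.left
    have hS : S.Finite := by
      refine Set.Finite.of_finite_image (f := ζ.left) ((hlim.image fun g => pt (lift (lift c c) g)).subset ?_)
        ζ.left.isEmbedding.injective.injOn
      rintro _ ⟨y, ⟨hyF, hyc⟩, rfl⟩
      obtain ⟨t, rfl⟩ := exists_pt y hyc
      have hfst : (t ≫ ζ) ≫ π = lift c c := by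
        refine Over.OverMorphism.ext (AlgebraicGeometry.ext_of_apply_closedPoint_eq B.hom (Over.w ((t ≫ ζ) ≫ π)) (Over.w (lift c c)) ?_)
        exact Eq.trans hyF hpz
      have hts : t ≫ ζ = lift (lift c c) ((t ≫ ζ) ≫ snd B G) := by
        apply CartesianMonoidalCategory.hom_ext
        · rw [lift_fst]; exact hfst
        · rw [lift_snd]
      refine ⟨(t ≫ ζ) ≫ snd B G, ?_, by
        show pt (lift (lift c c) ((t ≫ ζ) ≫ snd B G)) = _
        rw [← hts, pt_comp]⟩
      show pt (lift (lift c c) ((t ≫ ζ) ≫ snd B G)) ∈ closure (Set.range gr.left)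
      rw [← hts, pt_comp]
      exact hzr.le ⟨_, rfl⟩
    have hSc : IsClosed S := by
      have e : S = ⋃ y ∈ S, {y} := (Set.biUnion_of_singleton S).symm
      rw [e]
      exact hS.isClosed_biUnion fun y hy => hy.2
    have hFS : F ⊆ S := by
      intro y hy
      by_contra hyS
      obtain ⟨w, ⟨hwF, hwS⟩, hwc⟩ :=
        nonempty_inter_closedPoints (Z := F ∩ Sᶜ) ⟨y, hy, hyS⟩ (hF.isLocallyClosed.inter hSc.isOpen_compl.isLocallyClosed)
      exact hwS ⟨hwF, hwc⟩
    exact ⟨hS.subset hFS, fun y hy => (hFS hy).2⟩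
  have hqf : z₀ ∈ p.left.quasiFiniteLocus := by
    rw [Scheme.Hom.mem_quasiFiniteLocus, Scheme.Hom.quasiFiniteAt_iff_isOpen_singleton_asFiber]
    let e := p.left.fiberHomeo (p.left z₀)
    haveI : Finite (p.left.fiber (p.left z₀)) := by
      haveI := hfib.1.to_subtype
      exact Finite.of_equiv _ e.symm.toEquiv
    haveI : T1Space (p.left.fiber (p.left z₀)) := ⟨fun x => by
      have : ({x} : Set (p.left.fiber (p.left z₀))) = (p.left.fiberι _) ⁻¹' {p.left.fiberι _ x} :=
        Set.ext fun y => ⟨fun h => congrArg _ h, fun h => e.injective (Subtype.ext h)⟩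
      rw [this]
      exact (hfib.2 _ (e x).2).preimage (p.left.fiberι _).continuous⟩
    exact isOpen_discrete _
  let Q := p.left.quasiFiniteLocus
  have hgenU : ∀ {W : Scheme.{u}} [IsIntegral W] (O : W.Opens), (O : Set W).Nonempty → genericPoint W ∈ O :=
    fun O hO => H23.RatExtend.genericPoint_mem O hO.choose_spec
  haveI : Nonempty Q.toScheme := ⟨⟨z₀, hqf⟩⟩
  haveI : IsLocallyNoetherian Z.left := LocallyOfFiniteType.isLocallyNoetherian Z.hom
  haveI : CompactSpace Z.left := QuasiCompact.compactSpace_of_compactSpace Z.hom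
  haveI : IsNoetherian Z.left := {}
  haveI : IsIntegral Q.toScheme := isIntegral_of_isOpenImmersion Q.ι
  haveI hopen : IsOpenImmersion (Q.ι ≫ p.left) := by
    have hU₂ne : (U₂ : Set B.left).Nonempty := ⟨_, Classical.arbitrary B₀.left, rfl⟩
    have hpre : ((p.left ⁻¹ᵁ U₂ : Z.left.Opens) : Set Z.left).Nonempty :=
      ⟨gZ.left (Classical.arbitrary _), Classical.arbitrary _, by rw [← hgp]; rfl⟩
    have hgp' : p.left (genericPoint Z.left) = genericPoint B.left := by
      refine ((genericPoint_specializes _).antisymm ?_).eq.symm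
      refine specializes_iff_mem_closure.2 ?_
      have h1 : p.left '' closure {genericPoint Z.left} ⊆ closure {p.left (genericPoint Z.left)} := by
        simpa using image_closure_subset_closure_image (s := {genericPoint Z.left}) p.left.continuous
      have h2 : (U₂ : Set B.left) ⊆ closure {p.left (genericPoint Z.left)} := by
        rintro _ ⟨x, rfl⟩
        exact h1 ⟨gZ.left x, by rw [genericPoint_closure]; trivial, by rw [← hgp]; rfl⟩
      exact closure_minimal h2 isClosed_closure ((U₂.isOpen.dense hU₂ne) _)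
    have hgQ : Q.ι (genericPoint Q.toScheme) = genericPoint Z.left := genericPoint_eq_of_isOpenImmersion Q.ι
    refine Triage.ZMTBir.isOpenImmersion_of_birational (fun y => ?_) (Q.ι ≫ p.left) ?_ ?_
    · haveI : Smooth B.hom := inferInstanceAs (Smooth (pullback.fst C.hom C.hom ≫ C.hom))
      haveI := GrpSchLib.isRegularLocalRing_stalk_of_smooth B.hom y
      exact RegLoc6.isIntegrallyClosed_of_isRegularLocalRing _
    · rw [Scheme.Hom.comp_apply, hgQ, hgp']
    · rw [Scheme.Hom.stalkMap_comp]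
      haveI : IsIso (p.left.stalkMap (Q.ι (genericPoint Q.toScheme))) := by
        have hm : Q.ι (genericPoint Q.toScheme) ∈ p.left ⁻¹ᵁ U₂ := hgQ ▸ hgenU _ hpre
        exact ((MorphismProperty.isomorphisms _).arrow_mk_iso_iff
          (morphismRestrictStalkMap p.left U₂ ⟨_, hm⟩)).1 (by
            haveI : IsOpenImmersion (p.left ∣_ U₂) := inferInstance
            exact (IsOpenImmersion.iff_isIso_stalkMap.1 ‹IsOpenImmersion (p.left ∣_ U₂)›).2 _)
      haveI : IsIso (Q.ι.stalkMap (genericPoint Q.toScheme)) := inferInstance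
      exact IsIso.comp_isIso' ‹_› ‹_›
  let W : B.left.Opens := (Q.ι ≫ p.left).opensRange
  have hW : pt (lift c c) ∈ W := ⟨⟨z₀, hqf⟩, by
    show π.left (ζ.left z₀) = _
    rw [hz₀, ← pt_comp, lift_fst]⟩
  let s : op W ⟶ Z := Over.homMk ((IsOpenImmersion.lift (Q.ι ≫ p.left) W.ι (by rw [Scheme.Opens.range_ι]; rfl)) ≫ Q.ι) (by
    show (_ ≫ Q.ι) ≫ Z.hom = W.ι ≫ B.hom
    rw [← Over.w p, Category.assoc, ← Category.assoc Q.ι, IsOpenImmersion.lift_fac_assoc])
  have hs : s ≫ p = opι W := Over.OverMorphism.ext ((Category.assoc _ _ _).trans (IsOpenImmersion.lift_fac _ _ _))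
  let h : op W ⟶ G := s ≫ ζ ≫ snd B G
  -- choose the second point away from the puncture
  let ι₂ : C ⟶ B := lift (toUnit C ≫ c) (𝟙 C)
  have hne₂ : ((ι₂.left ⁻¹ᵁ W : C.left.Opens) : Set C.left).Nonempty := ⟨pt c, by
    show ι₂.left (pt c) ∈ W
    rw [← pt_comp, comp_lift, Category.comp_id, ← Category.assoc, toUnit_unique (c ≫ toUnit C) (𝟙 _), Category.id_comp]
    exact hW⟩
  obtain ⟨s₁, hs₁, hs₁'⟩ : ∃ s₁ : 𝟙_ (Over (Spec (CommRingCat.of k))) ⟶ C, pt s₁ ∈ ι₂.left ⁻¹ᵁ W ∧ pt s₁ ∈ Set.range j.left := by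
    obtain ⟨x, hx⟩ := (ι₂.left ⁻¹ᵁ W).isOpen.dense hne₂ |>.inter_open_nonempty _ j.left.isOpenEmbedding.isOpen_range
      ⟨_, hne.some, rfl⟩
    obtain ⟨t, ht⟩ := exists_pt_mem (Z := Set.range j.left ∩ (ι₂.left ⁻¹ᵁ W : C.left.Opens)) ⟨x, hx⟩
      (j.left.isOpenEmbedding.isOpen_range.inter (ι₂.left ⁻¹ᵁ W).isOpen).isLocallyClosed
    exact ⟨t, ht.2, ht.1⟩
  obtain ⟨s₀, hs₀⟩ : ∃ s₀ : 𝟙_ (Over (Spec (CommRingCat.of k))) ⟶ C₀, s₀ ≫ j = s₁ := by
    refine ⟨Over.homMk (IsOpenImmersion.lift j.left s₁.left (by rw [range_pt]; exact Set.singleton_subset_iff.2 hs₁')) ?_,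
      Over.OverMorphism.ext (IsOpenImmersion.lift_fac _ _ _)⟩
    rw [← Over.w j, IsOpenImmersion.lift_fac_assoc, Over.w]
  let ι₁ : C ⟶ B := lift (𝟙 C) (toUnit C ≫ s₁)
  let V : C.left.Opens := ι₁.left ⁻¹ᵁ W
  have hV : pt c ∈ V := by
    show ι₁.left (pt c) ∈ W
    rw [← pt_comp, comp_lift, Category.comp_id, ← Category.assoc, toUnit_unique (c ≫ toUnit C) (𝟙 _), Category.id_comp]
    replace hs₁ : ι₂.left (pt s₁) ∈ W := hs₁
    rwa [← pt_comp, comp_lift, Category.comp_id, ← Category.assoc, toUnit_unique (s₁ ≫ toUnit C) (𝟙 _), Category.id_comp] at hs₁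
  obtain ⟨i₁, hi₁⟩ := exists_lift_opι W (opι V ≫ ι₁) (by
    rintro _ ⟨x, rfl⟩
    exact x.2)
  refine ⟨V, (i₁ ≫ h) * (toUnit (op V) ≫ s₀ ≫ γ), hV, fun T a b hab => ?_⟩
  -- both sides agree
  let w : T ⟶ B₀ := lift a (toUnit T ≫ s₀)
  have hw : (w ≫ gZ) ≫ p = ((b ≫ i₁) ≫ s) ≫ p := by
    rw [Category.assoc, hgp, Category.assoc, hs, Category.assoc, hi₁]
    simp [w, j₂, ι₁, ← hab, hs₀]
  have hkey : (b ≫ i₁) ≫ s = w ≫ gZ := by
    -- the map `p` is a monomorphism on the two open sets involved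
    haveI : Mono (p.left ∣_ U₂ ≫ U₂.ι) := inferInstance
    have hr : ∀ t, ((b ≫ i₁) ≫ s).left t ∈ p.left ⁻¹ᵁ U₂ := fun t => by
      show p.left (((b ≫ i₁) ≫ s).left t) ∈ Set.range j₂.left
      rw [← Scheme.Hom.comp_apply, ← Over.comp_left, ← hw, Category.assoc, hgp]
      exact ⟨w.left t, rfl⟩
    have hr' : ∀ t, (w ≫ gZ).left t ∈ p.left ⁻¹ᵁ U₂ := fun t => by
      show p.left ((w ≫ gZ).left t) ∈ Set.range j₂.left
      rw [← Scheme.Hom.comp_apply, ← Over.comp_left, Category.assoc, hgp]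
      exact ⟨w.left t, rfl⟩
    obtain ⟨l, hl⟩ := exists_lift_opι _ ((b ≫ i₁) ≫ s) (Set.range_subset_iff.2 hr)
    obtain ⟨l', hl'⟩ := exists_lift_opι _ (w ≫ gZ) (Set.range_subset_iff.2 hr')
    have : l.left = l'.left := by
      rw [← cancel_mono (p.left ∣_ U₂ ≫ U₂.ι), morphismRestrict_ι]
      have := congrArg CommaMorphism.left hw.symm
      rw [← hl, ← hl'] at this
      simpa using this
    rw [← hl, ← hl', Over.OverMorphism.ext this]
  simp only [MonObj.comp_mul, h, ← Category.assoc (b ≫ i₁) s, ← Category.assoc b i₁, hkey]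
  rw [Category.assoc w, reassoc_of% hgZ, ← Category.assoc b (toUnit _), comp_toUnit]
  simp [gr, diffGraph, w, B, MonObj.comp_mul, GrpObj.comp_inv]

end Groth.Agent.Chev24
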