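import Groth.Agent.Chev24.StabFun
import Groth.Agent.S15608

/-! The limit values lie in a proper closed subgroup. -/

set_option linter.style.haveILetI false

open CategoryTheory AlgebraicGeometry MonoidalCategory CartesianMonoidalCategory MonObj Limits IsLocalRing
open Groth.Agent.VarDim (deg)

namespace Groth.Agent.Chev24

universe u

variable {k : Type u} [Field k] [IsAlgClosed k]

/-- Two maps from a reduced scheme agreeing on a dense set of rational points agree. -/
theorem eq_of_dense_pts {X A : Over (Spec (CommRingCat.of k))} [LocallyOfFiniteType X.hom] [IsReduced X.left]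
    [IsSeparated A.hom] (f g : X ⟶ A)
    (hS : Dense {z : X.left | ∃ t : 𝟙_ (Over (Spec (CommRingCat.of k))) ⟶ X, pt t = z ∧ t ≫ f = t ≫ g}) : f = g := by
  refine Over.OverMorphism.ext (ext_of_fromSpecResidueField_eq _ _ A.hom _ hS (fun z hz => ?_)
    ((Over.w f).trans (Over.w g).symm))
  obtain ⟨t, rfl, h⟩ := hz
  have h1 : t.left ≫ f.left = t.left ≫ g.left := congrArg CommaMorphism.left h
  rw [← pointOfClosedPoint_factor t, Category.assoc, Category.assoc, Category.assoc, Category.assoc, h1]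

/-- The translation by a rational point. -/
noncomputable def sh {G : Over (Spec (CommRingCat.of k))} [GrpObj G] (g : 𝟙_ (Over (Spec (CommRingCat.of k))) ⟶ G) :
    G ⟶ G :=
  𝟙 G * (toUnit G ≫ g)

omit [IsAlgClosed k] in
theorem comp_sh {G : Over (Spec (CommRingCat.of k))} [GrpObj G] (g x : 𝟙_ (Over (Spec (CommRingCat.of k))) ⟶ G) :
    x ≫ sh g = x * g := by
  rw [sh, MonObj.comp_mul, Category.comp_id, ← Category.assoc, toUnit_unique (x ≫ toUnit G) (𝟙 _), Category.id_comp]

/-- All limit values lie in a smooth closed subgroup which is not everything. -/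
theorem exists_limit_subgroup {C C₀ G : Over (Spec (CommRingCat.of k))} [Smooth C.hom] [IsSeparated C.hom]
    [QuasiCompact C.hom] [IsIntegral C.left] [GrpObj G] [IsCommMonObj G] [Smooth G.hom] [QuasiCompact G.hom]
    [IsIntegral G.left]
    (c : 𝟙_ (Over (Spec (CommRingCat.of k))) ⟶ C) (hc : ringKrullDim (C.left.presheaf.stalk (pt c)) = 1)
    (j : C₀ ⟶ C) [IsOpenImmersion j.left] (hne : Nonempty C₀.left) (γ' : C₀ ⟶ G)
    (hn : 2 ≤ deg G.hom (genericPoint G.left)) :
    ∃ (H : Over (Spec (CommRingCat.of k))) (_ : GrpObj H) (i : H ⟶ G), IsMonHom i ∧ IsClosedImmersion i.left ∧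
      Smooth H.hom ∧ genericPoint G.left ∉ Set.range i.left ∧
      ∀ g, IsLimitValue c j γ' g → pt g ∈ Set.range i.left := by
  haveI : IsSeparated G.hom := GrpSchLib.AntiAffine.isSeparated_grp G
  haveI : IsSeparated (A1 k).hom :=
    inferInstanceAs (IsSeparated (𝔸(PUnit.{u+1}; Spec (CommRingCat.of k)) ↘ Spec (CommRingCat.of k)))
  obtain ⟨U, fb, hU, hnc, hinv⟩ := exists_invariant_fun c hc j hne γ' hn
  haveI : Mono (opι U) := Over.mono_of_mono_left _
  let Inv : (𝟙_ (Over (Spec (CommRingCat.of k))) ⟶ G) → Prop := fun g =>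
    ∀ x y : 𝟙_ (Over (Spec (CommRingCat.of k))) ⟶ op U, (x ≫ opι U) * g = y ≫ opι U → x ≫ fb = y ≫ fb
  have hmul : ∀ g g', Inv g → Inv g' → Inv (g * g') := by
    intro g g' hg hg' x y hxy
    let O : G.left.Opens := U ⊓ (sh (g * g')).left ⁻¹ᵁ U
    obtain ⟨a, ha⟩ := exists_lift_opι U (opι O) (by rintro _ ⟨z, rfl⟩; exact z.2.1)
    obtain ⟨b, hb⟩ := exists_lift_opι U (opι O ≫ sh (g * g')) (by rintro _ ⟨z, rfl⟩; exact z.2.2)
    obtain ⟨x', hx'⟩ := exists_lift_opι O (x ≫ opι U) (by
      rw [range_pt, Set.singleton_subset_iff]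
      refine ⟨(x.left (closedPoint k : Spec (CommRingCat.of k))).2, ?_⟩
      show (sh (g * g')).left (pt (x ≫ opι U)) ∈ U
      rw [← pt_comp, comp_sh, hxy]
      exact (y.left (closedPoint k : Spec (CommRingCat.of k))).2)
    haveI : LocallyOfFiniteType (op O).hom := inferInstanceAs (LocallyOfFiniteType (O.ι ≫ G.hom))
    haveI : IsReduced (op O).left := isReduced_of_isOpenImmersion O.ι
    haveI : Mono (opι O) := Over.mono_of_mono_left _
    let S : (op O).left.Opens := O.ι ⁻¹ᵁ ((sh g).left ⁻¹ᵁ U)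
    have hSd : Dense (S : Set (op O).left) := by
      haveI : IsIntegral O.toScheme := by
        haveI : Nonempty O.toScheme := ⟨x'.left (closedPoint k : Spec (CommRingCat.of k))⟩
        exact isIntegral_of_isOpenImmersion O.ι
      haveI : PreirreducibleSpace (op O).left := inferInstanceAs (PreirreducibleSpace O.toScheme)
      refine S.isOpen.dense ?_
      obtain ⟨u, hu⟩ := exists_pt_mem (X := G) hU U.isOpen.isLocallyClosed
      have h2 : ((sh g).left ⁻¹' (U : Set G.left)).Nonempty := ⟨pt (u * g⁻¹), by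
        show (sh g).left (pt (u * g⁻¹)) ∈ U
        rw [← pt_comp, comp_sh, inv_mul_cancel_right]
        exact hu⟩
      obtain ⟨z, hzO, hz⟩ := nonempty_preirreducible_inter O.isOpen ((sh g).left ⁻¹ᵁ U).isOpen
        ⟨_, (x'.left (closedPoint k : Spec (CommRingCat.of k))).2⟩ h2
      exact ⟨⟨z, hzO⟩, hz⟩
    have key : a ≫ fb = b ≫ fb := by
      refine eq_of_pts _ _ hSd S.isOpen fun z hz => ?_
      obtain ⟨m, hm⟩ := exists_lift_opι U ((z ≫ opι O) ≫ sh g) (by
        rw [range_pt, Set.singleton_subset_iff]; exact hz)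
      rw [← Category.assoc, ← Category.assoc, hg (z ≫ a) m (by rw [Category.assoc, ha, hm, comp_sh]),
        hg' m (z ≫ b) (by rw [hm, comp_sh, Category.assoc, hb, ← Category.assoc, comp_sh, _root_.mul_assoc])]
    have e1 : x' ≫ a = x := by rw [← cancel_mono (opι U), Category.assoc, ha, hx']
    have e2 : x' ≫ b = y := by
      rw [← cancel_mono (opι U), Category.assoc, hb, ← Category.assoc, hx', comp_sh, hxy]
    rw [← e1, ← e2, Category.assoc, Category.assoc, key]
  let Sg : Subgroup (𝟙_ (Over (Spec (CommRingCat.of k))) ⟶ G) :=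
    { carrier := {g | Inv g}
      mul_mem' := fun {g g'} hg hg' => hmul g g' hg hg'
      one_mem' := fun x y hxy => by
        rw [_root_.mul_one, cancel_mono] at hxy
        rw [hxy]
      inv_mem' := fun {g} hg x y hxy => (hg y x (by rw [← hxy, inv_mul_cancel_right])).symm }
  obtain ⟨H, _, i, hi, hic, hHs, hir⟩ := Groth.Agent.S15608.result k G Sg
  refine ⟨H, _, i, hi, hic, hHs, fun hgen => ?_, fun g hg => ?_⟩
  swap
  · rw [hir]
    exact subset_closure ⟨g, hinv g hg, rfl⟩
  -- the invariance group would be dense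
  have hdense : Dense ((fun s : (𝟙_ (Over (Spec (CommRingCat.of k))) ⟶ G) => pt s) '' (Sg : Set _)) := by
    intro z
    have h1 : closure {genericPoint G.left} ⊆ closure ((fun s : (𝟙_ (Over (Spec (CommRingCat.of k))) ⟶ G) => pt s) '' (Sg : Set _)) := by
      refine closure_minimal ?_ isClosed_closure
      rw [Set.singleton_subset_iff]
      exact hir.le hgen
    exact h1 (by rw [genericPoint_closure]; trivial)
  obtain ⟨u, hu⟩ := exists_pt_mem (X := G) hU U.isOpen.isLocallyClosed
  obtain ⟨x₀, hx₀⟩ := exists_lift_opι U u (by rw [range_pt, Set.singleton_subset_iff]; exact hu)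
  let O : G.left.Opens := (sh u).left ⁻¹ᵁ U
  haveI : LocallyOfFiniteType (op O).hom := inferInstanceAs (LocallyOfFiniteType (O.ι ≫ G.hom))
  haveI : IsReduced (op O).left := isReduced_of_isOpenImmersion O.ι
  haveI : Mono (opι O) := Over.mono_of_mono_left _
  obtain ⟨m, hm⟩ := exists_lift_opι U (opι O ≫ sh u) (by rintro _ ⟨z, rfl⟩; exact z.2)
  have hshsh : sh u⁻¹ ≫ sh u = 𝟙 G := by
    simp only [sh, MonObj.comp_mul, Category.comp_id]
    rw [← Category.assoc, comp_toUnit, _root_.mul_assoc, ← MonObj.comp_mul, inv_mul_cancel, MonObj.comp_one,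
      _root_.mul_one]
  obtain ⟨v, hv⟩ := exists_lift_opι O (opι U ≫ sh u⁻¹) (by
    rintro _ ⟨z, rfl⟩
    show (sh u).left ((opι U ≫ sh u⁻¹).left z) ∈ U
    rw [← Scheme.Hom.comp_apply, ← Over.comp_left, Category.assoc, hshsh, Category.comp_id]
    exact z.2)
  have hvm : v ≫ m = 𝟙 _ := by
    rw [← cancel_mono (opι U), Category.assoc, hm, reassoc_of% hv, hshsh, Category.comp_id, Category.id_comp]
  refine hnc (x₀ ≫ fb) ?_
  have key : m ≫ fb = toUnit (op O) ≫ x₀ ≫ fb := by
    refine eq_of_dense_pts _ _ ?_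
    intro z
    haveI : IsOpenImmersion (opι O).left := inferInstanceAs (IsOpenImmersion O.ι)
    rw [(opι O).left.isOpenEmbedding.isEmbedding.closure_eq_preimage_closure_image]
    refine closure_mono ?_ (hdense.open_subset_closure_inter O.isOpen (show (opι O).left z ∈ O from z.2))
    rintro _ ⟨hw, g, hg, rfl⟩
    obtain ⟨t, ht⟩ := exists_lift_opι O g (by rw [range_pt, Set.singleton_subset_iff]; exact hw)
    refine ⟨pt t, ⟨t, rfl, ?_⟩, by rw [← pt_comp, ht]⟩
    have e1 : (x₀ ≫ opι U) * g = (t ≫ m) ≫ opι U := by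
      rw [Category.assoc, hm, ← Category.assoc, ht, comp_sh, hx₀, _root_.mul_comm]
    rw [← Category.assoc, ← hg x₀ (t ≫ m) e1, ← Category.assoc, toUnit_unique (t ≫ toUnit _) (𝟙 _),
      Category.id_comp]
  have : v ≫ m ≫ fb = v ≫ toUnit (op O) ≫ x₀ ≫ fb := congrArg (v ≫ ·) key
  rw [reassoc_of% hvm] at this
  exact this.trans (by rw [← Category.assoc, comp_toUnit])

end Groth.Agent.Chev24
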