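import Groth.Agent.Chev24.CurveAffine
import Groth.Agent.Chev24.ExtCurve
import Groth.Agent.Chev24.LimitSub
import Groth.Agent.AlgGrpH24.QuotGrp
import Groth.Agent.AlgGrpH24.GrpInt
import Groth.Agent.GrpSchLib.IdentityComp
import Groth.Agent.S7449
import Groth.Agent.NagataLib.Scheme
import Groth.Agent.Eg2Curve.Basic
import Groth.Agent.Eg2RatExt.Basic

/-! A commutative connected group which is not proper has an affine subgroup of positive dimension. -/

set_option linter.style.haveILetI false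

open CategoryTheory AlgebraicGeometry MonoidalCategory CartesianMonoidalCategory MonObj Limits IsLocalRing
open Groth.Agent.VarDim (deg)

namespace Groth.Agent.Chev24

universe u

variable {k : Type u} [Field k]

/-- The translation square of a quotient by a subgroup. -/
theorem isPullback_kernel {N G Q : Over (Spec (CommRingCat.of k))} [GrpObj N] [GrpObj G] [GrpObj Q] (i : N ⟶ G)
    [Mono i] (π : G ⟶ Q) [IsMonHom π] (hker : AlgGrp.IsKernel i π) :
    IsPullback ((fst N G ≫ i) * snd N G) (snd N G) π π := by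
  have hi : ∀ {T : Over (Spec (CommRingCat.of k))} (n : T ⟶ N), (n ≫ i) ≫ π = 1 := fun n => by
    rw [Category.assoc, hker.w, ← Category.assoc, comp_toUnit, ← Hom.one_def]
  refine IsPullback.of_isLimit' ⟨by rw [MonObj.mul_comp, hi, _root_.one_mul]⟩ (PullbackCone.IsLimit.mk _
    (fun s => lift (hker.lift (s.fst * s.snd⁻¹) (toUnit _) (by
      rw [MonObj.mul_comp, GrpObj.inv_comp, s.condition, mul_inv_cancel, ← Hom.one_def])) s.snd)
    (fun s => ?_) (fun s => lift_snd _ _) fun s m h1 h2 => ?_)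
  · rw [MonObj.comp_mul, lift_fst_assoc, lift_snd, hker.lift_fst, inv_mul_cancel_right]
  · apply CartesianMonoidalCategory.hom_ext
    · rw [lift_fst, ← cancel_mono i, hker.lift_fst, ← h1, ← h2, MonObj.comp_mul, mul_inv_cancel_right,
        Category.assoc]
    · rw [lift_snd, h2]

/-- The quotient by a universally closed subgroup is universally closed. -/
theorem universallyClosed_quotient {N G Q : Over (Spec (CommRingCat.of k))} [GrpObj N] [GrpObj G] [GrpObj Q]
    [LocallyOfFiniteType G.hom] [QuasiCompact G.hom] [LocallyOfFiniteType Q.hom]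
    (i : N ⟶ G) [Mono i] [UniversallyClosed N.hom] (π : G ⟶ Q) [IsMonHom π] [Surjective π.left] [Flat π.left]
    (hker : AlgGrp.IsKernel i π) : UniversallyClosed π.left := by
  haveI : IsSeparated Q.hom := GrpSchLib.AntiAffine.isSeparated_grp Q
  haveI : QuasiCompact (π.left ≫ Q.hom) := by rw [Over.w]; infer_instance
  haveI : QuasiCompact π.left := QuasiCompact.of_comp π.left Q.hom
  have hsnd : UniversallyClosed (snd N G).left :=
    inferInstanceAs (UniversallyClosed (pullback.snd N.hom G.hom))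
  exact MorphismProperty.of_isPullback_of_descendsAlong (P := @UniversallyClosed)
    (Q := @Surjective ⊓ @Flat ⊓ @QuasiCompact) ((isPullback_kernel i π hker).map (Over.forget _)).flip
    ⟨⟨‹_›, ‹_›⟩, ‹_›⟩ hsnd

theorem eq_of_pt_eq [IsAlgClosed k] {X : Over (Spec (CommRingCat.of k))} [LocallyOfFiniteType X.hom]
    {s t : 𝟙_ (Over (Spec (CommRingCat.of k))) ⟶ X} (h : pt s = pt t) : s = t :=
  Over.OverMorphism.ext (AlgebraicGeometry.ext_of_apply_closedPoint_eq X.hom (Over.w s) (Over.w t) h)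

/-- Closed immersions do not change the dimension of points. -/
theorem deg_of_closedImmersion {X Y : Over (Spec (CommRingCat.of k))} [LocallyOfFiniteType X.hom]
    [LocallyOfFiniteType Y.hom] (f : X ⟶ Y) [IsClosedImmersion f.left] (x : X.left) :
    deg X.hom x = deg Y.hom (f.left x) := by
  rw [VarDim.deg_eq_add f.left Y.hom (Over.w f) x]
  have h : VarDim.fdeg f.left x = 0 := by rw [VarDim.fdeg, VarDim.rdeg_preimmersion, map_zero]
  rw [h, add_zero]

variable [IsAlgClosed k]

/-- A point group is proper. -/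
theorem universallyClosed_of_deg_zero {G : Over (Spec (CommRingCat.of k))} [GrpObj G] [LocallyOfFiniteType G.hom]
    [IsIntegral G.left] (h : deg G.hom (genericPoint G.left) = 0) : UniversallyClosed G.hom := by
  haveI : IsSeparated G.hom := GrpSchLib.AntiAffine.isSeparated_grp G
  have hc := (VarDim.closedPoint_iff_deg_eq_zero G.hom _).2 h
  have hall : ∀ x : G.left, x = genericPoint G.left := fun x => by
    have h2 : x ∈ closure ({genericPoint G.left} : Set G.left) := (genericPoint_specializes x).mem_closure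
    rwa [hc.closure_eq] at h2
  obtain ⟨t, ht⟩ := exists_pt (genericPoint G.left) hc
  haveI : IsClosedImmersion t.left := by
    haveI : IsClosedImmersion (t.left ≫ G.hom) := by rw [Over.w]; exact inferInstanceAs (IsClosedImmersion (𝟙 _))
    exact IsClosedImmersion.of_comp t.left G.hom
  haveI : Surjective t.left := ⟨fun x => ⟨closedPoint k, ht.trans (hall x).symm⟩⟩
  haveI : IsIso t.left := isIso_of_isClosedImmersion_of_surjective t.left
  haveI : IsIso (t.left ≫ G.hom) := by rw [Over.w]; exact inferInstanceAs (IsIso (𝟙 _))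
  haveI : IsIso G.hom := IsIso.of_isIso_comp_left t.left G.hom
  infer_instance

/-- The image of a subgroup in the quotient by its open subgroup is finite. -/
theorem finite_image_of_open_subgroup {K H G Q : Over (Spec (CommRingCat.of k))} [GrpObj H] [GrpObj G] [GrpObj Q]
    [LocallyOfFiniteType H.hom] [QuasiCompact H.hom] (c : K ⟶ H) [IsOpenImmersion c.left]
    (e : 𝟙_ (Over (Spec (CommRingCat.of k))) ⟶ K) (he : e ≫ c = η[H])
    (i : H ⟶ G) [IsMonHom i] (π : G ⟶ Q) [IsMonHom π] (hker : c ≫ i ≫ π = 1) :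
    (Set.range (i ≫ π).left).Finite := by
  haveI : CompactSpace H.left := QuasiCompact.compactSpace_of_compactSpace H.hom
  haveI : JacobsonSpace H.left := LocallyOfFiniteType.jacobsonSpace (Y := Spec _) H.hom
  have hiso : ∀ t : 𝟙_ (Over (Spec (CommRingCat.of k))) ⟶ H, IsIso (sh t).left := fun t => by
    have h : ∀ a b : 𝟙_ (Over (Spec (CommRingCat.of k))) ⟶ H, a * b = 1 → sh a ≫ sh b = 𝟙 H := fun a b hab => by
      simp only [sh, MonObj.comp_mul, Category.comp_id]
      rw [← Category.assoc, comp_toUnit, _root_.mul_assoc, ← MonObj.comp_mul, hab, MonObj.comp_one, _root_.mul_one]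
    exact ⟨(sh t⁻¹).left, congrArg CommaMorphism.left (h _ _ (mul_inv_cancel t)),
      congrArg CommaMorphism.left (h _ _ (inv_mul_cancel t))⟩
  let N : (𝟙_ (Over (Spec (CommRingCat.of k))) ⟶ H) → Set H.left := fun t => Set.range (c ≫ sh t).left
  have hopen : ∀ t, IsOpen (N t) := fun t => by
    haveI := hiso t
    exact (c.left ≫ (sh t).left).isOpenEmbedding.isOpen_range
  have hmem : ∀ t, pt t ∈ N t := fun t => ⟨pt e, by
    rw [← pt_comp, ← Category.assoc, he, comp_sh, MonObj.one_eq_one, _root_.one_mul]⟩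
  have hconst : ∀ t, (i ≫ π).left '' N t ⊆ {pt (t ≫ i ≫ π)} := fun t => by
    rintro _ ⟨_, ⟨z, rfl⟩, rfl⟩
    have e1 : (c ≫ sh t) ≫ i ≫ π = toUnit K ≫ t ≫ i ≫ π := by
      simp only [sh, MonObj.comp_mul, Category.comp_id, MonObj.mul_comp, Category.assoc]
      rw [hker, _root_.one_mul, ← Category.assoc c, comp_toUnit]
    have e2 := congrArg (fun m : K ⟶ Q => m.left z) e1
    refine e2.trans ?_
    show (t ≫ i ≫ π).left ((toUnit K).left z) = _
    exact congrArg (t ≫ i ≫ π).left (Subsingleton.elim (α := Spec (CommRingCat.of k)) _ _)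
  have hcov : Set.univ ⊆ ⋃ t, N t := by
    intro y _
    by_contra hy
    obtain ⟨z, hz, hzc⟩ := nonempty_inter_closedPoints (Z := (⋃ t, N t)ᶜ) ⟨y, hy⟩
      (isOpen_iUnion hopen).isClosed_compl.isLocallyClosed
    obtain ⟨t, rfl⟩ := exists_pt z hzc
    exact hz (Set.mem_iUnion.2 ⟨t, hmem t⟩)
  obtain ⟨s, hs⟩ := isCompact_univ.elim_finite_subcover N hopen hcov
  refine ((s.finite_toSet.biUnion fun t _ => Set.finite_singleton (pt (t ≫ i ≫ π)))).subset ?_
  rintro _ ⟨y, rfl⟩
  obtain ⟨t, ht, hyt⟩ := Set.mem_iUnion₂.1 (hs (Set.mem_univ y))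
  exact Set.mem_biUnion ht (hconst t ⟨y, hyt, rfl⟩)

/-- Limit values go to limit values. -/
theorem isLimitValue_comp {C C₀ G Q : Over (Spec (CommRingCat.of k))} [GrpObj G] [GrpObj Q]
    [LocallyOfFiniteType G.hom] [LocallyOfFiniteType C.hom] [LocallyOfFiniteType Q.hom] [IsSeparated C.hom] [IsSeparated Q.hom]
    (c : 𝟙_ (Over (Spec (CommRingCat.of k))) ⟶ C) (j : C₀ ⟶ C) (gam : C₀ ⟶ G) (π : G ⟶ Q) [IsMonHom π]
    [UniversallyClosed π.left] (q : 𝟙_ (Over (Spec (CommRingCat.of k))) ⟶ Q) (hq : IsLimitValue c j (gam ≫ π) q) :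
    ∃ g, IsLimitValue c j gam g ∧ g ≫ π = q := by
  haveI : LocallyOfFiniteType (C ⊗ C).hom := lft_tensor C C
  haveI : LocallyOfFiniteType ((C ⊗ C) ⊗ G).hom := lft_tensor (C ⊗ C) G
  haveI : LocallyOfFiniteType ((C ⊗ C) ⊗ Q).hom := lft_tensor (C ⊗ C) Q
  haveI : IsSeparated (C ⊗ C).hom := separated_tensor C C
  haveI : IsSeparated ((C ⊗ C) ⊗ Q).hom := separated_tensor (C ⊗ C) Q
  haveI : JacobsonSpace ((C ⊗ C) ⊗ G).left := LocallyOfFiniteType.jacobsonSpace (Y := Spec _) ((C ⊗ C) ⊗ G).hom
  let F := (C ⊗ C) ◁ π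
  haveI : UniversallyClosed F.left := AlgGrpH24.property_whiskerLeft' (C ⊗ C) π @UniversallyClosed ‹_›
  have hgr : diffGraph j (gam ≫ π) = diffGraph j gam ≫ F := by
    simp only [diffGraph, F]
    rw [lift_whiskerLeft, MonObj.mul_comp, GrpObj.inv_comp, Category.assoc, Category.assoc]
  let Z := closure (Set.range (diffGraph j gam).left)
  have hZ : closure (Set.range (diffGraph j (gam ≫ π)).left) ⊆ F.left '' Z := by
    refine closure_minimal ?_ (F.left.isClosedMap _ isClosed_closure)
    rintro _ ⟨z, rfl⟩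
    rw [hgr]
    exact ⟨(diffGraph j gam).left z, subset_closure ⟨z, rfl⟩, rfl⟩
  let p := lift (lift c c) q
  obtain ⟨z, hz, hzp⟩ := hZ hq
  obtain ⟨w, ⟨hwZ, hwp⟩, hwc⟩ := nonempty_inter_closedPoints (Z := Z ∩ F.left ⁻¹' {pt p}) ⟨z, hz, hzp⟩
    (isClosed_closure.inter ((isClosed_pt p).preimage F.left.continuous)).isLocallyClosed
  obtain ⟨t, rfl⟩ := exists_pt w hwc
  have h1 : t ≫ F = p := eq_of_pt_eq ((pt_comp t F).trans hwp)
  have ht : t = lift (lift c c) (t ≫ snd (C ⊗ C) G) := by
    apply CartesianMonoidalCategory.hom_ext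
    · rw [lift_fst]
      have := congrArg (· ≫ fst (C ⊗ C) Q) h1
      simp only [F, p, Category.assoc, whiskerLeft_fst, lift_fst] at this
      exact this
    · rw [lift_snd]
  refine ⟨t ≫ snd (C ⊗ C) G, ?_, ?_⟩
  · show pt (lift (lift c c) (t ≫ snd (C ⊗ C) G)) ∈ Z
    rw [← ht]
    exact hwZ
  · have := congrArg (· ≫ snd (C ⊗ C) Q) h1
    simp only [F, p, Category.assoc, whiskerLeft_snd, lift_snd] at this
    rw [Category.assoc]; exact this

/-- A smooth affine curve with a rational point witnessing failure of properness. -/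
theorem exists_witness (G : Over (Spec (CommRingCat.of k))) [LocallyOfFiniteType G.hom] [QuasiCompact G.hom]
    (hU : ¬ UniversallyClosed G.hom) :
    ∃ (C C₀ : Over (Spec (CommRingCat.of k))) (c : 𝟙_ (Over (Spec (CommRingCat.of k))) ⟶ C) (j : C₀ ⟶ C)
      (gam : C₀ ⟶ G) (K : Type u) (_ : Field K) (_ : Algebra (C.left.presheaf.stalk (pt c)) K)
      (_ : IsFractionRing (C.left.presheaf.stalk (pt c)) K) (kk : Spec (CommRingCat.of K) ⟶ C₀.left),
      Smooth C.hom ∧ IsSeparated C.hom ∧ QuasiCompact C.hom ∧ IsIntegral C.left ∧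
      ringKrullDim (C.left.presheaf.stalk (pt c)) = 1 ∧ IsOpenImmersion j.left ∧
      Set.range j.left = {pt c}ᶜ ∧ Nonempty C₀.left ∧
      kk ≫ j.left = Spec.map (CommRingCat.ofHom (algebraMap (C.left.presheaf.stalk (pt c)) K)) ≫
        C.left.fromSpecStalk (pt c) ∧
      ¬ ∃ l : Spec (C.left.presheaf.stalk (pt c)) ⟶ G.left, l ≫ G.hom = C.left.fromSpecStalk (pt c) ≫ C.hom ∧
        Spec.map (CommRingCat.ofHom (algebraMap (C.left.presheaf.stalk (pt c)) K)) ≫ l = kk ≫ gam.left := by
  have hS : ∀ W : (Spec (CommRingCat.of k)).affineOpens, CAlg.IsNagata Γ(Spec (CommRingCat.of k), W) :=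
    fun W => NagataLib.isNagata_affineOpen (𝟙 _) W
  have h := (Groth.Agent.S7449.result (Spec (CommRingCat.of k)) hS G.hom (𝟙 _) G.hom (Category.comp_id _)).not.1 hU
  push Not at h
  obtain ⟨C, r, hCi, hCl, hCq, hn, c, hc, hd, U, hUc, u, g, hg, hug, kk, hkk, hno⟩ := h
  haveI := hCi; haveI := hCl; haveI := hCq
  have hgr : g = r := (Category.comp_id g).symm.trans hg
  subst hgr
  haveI : LocallyOfFinitePresentation g := inferInstance
  haveI : IsRegularLocalRing (C.presheaf.stalk c) :=
    Eg2Curve.isRegularLocalRing_stalk g (fun x => ⟨inferInstance, hn x⟩) c hd.le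
  have hcs : c ∈ g.smoothLocus := (SmoothReg.mem_smoothLocus_iff_isRegularLocalRing g c).2 inferInstance
  obtain ⟨V, hV, hcV, hVs⟩ := exists_isAffineOpen_mem_and_subset hcs
  haveI : Nonempty V.toScheme := ⟨⟨c, hcV⟩⟩
  let C' : Over (Spec (CommRingCat.of k)) := Over.mk (V.ι ≫ g)
  haveI : LocallyOfFiniteType C'.hom := inferInstanceAs (LocallyOfFiniteType (V.ι ≫ g))
  haveI : IsAffine C'.left := hV
  haveI : Smooth C'.hom := by
    show Smooth (V.ι ≫ g)
    rw [← Scheme.Hom.smoothLocus_eq_top_iff, ← Scheme.Hom.preimage_smoothLocus_eq]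
    exact top_unique fun y _ => hVs (by exact y.2)
  have hcl : IsClosed ({(⟨c, hcV⟩ : V.toScheme)} : Set V.toScheme) := by
    have : ({(⟨c, hcV⟩ : V.toScheme)} : Set V.toScheme) = V.ι ⁻¹' {c} :=
      Set.ext fun y => ⟨fun h => congrArg V.ι h, fun h => V.ι.isOpenEmbedding.injective h⟩
    rw [this]
    exact hc.preimage V.ι.continuous
  obtain ⟨t, ht⟩ := exists_pt (X := C') ⟨c, hcV⟩ hcl
  let U' : C'.left.Opens := V.ι ⁻¹ᵁ U
  let u' : op U' ⟶ G := Over.homMk ((V.ι ∣_ U) ≫ u) (by
    show ((V.ι ∣_ U) ≫ u) ≫ G.hom = U'.ι ≫ V.ι ≫ g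
    rw [Category.assoc, hug, morphismRestrict_ι_assoc])
  let K := FractionRing (C.presheaf.stalk c)
  have main : ∀ y : C'.left, y = ⟨c, hcV⟩ → ringKrullDim (C'.left.presheaf.stalk y) = 1 ∧
      ∃ (_ : Algebra (C'.left.presheaf.stalk y) K) (_ : IsFractionRing (C'.left.presheaf.stalk y) K)
        (k' : Spec (CommRingCat.of K) ⟶ (op U').left),
        k' ≫ (opι U').left = Spec.map (CommRingCat.ofHom (algebraMap (C'.left.presheaf.stalk y) K)) ≫
          C'.left.fromSpecStalk y ∧
        ¬ ∃ l : Spec (C'.left.presheaf.stalk y) ⟶ G.left, l ≫ G.hom = C'.left.fromSpecStalk y ≫ C'.hom ∧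
          Spec.map (CommRingCat.ofHom (algebraMap (C'.left.presheaf.stalk y) K)) ≫ l = k' ≫ u'.left := by
    rintro y rfl
    let e := V.stalkIso ⟨c, hcV⟩
    letI alg : Algebra (V.toScheme.presheaf.stalk ⟨c, hcV⟩) K :=
      ((algebraMap (C.presheaf.stalk c) K).comp e.hom.hom).toAlgebra
    haveI : IsFractionRing (V.toScheme.presheaf.stalk ⟨c, hcV⟩) K :=
      IsFractionRing.of_ringEquiv_left (S := C.presheaf.stalk c) e.commRingCatIsoToRingEquiv fun _ => rfl
    have hfs : Spec.map e.hom ≫ V.toScheme.fromSpecStalk ⟨c, hcV⟩ ≫ V.ι = C.fromSpecStalk c := by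
      erw [← Scheme.SpecMap_stalkMap_fromSpecStalk V.ι (x := ⟨c, hcV⟩), ← Scheme.Opens.stalkIso_inv]
      show Spec.map e.hom ≫ Spec.map e.inv ≫ C.fromSpecStalk c = _
      rw [← Spec.map_comp_assoc, e.inv_hom_id, Spec.map_id, Category.id_comp]
    have halg : Spec.map (CommRingCat.ofHom (algebraMap (V.toScheme.presheaf.stalk ⟨c, hcV⟩) K)) =
        Spec.map (CommRingCat.ofHom (algebraMap (C.presheaf.stalk c) K)) ≫ Spec.map e.hom := by
      rw [← Spec.map_comp]
      rfl
    have hsq := isPullback_morphismRestrict V.ι U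
    let k' : Spec (CommRingCat.of K) ⟶ (op U').left := hsq.lift kk
      (Spec.map (CommRingCat.ofHom (algebraMap (V.toScheme.presheaf.stalk ⟨c, hcV⟩) K)) ≫
        V.toScheme.fromSpecStalk ⟨c, hcV⟩) (by rw [halg, Category.assoc, Category.assoc, hfs, hkk])
    refine ⟨?_, alg, ‹_›, k', hsq.lift_snd _ _ _, ?_⟩
    · rw [← hd]
      exact ringKrullDim_eq_of_ringEquiv e.commRingCatIsoToRingEquiv
    rintro ⟨l, hl1, hl2⟩
    refine hno (Spec.map e.hom ≫ l) ?_ ?_
    · rw [Category.assoc, hl1, ← hfs]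
      simp only [Category.assoc]
      rfl
    · rw [← Category.assoc]
      erw [← halg]
      rw [hl2]
      show k' ≫ (V.ι ∣_ U) ≫ u = _
      rw [← Category.assoc, hsq.lift_fst]
  obtain ⟨hd', alg', hfr, k', hk', hno'⟩ := main (pt t) ht
  haveI : Nonempty C'.left := ⟨(⟨c, hcV⟩ : V.toScheme)⟩
  haveI : IsIntegral C'.left := isIntegral_of_isOpenImmersion V.ι
  refine ⟨C', op U', t, opι U', u', K, inferInstance, alg', hfr, k', inferInstance, inferInstance,
    inferInstance, inferInstance, hd', inferInstanceAs (IsOpenImmersion U'.ι), ?_,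
    ⟨k' (closedPoint K)⟩, hk', hno'⟩
  rw [range_opι, ht]
  show V.ι ⁻¹' (U : Set C) = _
  rw [hUc]
  ext y
  exact not_congr ⟨fun h => V.ι.isOpenEmbedding.injective h, fun h => congrArg V.ι h⟩

theorem isCommMonObj_of_mono {C : Type*} [Category C] [CartesianMonoidalCategory C] [BraidedCategory C] {A B : C}
    [GrpObj A] [GrpObj B] [IsCommMonObj B] (f : A ⟶ B) [IsMonHom f] [Mono f] : IsCommMonObj A :=
  ⟨by rw [← cancel_mono f]; simp only [Category.assoc, IsMonHom.mul_hom]; rw [← BraidedCategory.braiding_naturality_assoc, IsCommMonObj.mul_comm]⟩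

/-- A commutative connected group which is not proper has an affine subgroup of positive dimension. -/
theorem exists_affine_sub_comm {G : Over (Spec (CommRingCat.of k))} [GrpObj G] [IsCommMonObj G] [Smooth G.hom]
    [QuasiCompact G.hom] [ConnectedSpace G.left] (hU : ¬ UniversallyClosed G.hom) :
    ∃ (H : Over (Spec (CommRingCat.of k))) (_ : GrpObj H) (i : H ⟶ G), IsMonHom i ∧ IsClosedImmersion i.left ∧
      Smooth H.hom ∧ ConnectedSpace H.left ∧ IsAffine H.left ∧ Nontrivial H.left := by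
  haveI : IsIntegral G.left := by
    haveI := AlgGrpH24.geometricallyIntegral_grp G
    exact GeometricallyIntegral.isIntegral_of_subsingleton G.hom
  induction hn : deg G.hom (genericPoint G.left) using Nat.strong_induction_on generalizing G with
  | _ n IH => ?_
  haveI : IsSeparated G.hom := GrpSchLib.AntiAffine.isSeparated_grp G
  rcases Nat.lt_or_ge n 1 with h0 | h1
  · exact absurd (universallyClosed_of_deg_zero (by omega)) hU
  rcases Nat.lt_or_ge n 2 with h2 | h2
  · have hd : deg G.hom (genericPoint G.left) = 1 := by omega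
    refine ⟨G, inferInstance, 𝟙 G, inferInstance, inferInstanceAs (IsClosedImmersion (𝟙 _)), inferInstance,
      inferInstance, isAffine_of_curve hd hU, ?_⟩
    obtain ⟨x, hx, hxc⟩ := VarDim.exists_closed_specialization G.hom (genericPoint G.left)
    refine ⟨⟨genericPoint G.left, x, fun e => ?_⟩⟩
    have := (VarDim.closedPoint_iff_deg_eq_zero G.hom x).1 hxc
    rw [← e, hd] at this
    exact one_ne_zero this
  obtain ⟨C, C₀, c, j, gam, K, _, alg, hfr, kk, hCs, hCsep, hCq, hCi, hcd, hjo, hjr, hne, hkk, hno⟩ :=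
    exists_witness G hU
  haveI := hCs; haveI := hCsep; haveI := hCq; haveI := hCi; haveI := hjo; haveI := hne; haveI := hfr
  obtain ⟨H, _, i, hi, hic, hHs, hgen, hlim⟩ := exists_limit_subgroup c hcd j hne gam (hn ▸ h2)
  haveI := hi; haveI := hic; haveI := hHs
  haveI : LocallyOfFiniteType H.hom := inferInstance
  haveI : QuasiCompact H.hom := by rw [← Over.w i]; infer_instance
  obtain ⟨K₀, _, cK, hcm, hcc, hcf, hcr, hgi, hcs⟩ := GrpSchLib.exists_identityComponent (G := H)
  haveI := hcm; haveI := hcc; haveI := hcf; haveI := hgi; haveI := hcs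
  haveI : LocallyOfFiniteType K₀.hom := by rw [← Over.w cK]; infer_instance
  haveI : QuasiCompact K₀.hom := (quasiCompact_iff_compactSpace K₀.hom).mpr inferInstance
  haveI : IsLocallyNoetherian H.left := LocallyOfFiniteType.isLocallyNoetherian H.hom
  haveI : LocallyOfFinitePresentation cK.left := inferInstance
  haveI : IsOpenImmersion cK.left := IsOpenImmersion.of_flat_of_mono cK.left
  haveI : Smooth K₀.hom := by rw [← Over.w cK]; infer_instance
  haveI : IrreducibleSpace K₀.left := GeometricallyIrreducible.irreducibleSpace_of_subsingleton K₀.hom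
  haveI : Mono (cK ≫ i) := by
    haveI : Mono (cK ≫ i).left := by rw [Over.comp_left]; infer_instance
    exact Over.mono_of_mono_left _
  haveI : IsClosedImmersion (cK ≫ i).left := by rw [Over.comp_left]; infer_instance
  by_cases hK : UniversallyClosed K₀.hom
  swap
  · haveI : IsCommMonObj K₀ := isCommMonObj_of_mono (cK ≫ i)
    haveI : IsReduced K₀.left := H23.RigidGamma.isReduced_of_smooth K₀.hom
    haveI : IsIntegral K₀.left := isIntegral_of_irreducibleSpace_of_isReduced _
    have hlt : deg K₀.hom (genericPoint K₀.left) < n := by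
      rw [deg_of_closedImmersion (cK ≫ i), ← hn]
      by_contra h
      refine hgen ?_
      rw [VarDim.eq_of_specializes_of_deg_le G.hom (genericPoint_specializes ((cK ≫ i).left (genericPoint K₀.left)))
        (by omega)]
      exact ⟨cK.left (genericPoint K₀.left), rfl⟩
    obtain ⟨H', _, i', hi', hic', hs', hc', ha', hne'⟩ := IH _ hlt hK ‹_› rfl
    haveI := hi'; haveI := hic'
    exact ⟨H', inferInstance, i' ≫ cK ≫ i, inferInstance, by rw [Over.comp_left]; infer_instance, hs', hc', ha', hne'⟩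
  exfalso
  obtain ⟨Q, _, π, hπm, hπs, hπf, hπp, hQl, hQq, hQsep, hker⟩ :=
    AlgGrpH24.exists_quotient_grp (cK ≫ i) (fun T g x => ⟨x, by rw [_root_.mul_comm g, mul_inv_cancel_right]⟩)
  haveI := hπm; haveI := hπs; haveI := hπf; haveI := hQl; haveI := hQq; haveI := hQsep
  haveI : UniversallyClosed π.left := universallyClosed_quotient (cK ≫ i) π hker
  have hfin : {q | IsLimitValue c j (gam ≫ π) q}.Finite := by
    obtain ⟨e, he⟩ : ∃ e : 𝟙_ (Over (Spec (CommRingCat.of k))) ⟶ K₀, e ≫ cK = η[H] :=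
      ⟨η[K₀], IsMonHom.one_hom cK⟩
    have hf := finite_image_of_open_subgroup cK e he i π (by
      rw [← Category.assoc, hker.w, ← Hom.one_def])
    refine Set.Finite.of_finite_image (hf.subset ?_) fun a _ b _ hab => eq_of_pt_eq hab
    rintro _ ⟨q, hq, rfl⟩
    obtain ⟨g, hg, rfl⟩ := isLimitValue_comp c j gam π q hq
    obtain ⟨y, hy⟩ := hlim g hg
    exact ⟨y, by rw [pt_comp, ← hy]; rfl⟩
  obtain ⟨V, gam', hcV, hgam⟩ := exists_extension_of_limit c j hjr hne (gam ≫ π) hfin
  let R := C.left.presheaf.stalk (pt c)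
  let q₀ : Spec (CommRingCat.of K) ⟶ Spec R := Spec.map (CommRingCat.ofHom (algebraMap R K))
  have hrange : Set.range (C.left.fromSpecStalk (pt c)) ⊆ Set.range V.ι := by
    rw [Scheme.range_fromSpecStalk, Scheme.Opens.range_ι]
    exact fun y hy => Specializes.mem_open hy V.isOpen hcV
  let lV : Spec R ⟶ V.toScheme := IsOpenImmersion.lift V.ι _ hrange
  have hlV : lV ≫ V.ι = C.left.fromSpecStalk (pt c) := IsOpenImmersion.lift_fac _ _ _
  let lQ : Spec R ⟶ Q.left := lV ≫ gam'.left
  have hw : kk ≫ (gam ≫ π).left = q₀ ≫ lQ := by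
    let T : Over (Spec (CommRingCat.of k)) := Over.mk (kk ≫ C₀.hom)
    have := hgam T (Over.homMk kk rfl) (Over.homMk (q₀ ≫ lV) (by
        show (q₀ ≫ lV) ≫ V.ι ≫ C.hom = kk ≫ C₀.hom
        rw [Category.assoc, reassoc_of% hlV]
        erw [← reassoc_of% hkk]
        rw [Over.w]))
      (Over.OverMorphism.ext (by
        show kk ≫ j.left = (q₀ ≫ lV) ≫ V.ι
        rw [hkk, Category.assoc, hlV]
        rfl))
    have := congrArg CommaMorphism.left this
    exact this.trans (Category.assoc _ _ _)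
  haveI : IsDomain R :=
    Function.Injective.isDomain _ (IsFractionRing.injective R K)
  haveI : ValuationRing R := by
    haveI := GrpSchLib.isRegularLocalRing_stalk_of_smooth C.hom (pt c)
    exact Eg2RatExt.valuationRing_of_regular _ hcd.le
  have hE : ValuativeCriterion.Existence π.left := by
    have h : (ValuativeCriterion.Existence ⊓ @QuasiCompact) π.left := by
      rw [← UniversallyClosed.eq_valuativeCriterion]; assumption
    exact h.1
  letI : Algebra R K := alg
  haveI : IsFractionRing R K := hfr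
  obtain ⟨⟨l, hl1, hl2⟩⟩ := (hE { R := R, domain := ‹_›, valuationRing := ‹_›, K := K, algebra := alg, isFractionRing := hfr, i₁ := kk ≫ gam.left, i₂ := lQ, commSq := ⟨by
    rw [Category.assoc, ← Over.comp_left, hw]; rfl⟩ }).exists_lift
  refine hno ⟨l, ?_, hl1⟩
  rw [← Over.w π, reassoc_of% hl2]
  show (lV ≫ gam'.left) ≫ Q.hom = _
  rw [Category.assoc, Over.w gam']
  exact (Category.assoc _ _ _).symm.trans (congrArg (· ≫ C.hom) hlV)

end Groth.Agent.Chev24
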