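import Groth.Agent.Chev24.StabAlg
import Groth.Agent.S10982
import Groth.Agent.FFLib.Exists
import Groth.Agent.AlgGrp25.AntiAff
import Groth.Agent.S3036
import Groth.Agent.SmoothReg.Scheme
import Mathlib.AlgebraicGeometry.ValuativeCriterion

/-! A connected one-dimensional group which is not proper is affine. -/

set_option linter.style.haveILetI false

open CategoryTheory AlgebraicGeometry MonoidalCategory CartesianMonoidalCategory MonObj Limits IsLocalRing
open Groth.Agent.VarDim (deg tdeg resHom baseMap)

namespace Groth.Agent.Chev24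

universe u

variable {k : Type u} [Field k]

/-- The constants in the function field. -/
noncomputable def ffHom {G : Over (Spec (CommRingCat.of k))} [IsIntegral G.left] : k →+* G.left.functionField :=
  (G.left.presheaf.germ ⊤ (genericPoint G.left) trivial).hom.comp (baseMap G.hom)

omit [Field k] in
theorem stalk_over {k : Type u} [Field k] {X : Scheme.{u}} (f : X ⟶ Spec (CommRingCat.of k)) (x : X) :
    X.fromSpecStalk x ≫ f =
      Spec.map (CommRingCat.ofHom ((X.presheaf.germ ⊤ x trivial).hom.comp (baseMap f))) := by
  apply ext_of_isAffine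
  rw [Scheme.Hom.comp_appTop, Scheme.fromSpecStalk_appTop]
  refine (Iso.cancel_iso_inv_left (Scheme.ΓSpecIso (CommRingCat.of k)) _ _).1 ?_
  rw [← Scheme.ΓSpecIso_inv_naturality]
  rfl

variable [IsAlgClosed k]

theorem isFF_functionField {G : Over (Spec (CommRingCat.of k))} [LocallyOfFiniteType G.hom] [IsIntegral G.left]
    (hd : deg G.hom (genericPoint G.left) = 1) :
    letI := (ffHom (G := G)).toAlgebra
    FunFld.IsFunctionField k G.left.functionField := by
  let X := G.left
  letI := (ffHom (G := G)).toAlgebra
  have htr : Algebra.trdeg k X.functionField = 1 := by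
    have h2 := VarDim.deg_eq_tdeg G.hom (genericPoint X)
    rw [hd, Nat.cast_one] at h2
    letI := (resHom G.hom (genericPoint X)).toAlgebra
    have hb : Function.Bijective (X.residue (genericPoint X)).hom :=
      ⟨(X.residue (genericPoint X)).hom.injective, X.residue_surjective (genericPoint X)⟩
    let e : X.functionField ≃ₐ[k] X.residueField (genericPoint X) :=
      AlgEquiv.ofRingEquiv (f := RingEquiv.ofBijective _ hb) fun _ => rfl
    exact e.trdeg_eq.trans h2.symm
  have hess : Algebra.EssFiniteType k X.functionField := by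
    obtain ⟨U, hU, hηU, -⟩ := exists_isAffineOpen_mem_and_subset (x := genericPoint X) (U := (⊤ : X.Opens)) trivial
    haveI : Nonempty U := ⟨⟨_, hηU⟩⟩
    letI := (SmoothReg.affMap G.hom U).toAlgebra
    haveI : Algebra.FiniteType k Γ(X, U) := SmoothReg.finiteType_affMap G.hom hU
    haveI := functionField_isFractionRing_of_isAffineOpen X U hU
    haveI : IsScalarTower k Γ(X, U) X.functionField := IsScalarTower.of_algebraMap_eq fun c => by
      show X.presheaf.germ ⊤ _ _ _ = X.presheaf.germ U _ _ _
      exact (X.presheaf.germ_res_apply (homOfLE (le_top : U ≤ ⊤)) (genericPoint X) hηU _).symm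
    haveI : Algebra.EssFiniteType Γ(X, U) X.functionField := .of_isLocalization _ (nonZeroDivisors Γ(X, U))
    exact Algebra.EssFiniteType.comp k Γ(X, U) X.functionField
  obtain ⟨t, ht⟩ : ∃ t : X.functionField, Transcendental k t := by
    by_contra hno
    push Not at hno
    haveI : Algebra.IsAlgebraic k X.functionField := ⟨fun y => not_not.1 (hno y)⟩
    rw [trdeg_eq_zero] at htr
    exact zero_ne_one htr
  refine ⟨⟨t, ht, ?_⟩, fun y hy => ?_⟩
  · let E := IntermediateField.adjoin k ({t} : Set X.functionField)
    have hind : AlgebraicIndependent k (fun _ : PUnit.{u + 1} => t) := algebraicIndependent_unique_type_iff.2 ht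
    have hB := hind.isTranscendenceBasis_of_trdeg_le_of_finite (by
      rw [htr]; exact (Cardinal.one_le_iff_ne_zero.2 (Cardinal.mk_ne_zero PUnit.{u + 1})))
    haveI : Algebra.IsAlgebraic E X.functionField := by
      have := hB.isAlgebraic_field
      rwa [Set.range_const] at this
    haveI : Algebra.EssFiniteType E X.functionField := Algebra.EssFiniteType.of_comp k E X.functionField
    obtain ⟨S, hS⟩ := IntermediateField.fg_top E X.functionField
    have : FiniteDimensional E (IntermediateField.adjoin E (S : Set X.functionField)) :=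
      IntermediateField.finiteDimensional_adjoin fun x _ => Algebra.IsIntegral.isIntegral x
    rw [hS] at this
    exact Module.Finite.equiv (IntermediateField.topEquiv (F := E) (E := X.functionField)).toLinearEquiv
  · haveI : Algebra.IsAlgebraic k (IntermediateField.adjoin k ({y} : Set X.functionField)) :=
      IntermediateField.isAlgebraic_adjoin_simple hy.isIntegral
    obtain ⟨c, hc⟩ := (IsAlgClosed.algebraMap_bijective_of_isIntegral (k := k)
      (K := IntermediateField.adjoin k ({y} : Set X.functionField))).2
        ⟨y, IntermediateField.mem_adjoin_simple_self k y⟩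
    exact ⟨c, congrArg Subtype.val hc⟩

theorem eq_gen_or_closed {G : Over (Spec (CommRingCat.of k))} [LocallyOfFiniteType G.hom] [IsIntegral G.left]
    (hd : deg G.hom (genericPoint G.left) = 1) (x : G.left) :
    x = genericPoint G.left ∨ IsClosed ({x} : Set G.left) := by
  by_cases h0 : deg G.hom x = 0
  · exact Or.inr ((VarDim.closedPoint_iff_deg_eq_zero G.hom x).2 h0)
  · exact Or.inl (VarDim.eq_of_specializes_of_deg_le G.hom (genericPoint_specializes x) (by omega)).symm

/-- A valuation ring of the function field which is not the local ring of any point. -/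
theorem exists_missing_valuation {G : Over (Spec (CommRingCat.of k))} [LocallyOfFiniteType G.hom] [QuasiCompact G.hom]
    [IsSeparated G.hom] [IsIntegral G.left] (hd : deg G.hom (genericPoint G.left) = 1) (hU : ¬ UniversallyClosed G.hom) :
    ∃ V : ValuationSubring G.left.functionField, (∀ c, ffHom c ∈ V) ∧ V ≠ ⊤ ∧
      ∀ x, (V : Set G.left.functionField) ≠ Set.range (algebraMap (G.left.presheaf.stalk x) G.left.functionField) := by
  classical
  let X := G.left
  let ξ := genericPoint X
  obtain ⟨S, hS⟩ : ∃ S : ValuativeCommSq G.hom, ¬ S.commSq.HasLift := by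
    by_contra! h
    exact hU (UniversallyClosed.of_valuativeCriterion G.hom fun S => h S)
  let p₀ : Spec (CommRingCat.of S.K) := closedPoint S.K
  have hinjR := IsFractionRing.injective S.R S.K
  have hover : ∀ (l : Spec (CommRingCat.of S.R) ⟶ X),
      Spec.map (CommRingCat.ofHom (algebraMap S.R S.K)) ≫ l = S.i₁ → l ≫ G.hom = S.i₂ := by
    intro l hl
    obtain ⟨a, ha⟩ : ∃ a, Spec.map a = l ≫ G.hom := ⟨_, Spec.map_preimage _⟩
    obtain ⟨b, hb⟩ : ∃ b, Spec.map b = S.i₂ := ⟨_, Spec.map_preimage _⟩
    have e : a ≫ CommRingCat.ofHom (algebraMap S.R S.K) = b ≫ CommRingCat.ofHom (algebraMap S.R S.K) :=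
      Spec.map_injective (by rw [Spec.map_comp, Spec.map_comp, ha, hb, reassoc_of% hl, S.commSq.w])
    rw [← ha, ← hb]
    congr 1
    exact CommRingCat.hom_ext (RingHom.ext fun c => hinjR (congrArg (fun m => m.hom c) e))
  rcases eq_gen_or_closed hd (S.i₁ p₀) with hgen | hcl
  swap
  · exfalso
    obtain ⟨t, ht⟩ := exists_pt (X := G) _ hcl
    obtain ⟨ψ, hψ⟩ : ∃ ψ, S.i₁ = ψ ≫ t.left := by
      haveI : IsClosedImmersion (t.left) := by
        haveI : IsClosedImmersion (t.left ≫ G.hom) := by rw [Over.w]; exact inferInstanceAs (IsClosedImmersion (𝟙 _))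
        exact IsClosedImmersion.of_comp t.left G.hom
      obtain ⟨m, hm⟩ := H23.RedSub.exists_lift_closed S.i₁ t.left (by
        rintro _ ⟨z, rfl⟩
        rw [range_pt, ht, Subsingleton.elim (α := Spec (CommRingCat.of S.K)) z p₀]
        rfl)
      exact ⟨m, hm.symm⟩
    refine hS ⟨⟨⟨S.i₂ ≫ t.left, ?_, hover _ ?_⟩⟩⟩ <;>
    · rw [← reassoc_of% S.commSq.w, hψ, Category.assoc, Over.w_assoc]
      exact congrArg (ψ ≫ ·) (Category.id_comp _)
  let φ : X.functionField →+* S.K :=
    (Scheme.stalkClosedPointTo S.i₁).hom.comp (X.presheaf.stalkSpecializes (specializes_of_eq hgen)).hom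
  have hφ : Spec.map (CommRingCat.ofHom φ) ≫ X.fromSpecStalk ξ = S.i₁ := by
    show Spec.map (X.presheaf.stalkSpecializes (specializes_of_eq hgen) ≫ Scheme.stalkClosedPointTo S.i₁) ≫ _ = _
    rw [Spec.map_comp, Category.assoc]
    exact (congrArg (Spec.map (Scheme.stalkClosedPointTo S.i₁) ≫ ·)
      (Scheme.SpecMap_stalkSpecializes_fromSpecStalk (specializes_of_eq hgen))).trans
        (Scheme.Spec_stalkClosedPointTo_fromSpecStalk S.i₁)
  let W : ValuationSubring S.K := ⟨(algebraMap S.R S.K).range, fun z => by
    rcases ValuationRing.isInteger_or_isInteger S.R z with h | h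
    · exact Or.inl h
    · exact Or.inr h⟩
  let V : ValuationSubring X.functionField := W.comap φ
  have nolift : ∀ x : X, (∀ a, algebraMap (X.presheaf.stalk x) X.functionField a ∈ V) → False := by
    intro x hx
    choose ρ hρ using hx
    let ρ' : X.presheaf.stalk x →+* S.R :=
      { toFun := ρ
        map_one' := hinjR (by rw [hρ, map_one, map_one, map_one])
        map_mul' := fun a b => hinjR (by rw [map_mul, hρ, hρ, hρ, map_mul, map_mul])
        map_zero' := hinjR (by rw [hρ, map_zero, map_zero, map_zero])
        map_add' := fun a b => hinjR (by rw [map_add, hρ, hρ, hρ, map_add, map_add]) }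
    have e : Spec.map (CommRingCat.ofHom (algebraMap S.R S.K)) ≫ Spec.map (CommRingCat.ofHom ρ') ≫ X.fromSpecStalk x =
        S.i₁ := by
      rw [← hφ]
      erw [← Spec.map_comp_assoc]
      rw [show CommRingCat.ofHom ρ' ≫ CommRingCat.ofHom (algebraMap S.R S.K) =
        X.presheaf.stalkSpecializes (genericPoint_specializes x) ≫ CommRingCat.ofHom φ from
          CommRingCat.hom_ext (RingHom.ext fun a => hρ a)]
      refine (congrArg (· ≫ X.fromSpecStalk x) (Spec.map_comp _ _)).trans ((Category.assoc _ _ _).trans ?_)
      exact congrArg (Spec.map (CommRingCat.ofHom φ) ≫ ·)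
        (Scheme.SpecMap_stalkSpecializes_fromSpecStalk (genericPoint_specializes x))
    exact hS ⟨⟨⟨_, e, hover _ e⟩⟩⟩
  refine ⟨V, fun c => ?_, fun htop => nolift ξ fun a => by rw [htop]; trivial, fun x hx => nolift x fun a => ?_⟩
  · obtain ⟨b, hb⟩ : ∃ b, Spec.map b = S.i₂ := ⟨_, Spec.map_preimage _⟩
    refine ⟨b.hom c, ?_⟩
    have e : b ≫ CommRingCat.ofHom (algebraMap S.R S.K) =
        CommRingCat.ofHom (φ.comp ffHom) := by
      refine Spec.map_injective ?_
      rw [Spec.map_comp, hb, ← S.commSq.w, ← hφ, Category.assoc, stalk_over, CommRingCat.ofHom_comp]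
      exact (Spec.map_comp _ _).symm
    exact congrArg (fun m => m.hom c) e
  · exact hx.ge ⟨a, rfl⟩

/-- A non-proper curve has a nonconstant regular function. -/
theorem exists_nonconstant_function {G : Over (Spec (CommRingCat.of k))} [Smooth G.hom] [QuasiCompact G.hom] [IsSeparated G.hom]
    [IsIntegral G.left] (hd : deg G.hom (genericPoint G.left) = 1) (hU : ¬ UniversallyClosed G.hom) :
    ∃ s : Γ(G.left, ⊤), s ∉ Set.range G.hom.appTop := by
  classical
  let X := G.left
  letI := (ffHom (G := G)).toAlgebra
  have hF := isFF_functionField (G := G) hd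
  obtain ⟨V, hkV, hVtop, hV⟩ := exists_missing_valuation hd hU
  obtain ⟨P, hP⟩ := FFLib.exists_place_of_valuationSubring hF.1 V hkV hVtop
  let D : FunFld.Divisor k X.functionField := Finsupp.single P ((FunFld.genus k X.functionField : ℤ) + 1)
  have hell : 2 ≤ FunFld.ell D := by
    have h1 := (Groth.Agent.S10982.result k X.functionField hF).1 D
    have h2 : D.deg = (FunFld.genus k X.functionField : ℤ) + 1 := by
      show (Finsupp.single P _).sum _ = _
      rw [Finsupp.sum_single_index (by simp), FFLib.deg_eq_one hF.1 P]
      simp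
    rw [h2] at h1
    omega
  obtain ⟨f, hfD, hf⟩ : ∃ f ∈ FunFld.L D, f ∉ Set.range (ffHom (G := G)) := by
    by_contra! h
    have hle : FunFld.L D ≤ Submodule.span k {(1 : X.functionField)} := fun f hf => by
      obtain ⟨c, rfl⟩ := h f hf
      rw [Submodule.mem_span_singleton]
      exact ⟨c, by rw [Algebra.smul_def, _root_.mul_one]; rfl⟩
    have := Submodule.finrank_mono hle
    rw [finrank_span_singleton (one_ne_zero' X.functionField)] at this
    have h2 : FunFld.ell D ≤ 1 := this
    omega
  have hreg : ∀ x : X, ∃ b : X.presheaf.stalk x, algebraMap (X.presheaf.stalk x) X.functionField b = f := by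
    intro x
    haveI := GrpSchLib.isRegularLocalRing_stalk_of_smooth G.hom x
    haveI : IsDomain (X.presheaf.stalk x) :=
      Function.Injective.isDomain _ (IsFractionRing.injective (X.presheaf.stalk x) X.functionField)
    haveI : ValuationRing (X.presheaf.stalk x) := by
      obtain ⟨b, hb, ⟨z, hz, hdz⟩, -⟩ := VarDim.exists_deg_add_stalk G.hom x
      have h1 := VarDim.deg_le_of_specializes G.hom (genericPoint_specializes z)
      rw [hd] at h1
      refine Eg2RatExt.valuationRing_of_regular _ ?_
      rw [hb]
      exact_mod_cast (show b ≤ 1 by omega)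
    let Vx : ValuationSubring X.functionField := ⟨(algebraMap (X.presheaf.stalk x) X.functionField).range, fun z => by
      rcases ValuationRing.isInteger_or_isInteger (X.presheaf.stalk x) z with h | h
      · exact Or.inl h
      · exact Or.inr h⟩
    suffices f ∈ Vx from this
    by_cases htop : Vx = ⊤
    · rw [htop]; trivial
    obtain ⟨Q, hQ⟩ := FFLib.exists_place_of_valuationSubring hF.1 Vx (fun c => ⟨X.presheaf.germ ⊤ x trivial (baseMap G.hom c),
      congr($(X.presheaf.germ_stalkSpecializes (U := ⊤) (y := x) trivial (genericPoint_specializes x)) (baseMap G.hom c))⟩) htop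
    have hne : Q ≠ P := fun h => hV x (by rw [← hP, ← h, hQ]; rfl)
    have hQ1 := hfD Q
    rw [show D Q = 0 from Finsupp.single_eq_of_ne hne, WithZero.exp_zero] at hQ1
    rw [← hQ]
    exact hQ1
  -- glue
  have hloc : ∀ x : X, ∃ (U : X.Opens) (hx : x ∈ U) (t : Γ(X, U)),
      X.presheaf.germ U (genericPoint X) ((genericPoint_specializes x).mem_open U.isOpen hx) t = f := fun x => by
    obtain ⟨b, hb⟩ := hreg x
    obtain ⟨U, hx, t, rfl⟩ := X.presheaf.exists_germ_eq (x := x) b
    exact ⟨U, hx, t, (congr($(X.presheaf.germ_stalkSpecializes hx (genericPoint_specializes x)) t)).symm.trans hb⟩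
  choose U hxU t ht using hloc
  have hcov : (⊤ : X.Opens) ≤ iSup U := fun x _ => TopologicalSpace.Opens.mem_iSup.mpr ⟨x, hxU x⟩
  obtain ⟨s, hs, -⟩ := X.sheaf.existsUnique_gluing' U ⊤ (fun x => homOfLE le_top) hcov t fun x y => by
    have hg : genericPoint X ∈ U x ⊓ U y :=
      ⟨(genericPoint_specializes x).mem_open (U x).isOpen (hxU x), (genericPoint_specializes y).mem_open (U y).isOpen (hxU y)⟩
    refine germ_injective_of_isIntegral X (genericPoint X) hg ?_
    erw [TopCat.Presheaf.germ_res_apply, TopCat.Presheaf.germ_res_apply]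
    exact (ht x).trans (ht y).symm
  refine ⟨s, fun ⟨c', hc'⟩ => hf ?_⟩
  obtain ⟨c, rfl⟩ : ∃ c, (Scheme.ΓSpecIso (CommRingCat.of k)).inv c = c' :=
    (ConcreteCategory.bijective_of_isIso (Scheme.ΓSpecIso (CommRingCat.of k)).inv).2 c'
  refine ⟨c, ?_⟩
  have hg := (genericPoint_specializes (genericPoint X)).mem_open (U (genericPoint X)).isOpen (hxU (genericPoint X))
  rw [← ht (genericPoint X), ← hs (genericPoint X)]
  show X.presheaf.germ ⊤ _ trivial (G.hom.appTop ((Scheme.ΓSpecIso (CommRingCat.of k)).inv c)) = _
  rw [hc']
  exact (TopCat.Presheaf.germ_res_apply X.presheaf (homOfLE le_top) (genericPoint X) hg s).symm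

/-- A connected one-dimensional group which is not proper is affine. -/
theorem isAffine_of_curve {G : Over (Spec (CommRingCat.of k))} [GrpObj G] [Smooth G.hom] [QuasiCompact G.hom]
    [IsIntegral G.left] (hd : deg G.hom (genericPoint G.left) = 1) (hU : ¬ UniversallyClosed G.hom) :
    IsAffine G.left := by
  haveI : IsSeparated G.hom := GrpSchLib.AntiAffine.isSeparated_grp G
  obtain ⟨s, hs⟩ := exists_nonconstant_function hd hU
  obtain ⟨M, I, _, _, j, p, h⟩ := AlgGrp25.exists_antiAffPart G
  haveI := h.isClosedImmersion_j; haveI := h.affine; haveI := h.lft; haveI := h.qc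
  haveI := h.lft_M; haveI := h.qc_M; haveI := h.isMonHom_p
  haveI := GrpSchLib.AntiAffine.connectedSpace_of_bijective h.antiAffine
  have hsurj : genericPoint G.left ∉ Set.range j.left := fun hgen => by
    haveI : Surjective j.left := ⟨fun x =>
      j.left.isClosedEmbedding.isClosed_range.closure_subset_iff.2 (Set.singleton_subset_iff.2 hgen)
        (specializes_iff_mem_closure.1 (genericPoint_specializes x))⟩
    haveI : IsIso j.left := isIso_of_isClosedImmersion_of_surjective j.left
    refine hs ?_
    have h1 : Function.Bijective (G.hom.appTop ≫ j.left.appTop) := by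
      rw [← Scheme.Hom.comp_appTop, Over.w j]; exact h.antiAffine
    obtain ⟨c, hc⟩ := h1.2 (j.left.appTop s)
    haveI : IsIso j.left.appTop := inferInstanceAs (IsIso (j.left.app ⊤))
    exact ⟨c, (ConcreteCategory.bijective_of_isIso j.left.appTop).1 hc⟩
  have hclosed : ∀ m : M.left, IsClosed ({m} : Set M.left) := fun m => by
    have : ({m} : Set M.left) = j.left ⁻¹' {j.left m} :=
      Set.ext fun y => ⟨fun hy => congrArg j.left hy, fun hy => j.left.isEmbedding.injective hy⟩
    rw [this]
    exact ((eq_gen_or_closed hd (j.left m)).resolve_left fun e => hsurj ⟨m, e⟩).preimage j.left.continuous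
  haveI : CompactSpace M.left := QuasiCompact.compactSpace_of_compactSpace M.hom
  haveI : IsLocallyNoetherian M.left := LocallyOfFiniteType.isLocallyNoetherian M.hom
  haveI : IsNoetherian M.left := {}
  haveI : IsAffine M.left := by
    haveI : T1Space M.left := ⟨hclosed⟩
    haveI : DiscreteTopology M.left := by
      haveI : Finite M.left := by
        have hsing : ∀ Z ∈ irreducibleComponents M.left, Z.Subsingleton := fun Z hZ => by
          intro a ha b hb
          have hg := hZ.1.isGenericPoint_genericPoint (isClosed_of_mem_irreducibleComponents _ hZ)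
          have e : Z = {hZ.1.genericPoint} := hg.def.symm.trans (hclosed _).closure_eq
          rw [e] at ha hb
          exact ha.trans hb.symm
        refine Set.finite_univ_iff.mp ?_
        rw [← sUnion_irreducibleComponents]
        exact Set.Finite.sUnion TopologicalSpace.NoetherianSpace.finite_irreducibleComponents
          fun Z hZ => (hsing Z hZ).finite
      infer_instance
    obtain ⟨m⟩ := (inferInstance : Nonempty M.left)
    haveI : Subsingleton M.left := ⟨fun a b => by
      have := isPreconnected_univ (α := M.left).subsingleton (Set.mem_univ a) (Set.mem_univ b)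
      exact this⟩
    obtain ⟨V, hV, hm, -⟩ := exists_isAffineOpen_mem_and_subset (x := m) (U := (⊤ : M.left.Opens)) trivial
    haveI : IsAffine V.toScheme := hV
    have hVtop : V = ⊤ := top_unique fun y _ => Subsingleton.elim m y ▸ hm
    subst hVtop
    exact IsAffine.of_isIso M.left.topIso.inv
  have hM : IsIso M.hom := by
    haveI : IsIso M.hom.appTop := (ConcreteCategory.isIso_iff_bijective _).2 h.antiAffine
    haveI : IsIso (M.hom ≫ (Spec (CommRingCat.of k)).isoSpec.hom) := by
      rw [← Scheme.isoSpec_hom_naturality]; infer_instance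
    exact IsIso.of_isIso_comp_right M.hom (Spec (CommRingCat.of k)).isoSpec.hom
  haveI := AlgGrp25.IsAntiAffPart.mono_p h hM
  haveI : QuasiCompact p.left := by
    haveI : QuasiCompact (p.left ≫ I.hom) := by rw [Over.w]; infer_instance
    exact QuasiCompact.of_comp p.left I.hom
  haveI := Groth.Agent.S3036.result k G I p
  exact isAffine_of_isAffineHom p.left

end Groth.Agent.Chev24
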