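import Groth.Agent.Chev24.DescentFrob

/-! A group of finite type over any field has an affine normal subgroup with proper quotient. -/

set_option linter.style.haveILetI false

open CategoryTheory AlgebraicGeometry MonoidalCategory CartesianMonoidalCategory MonObj Limits IsLocalRing

namespace Groth.Agent.Chev24

universe u

variable {k : Type u} [Field k]

/-- An affine normal subgroup which is the kernel of a homomorphism to a proper group. -/
theorem exists_affine_kernel (G : Over (Spec (CommRingCat.of k))) [GrpObj G] [LocallyOfFiniteType G.hom]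
    [QuasiCompact G.hom] :
    ∃ (N H : Over (Spec (CommRingCat.of k))) (_ : GrpObj N) (_ : GrpObj H) (i : N ⟶ G) (f : G ⟶ H),
      IsMonHom i ∧ IsClosedImmersion i.left ∧ AlgGrp.IsNormalHom i ∧ IsAffine N.left ∧
      IsMonHom f ∧ IsProper H.hom ∧ AlgGrp.IsKernel i f := by
  obtain ⟨K, S, _, _, j, v, hjm, hvm, hKf, -, hSs, hjc, hjk, hvf, hvs, -⟩ :=
    AlgGrp25.FrobQuot.exists_finite_kernel_smooth_quotient G
  haveI := hvm; haveI := hKf; haveI := hSs; haveI := hjc; haveI := hvf; haveI := hvs
  haveI : QuasiCompact S.hom := by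
    haveI : QuasiCompact (v.left ≫ S.hom) := by rw [Over.w]; infer_instance
    haveI : CompactSpace G.left := QuasiCompact.compactSpace_of_compactSpace G.hom
    haveI : CompactSpace S.left := ⟨by
      rw [← v.left.surjective.range_eq]
      exact isCompact_range v.left.continuous⟩
    exact ⟨fun U _ _ => by
      rcases Set.Subsingleton.eq_empty_or_singleton (Set.subsingleton_of_subsingleton (s := U)) with hU | ⟨a, hU⟩
      · simp [hU]
      · have : U = Set.univ := Set.eq_univ_of_forall fun b => hU ▸ (Subsingleton.elim b a : b = a)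
        rw [this, Set.preimage_univ]; exact isCompact_univ⟩
  obtain ⟨M, H, _, _, l, f, hlm, hlc, -, hMa, hfm, hHp, hlk⟩ :
      ∃ (M H : Over (Spec (CommRingCat.of k))) (_ : GrpObj M) (_ : GrpObj H) (l : M ⟶ S) (f : S ⟶ H),
        IsMonHom l ∧ IsClosedImmersion l.left ∧ AlgGrp.IsNormalHom l ∧ IsAffine M.left ∧
        IsMonHom f ∧ IsProper H.hom ∧ AlgGrp.IsKernel l f := by
    obtain ⟨p, hp⟩ := CharP.exists k
    rcases CharP.char_is_prime_or_zero k p with hprime | rfl
    · haveI : Fact p.Prime := ⟨hprime⟩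
      exact exists_affine_kernel_charP p S
    · haveI : CharZero k := CharP.charP_to_charZero k
      obtain ⟨N, _, i, him, hic, -, -, hNa, hn, R, _, r, hrm, -, -, hrk, hRp, -⟩ := exists_affSub_properQuot_perfect S
      exact ⟨N, R, inferInstance, inferInstance, i, r, him, hic, hn, hNa, hrm, hRp, hrk⟩
  haveI := hlm; haveI := hlc; haveI := hMa; haveI := hfm; haveI := hHp
  obtain ⟨N, _, i, him, hic, hin, hik⟩ := GrpSchLib.exists_kernel (v ≫ f)
  haveI := hic
  haveI : Mono j := Over.mono_of_mono_left _
  haveI : IsFinite v.left := isFinite_of_finite_kernel j v hjk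
  let g : N ⟶ M := hlk.lift (i ≫ v) (toUnit N) (by rw [Category.assoc]; exact hik.w)
  have hg : g ≫ l = i ≫ v := hlk.lift_fst _ _ _
  haveI : IsAffineHom g.left := by
    haveI : IsAffineHom (g.left ≫ l.left) := by rw [← Over.comp_left, hg, Over.comp_left]; infer_instance
    exact IsAffineHom.of_comp g.left l.left
  exact ⟨N, H, inferInstance, inferInstance, i, v ≫ f, him, hic, hin, isAffine_of_isAffineHom g.left,
    inferInstance, hHp, hik⟩

/-- The smallest normal subgroup with proper quotient is affine and connected. -/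
theorem exists_smallest_properQuot_affine (G : Over (Spec (CommRingCat.of k))) [GrpObj G] [LocallyOfFiniteType G.hom]
    [QuasiCompact G.hom] :
    ∃ (N : Over (Spec (CommRingCat.of k))) (_ : GrpObj N) (i : N ⟶ G), IsMonHom i ∧ IsClosedImmersion i.left ∧
      AlgGrp.IsNormalHom i ∧ IsAffine N.left ∧ ConnectedSpace N.left ∧
      (∃ (Q : Over (Spec (CommRingCat.of k))) (_ : GrpObj Q) (q : G ⟶ Q),
        IsMonHom q ∧ Surjective q.left ∧ Flat q.left ∧ AlgGrp.IsKernel i q ∧ IsProper Q.hom) ∧
      ∀ (Q' : Over (Spec (CommRingCat.of k))) [GrpObj Q'] [IsProper Q'.hom] (q' : G ⟶ Q') [IsMonHom q'],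
        i ≫ q' = 1 := by
  obtain ⟨N, _, i, him, hic, hin, ⟨Q, _, q, hqm, hqs, hqf, hqk, hQp⟩, hmin⟩ := exists_smallest_properQuot G
  haveI := him; haveI := hic; haveI := hqm; haveI := hqs; haveI := hqf; haveI := hQp
  obtain ⟨M, H, _, _, l, f, hlm, hlc, -, hMa, hfm, hHp, hlk⟩ := exists_affine_kernel G
  haveI := hlc; haveI := hMa; haveI := hfm; haveI := hHp
  have h := hmin H f
  let g : N ⟶ M := hlk.lift i (toUnit N) (h.trans Hom.one_def)
  haveI : IsAffineHom g.left := by
    haveI : IsAffineHom (g.left ≫ l.left) := by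
      rw [← Over.comp_left, hlk.lift_fst]; infer_instance
    exact IsAffineHom.of_comp g.left l.left
  exact ⟨N, inferInstance, i, him, hic, hin, isAffine_of_isAffineHom g.left,
    connectedSpace_of_smallest i hin Q q hqk hmin, ⟨Q, inferInstance, q, hqm, hqs, hqf, hqk, hQp⟩, hmin⟩

end Groth.Agent.Chev24
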