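import Groth.Agent.Chev24.DescentGroup

/-! The affine normal subgroup with proper quotient over a perfect field. -/

set_option linter.style.haveILetI false

open CategoryTheory AlgebraicGeometry MonoidalCategory CartesianMonoidalCategory MonObj Limits IsLocalRing

namespace Groth.Agent.Chev24

universe u

variable {k : Type u} [Field k]

/-- The projection from the base change to an algebraic closure is closed. -/
theorem isClosedMap_pr (X : Over (Spec (CommRingCat.of k))) : IsClosedMap (pr X) := by
  haveI : IsIntegralHom (bcσ k) := by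
    rw [IsIntegralHom.SpecMap_iff]
    exact algebraMap_isIntegral_iff.2 inferInstance
  haveI : IsIntegralHom (pr X) := inferInstanceAs (IsIntegralHom (pullback.fst X.hom (bcσ k)))
  exact (pr X).isClosedMap

/-- Over a perfect field a smooth group is an extension of a proper group by a smooth connected affine group. -/
theorem exists_affSub_properQuot_perfect [PerfectField k] (G : Over (Spec (CommRingCat.of k))) [GrpObj G]
    [Smooth G.hom] [QuasiCompact G.hom] :
    ∃ (N : Over (Spec (CommRingCat.of k))) (_ : GrpObj N) (i : N ⟶ G),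
      IsMonHom i ∧ IsClosedImmersion i.left ∧ Smooth N.hom ∧ ConnectedSpace N.left ∧ IsAffine N.left ∧
      AlgGrp.IsNormalHom i ∧
      ∃ (R : Over (Spec (CommRingCat.of k))) (_ : GrpObj R) (r : G ⟶ R),
        IsMonHom r ∧ Surjective r.left ∧ Flat r.left ∧ AlgGrp.IsKernel i r ∧ IsProper R.hom ∧ Smooth R.hom := by
  haveI : Smooth ((B k).obj G).hom := inferInstanceAs (Smooth (pullback.snd G.hom (bcσ k)))
  haveI : QuasiCompact ((B k).obj G).hom := qc_bc G
  obtain ⟨L, _, a, ham, hac, hLs, hLc, hLa, hn, ⟨Q, _, q, hqm, hqs, hqf, hk, hQp⟩, -⟩ :=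
    exists_affPart_properQuot ((B k).obj G)
  haveI := ham; haveI := hac; haveI := hLs; haveI := hLc; haveI := hLa
  haveI := hqm; haveI := hqs; haveI := hqf; haveI := hQp
  let C : TopologicalSpace.Closeds G.left :=
    ⟨pr G '' Set.range a.left, isClosedMap_pr G _ a.left.isClosedEmbedding.isClosed_range⟩
  let I := Scheme.IdealSheafData.vanishingIdeal C
  let Y : Over (Spec (CommRingCat.of k)) := Over.mk (I.subschemeι ≫ G.hom)
  let ι₀ : Y ⟶ G := Over.homMk I.subschemeι rfl
  haveI : IsClosedImmersion ι₀.left := inferInstanceAs (IsClosedImmersion I.subschemeι)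
  haveI : IsReduced Y.left := inferInstanceAs (IsReduced I.subscheme)
  haveI : IsReduced (Spec (CommRingCat.of (AlgebraicClosure k))) := inferInstance
  haveI : IsReduced ((B k).obj Y).left := GrpSchLib.isReduced_pullback_of_perfectField Y.hom (bcσ k)
  obtain ⟨str, hm, hnY, hs, hcon, haf, R, iR, r, hr⟩ :=
    exists_descend_normal a hn q hk ι₀ (H23.RedSub.range_vanishingIdeal C)
  exact ⟨Y, str, ι₀, hm, inferInstance, hs, hcon, haf, hnY, R, iR, r, hr⟩

end Groth.Agent.Chev24
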