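import Groth.Agent.Chev24.Tools
import Groth.Agent.GrpSchLib.IdentityComp
import Groth.Agent.H23.FinCondSch
import Groth.Agent.H23.RigidAb
import Groth.Agent.H23.TopDim
import Groth.Agent.GrpSchLib.RankOneBig
import Groth.Agent.AlgGrp25.LinPart
import Groth.Agent.AVTors2.RedComp

/-! The smallest normal subgroup with proper quotient. -/

set_option linter.style.haveILetI false

open CategoryTheory AlgebraicGeometry MonoidalCategory CartesianMonoidalCategory MonObj Limits IsLocalRing

namespace Groth.Agent.Chev24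

universe u

variable {k : Type u} [Field k]

/-- The kernel of a homomorphism to a proper group has proper quotient. -/
theorem exists_proper_quotient_of_kernel {G H N : Over (Spec (CommRingCat.of k))} [GrpObj G] [GrpObj H] [GrpObj N]
    [LocallyOfFiniteType G.hom] [QuasiCompact G.hom] [IsProper H.hom] (i : N ⟶ G) [IsMonHom i]
    [IsClosedImmersion i.left] (hn : AlgGrp.IsNormalHom i) (f : G ⟶ H) [IsMonHom f] (hk : AlgGrp.IsKernel i f) :
    ∃ (Q : Over (Spec (CommRingCat.of k))) (_ : GrpObj Q) (q : G ⟶ Q),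
      IsMonHom q ∧ Surjective q.left ∧ Flat q.left ∧ AlgGrp.IsKernel i q ∧ IsProper Q.hom := by
  obtain ⟨Q, _, q, hqm, hqs, hqf, -, hQl, hQq, -, hqk⟩ := AlgGrpH24.exists_quotient_grp i hn
  haveI := hqm; haveI := hqs; haveI := hqf; haveI := hQl; haveI := hQq
  obtain ⟨e, -, -, hec⟩ := exists_closedImmersion_factor q i hqk f hk
  haveI := hec
  haveI : IsProper Q.hom := by rw [← Over.w e]; infer_instance
  exact ⟨Q, inferInstance, q, hqm, hqs, hqf, hqk, inferInstance⟩

/-- There is a smallest normal subgroup with proper quotient. -/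
theorem exists_smallest_properQuot (G : Over (Spec (CommRingCat.of k))) [GrpObj G] [LocallyOfFiniteType G.hom]
    [QuasiCompact G.hom] :
    ∃ (N : Over (Spec (CommRingCat.of k))) (_ : GrpObj N) (i : N ⟶ G), IsMonHom i ∧ IsClosedImmersion i.left ∧
      AlgGrp.IsNormalHom i ∧
      (∃ (Q : Over (Spec (CommRingCat.of k))) (_ : GrpObj Q) (q : G ⟶ Q),
        IsMonHom q ∧ Surjective q.left ∧ Flat q.left ∧ AlgGrp.IsKernel i q ∧ IsProper Q.hom) ∧
      ∀ (Q' : Over (Spec (CommRingCat.of k))) [GrpObj Q'] [IsProper Q'.hom] (q' : G ⟶ Q') [IsMonHom q'],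
        i ≫ q' = 1 := by
  classical
  haveI : IsSeparated G.hom := GrpSchLib.AntiAffine.isSeparated_grp G
  haveI : IsLocallyNoetherian G.left := LocallyOfFiniteType.isLocallyNoetherian G.hom
  haveI : CompactSpace G.left := QuasiCompact.compactSpace_of_compactSpace G.hom
  haveI : IsNoetherian G.left := {}
  haveI := H23.FinCondSch.wellFoundedGT (X := G.left)
  let S : Set G.left.IdealSheafData := {I | ∃ (Q : Over (Spec (CommRingCat.of k))) (_ : GrpObj Q) (q : G ⟶ Q)
    (N : Over (Spec (CommRingCat.of k))) (_ : GrpObj N) (i : N ⟶ G), IsMonHom q ∧ IsProper Q.hom ∧ IsMonHom i ∧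
      IsClosedImmersion i.left ∧ AlgGrp.IsNormalHom i ∧ AlgGrp.IsKernel i q ∧ i.left.ker = I}
  have hne : S.Nonempty := by
    haveI : IsProper (𝟙_ (Over (Spec (CommRingCat.of k)))).hom := inferInstanceAs (IsProper (𝟙 _))
    haveI : IsMonHom (toUnit G) := ⟨toUnit_unique _ _, toUnit_unique _ _⟩
    obtain ⟨N, _, i, hi, hic, hin, hik⟩ := GrpSchLib.exists_kernel (toUnit G)
    exact ⟨_, _, inferInstance, toUnit G, N, inferInstance, i, inferInstance, inferInstance, hi, hic, hin, hik, rfl⟩
  obtain ⟨I, ⟨Q, _, q, N, _, i, hqm, hQp, him, hic, hin, hik, rfl⟩, hmax⟩ := wellFounded_gt.has_min S hne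
  haveI := hqm; haveI := hQp; haveI := him; haveI := hic
  refine ⟨N, inferInstance, i, him, hic, hin, exists_proper_quotient_of_kernel i hin q hik, fun Q' _ _ q' _ => ?_⟩
  haveI : IsProper (Q ⊗ Q').hom := inferInstanceAs (IsProper (pullback.fst Q.hom Q'.hom ≫ Q.hom))
  haveI : IsMonHom (lift q q') := AlgGrpH24.isMonHom_of_forall_mul _ fun {T} a b => by
    apply CartesianMonoidalCategory.hom_ext <;>
      simp [MonObj.mul_comp]
  obtain ⟨M, _, j, hj, hjc, hjn, hjk⟩ := GrpSchLib.exists_kernel (lift q q')
  haveI := hj; haveI := hjc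
  have h1 : j ≫ q = toUnit M ≫ η[Q] := by
    have := congrArg (· ≫ fst Q Q') hjk.w
    simp only [Category.assoc, lift_fst] at this
    rw [this, IsMonHom.one_hom (fst Q Q')]
  have h2 : j ≫ q' = 1 := by
    have := congrArg (· ≫ snd Q Q') hjk.w
    simp only [Category.assoc, lift_snd] at this
    rw [this, IsMonHom.one_hom (snd Q Q'), ← Hom.one_def]
  let c := hik.lift j (toUnit M) h1
  have hc : c ≫ i = j := hik.lift_fst _ _ _
  have hle : i.left.ker ≤ j.left.ker := by
    rw [← hc, Over.comp_left]; exact Scheme.Hom.le_ker_comp _ _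
  have heq : j.left.ker ≤ i.left.ker := by
    rcases hle.lt_or_eq with hlt | he
    · exact absurd hlt (hmax _ ⟨Q ⊗ Q', inferInstance, lift q q', M, inferInstance, j, inferInstance, inferInstance,
        hj, hjc, hjn, hjk, rfl⟩)
    · exact he.ge
  let d : N ⟶ M := Over.homMk (IsClosedImmersion.lift j.left i.left heq)
    (by rw [← Over.w j, IsClosedImmersion.lift_fac_assoc, Over.w i])
  have hd : d ≫ j = i := Over.OverMorphism.ext (IsClosedImmersion.lift_fac _ _ _)
  rw [← hd, Category.assoc, h2, MonObj.comp_one]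

/-- The identity component of a normal subgroup is normal. -/
theorem isNormalHom_identityComponent {G N N₀ : Over (Spec (CommRingCat.of k))} [GrpObj G] [GrpObj N] [GrpObj N₀]
    (i : N ⟶ G) [IsMonHom i] [Mono i] (hn : AlgGrp.IsNormalHom i) (c : N₀ ⟶ N) [IsMonHom c] [IsOpenImmersion c.left]
    (hc : Set.range c.left = connectedComponent (η[N].left (closedPoint k))) [GeometricallyConnected N₀.hom] :
    AlgGrp.IsNormalHom (c ≫ i) := by
  intro T g x
  obtain ⟨n', hn'⟩ := hn (G ⊗ N₀) (fst G N₀) (snd G N₀ ≫ c)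
  let s : G ⟶ G ⊗ N₀ := lift (𝟙 G) (1 : G ⟶ N₀)
  have hs : s ≫ n' = 1 := by
    rw [← cancel_mono i, MonObj.one_comp, Category.assoc, ← hn', MonObj.comp_mul, MonObj.comp_mul,
      GrpObj.comp_inv, lift_fst, Category.assoc, lift_snd_assoc, MonObj.one_comp, _root_.mul_one, mul_inv_cancel]
  have hrange : Set.range n'.left ⊆ Set.range c.left := by
    rw [hc]
    rintro _ ⟨y, rfl⟩
    haveI : GeometricallyConnected (fst G N₀).left :=
      inferInstanceAs (GeometricallyConnected (pullback.fst G.hom N₀.hom))
    have hpre := H23.RigidAb.isPreconnected_preimage (fst G N₀).left ((fst G N₀).left y)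
    refine (hpre.image n'.left n'.left.continuous.continuousOn).subset_connectedComponent ?_ ⟨y, rfl, rfl⟩
    refine ⟨s.left ((fst G N₀).left y), ?_, ?_⟩
    · show (fst G N₀).left (s.left ((fst G N₀).left y)) = _
      exact congrArg (fun m : G ⟶ G => m.left ((fst G N₀).left y)) (lift_fst (𝟙 G) (1 : G ⟶ N₀))
    · refine (congrArg (fun m : G ⟶ N => m.left ((fst G N₀).left y)) (hs.trans Hom.one_def)).trans ?_
      exact congrArg η[N].left (Subsingleton.elim (α := Spec (CommRingCat.of k)) _ _)
  let l : G ⊗ N₀ ⟶ N₀ := Over.homMk (IsOpenImmersion.lift c.left n'.left hrange)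
    (by rw [← Over.w c, IsOpenImmersion.lift_fac_assoc, Over.w n'])
  have hl : l ≫ c = n' := Over.OverMorphism.ext (IsOpenImmersion.lift_fac _ _ _)
  refine ⟨lift g x ≫ l, ?_⟩
  have := congrArg (lift g x ≫ ·) hn'
  simp only [MonObj.comp_mul, GrpObj.comp_inv, lift_fst, lift_snd_assoc, Category.assoc] at this
  simp only [Category.assoc, reassoc_of% hl]
  exact this

omit [Field k] in
theorem geometricallyConnected_of_geometricallyIrreducible {X S : Scheme.{u}} (f : X ⟶ S) [GeometricallyIrreducible f] :
    GeometricallyConnected f :=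
  ⟨fun K _ x Z a b h => by
    haveI := GeometricallyIrreducible.geometrically_irreducibleSpace (f := f) x a b h
    infer_instance⟩

/-- The smallest normal subgroup with proper quotient is connected. -/
theorem connectedSpace_of_smallest {G N : Over (Spec (CommRingCat.of k))} [GrpObj G] [GrpObj N]
    [LocallyOfFiniteType G.hom] [QuasiCompact G.hom] (i : N ⟶ G) [IsMonHom i] [IsClosedImmersion i.left]
    (hn : AlgGrp.IsNormalHom i) (Q : Over (Spec (CommRingCat.of k))) [GrpObj Q] [IsProper Q.hom] (q : G ⟶ Q) [IsMonHom q]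
    [Surjective q.left] [Flat q.left] (hk : AlgGrp.IsKernel i q)
    (hmin : ∀ (Q' : Over (Spec (CommRingCat.of k))) [GrpObj Q'] [IsProper Q'.hom] (q' : G ⟶ Q') [IsMonHom q'],
      i ≫ q' = 1) : ConnectedSpace N.left := by
  haveI : IsSeparated G.hom := GrpSchLib.AntiAffine.isSeparated_grp G
  haveI : LocallyOfFiniteType N.hom := by rw [← Over.w i]; infer_instance
  haveI : QuasiCompact N.hom := by rw [← Over.w i]; infer_instance
  obtain ⟨N₀, _, c, hcm, hcc, hcf, hcr, hgi, hcs⟩ := GrpSchLib.exists_identityComponent (G := N)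
  haveI := hcm; haveI := hcc; haveI := hcf; haveI := hgi; haveI := hcs
  haveI : IsLocallyNoetherian N.left := LocallyOfFiniteType.isLocallyNoetherian N.hom
  haveI : LocallyOfFiniteType N₀.hom := by rw [← Over.w c]; infer_instance
  haveI : LocallyOfFinitePresentation c.left := inferInstance
  haveI : IsOpenImmersion c.left := IsOpenImmersion.of_flat_of_mono c.left
  haveI : IrreducibleSpace N₀.left := GeometricallyIrreducible.irreducibleSpace_of_subsingleton N₀.hom
  haveI : Mono i := Over.mono_of_mono_left _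
  haveI : Mono c := Over.mono_of_mono_left _
  haveI : IsClosedImmersion (c ≫ i).left := by rw [Over.comp_left]; infer_instance
  haveI := geometricallyConnected_of_geometricallyIrreducible N₀.hom
  obtain ⟨R, _, r, hrm, hrs, hrf, hrp, hRl, hRq, hRsep, hrk⟩ :=
    AlgGrpH24.exists_quotient_grp (c ≫ i) (isNormalHom_identityComponent i hn c hcr)
  haveI := hrm; haveI := hrs; haveI := hrf; haveI := hrp; haveI := hRl; haveI := hRq; haveI := hRsep
  haveI : QuasiCompact r.left := by
    haveI : QuasiCompact (r.left ≫ R.hom) := by rw [Over.w]; infer_instance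
    exact QuasiCompact.of_comp r.left R.hom
  obtain ⟨h, hhm, hrh, -⟩ := Groth.Agent.S3280.result k G N₀ R Q r (c ≫ i) hrk q (by
    rw [Category.assoc, hk.w, ← Category.assoc, comp_toUnit])
  haveI := hhm
  haveI : Surjective h.left := by
    haveI : Surjective (r.left ≫ h.left) := by rw [← Over.comp_left, hrh]; infer_instance
    exact Surjective.of_comp r.left h.left
  haveI : Flat h.left := by
    haveI : Flat (r.left ≫ h.left) := by rw [← Over.comp_left, hrh]; infer_instance
    exact GrpSchLib.RankOne.flat_of_comp r.left h.left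
  obtain ⟨K, _, e, hem, hec, hen, hek⟩ := GrpSchLib.exists_kernel h
  haveI := hem; haveI := hec
  haveI : Mono e := Over.mono_of_mono_left _
  let t : N ⟶ K := hek.lift (i ≫ r) (toUnit N) (by rw [Category.assoc, hrh, hk.w])
  have ht : t ≫ e = i ≫ r := hek.lift_fst _ _ _
  have hsq : IsPullback t i e r := by
    refine IsPullback.of_isLimit' ⟨ht⟩ (PullbackCone.IsLimit.mk _
      (fun s => hk.lift s.snd (toUnit _) (by
        rw [← hrh, ← reassoc_of% s.condition, hek.w, ← Category.assoc, comp_toUnit]))
      (fun s => ?_) (fun s => hk.lift_fst _ _ _) fun s m _ h2 => ?_)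
    · rw [← cancel_mono e, Category.assoc, ht, hk.lift_fst_assoc, s.condition]
    · rw [← cancel_mono i, h2, hk.lift_fst]
  have hsq' := hsq.map (Over.forget _)
  haveI : Flat t.left := MorphismProperty.of_isPullback hsq'.flip hrf
  haveI : LocallyOfFinitePresentation t.left := MorphismProperty.of_isPullback hsq'.flip hrp
  haveI : LocallyOfFiniteType K.hom := by rw [← Over.w e]; infer_instance
  haveI : QuasiCompact K.hom := by rw [← Over.w e]; infer_instance
  have hct : c ≫ t = toUnit N₀ ≫ η[K] := by
    rw [← cancel_mono e, Category.assoc, ht, ← Category.assoc, hrk.w, Category.assoc (toUnit N₀), IsMonHom.one_hom]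
  let o := η[K].left (closedPoint k)
  have hopen : IsOpen ({o} : Set K.left) := by
    have e1 : ({o} : Set K.left) = t.left '' Set.range c.left := by
      refine Set.Subset.antisymm (Set.singleton_subset_iff.2
        ⟨c.left (η[N₀].left (closedPoint k)), ⟨_, rfl⟩, ?_⟩) ?_
      · have e2 : η[N₀] ≫ c ≫ t = η[K] := by
          rw [hct, ← Category.assoc, toUnit_unique (η[N₀] ≫ toUnit N₀) (𝟙 _), Category.id_comp]
        exact congrArg (fun m : 𝟙_ (Over (Spec (CommRingCat.of k))) ⟶ K => m.left (closedPoint k)) e2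
      · rintro _ ⟨_, ⟨z, rfl⟩, rfl⟩
        exact (congrArg (fun m : N₀ ⟶ K => m.left z) hct).trans
          (congrArg η[K].left (Subsingleton.elim (α := Spec (CommRingCat.of k)) _ _))
    rw [e1]
    exact t.left.isOpenMap _ c.left.isOpenEmbedding.isOpen_range
  have hmaxpt : GrpSchLib.IsMaxPt o := fun d hd => Set.mem_singleton_iff.1 (hd.mem_open hopen rfl)
  have h0 : VarDim.deg K.hom o = 0 := by
    refine (VarDim.closedPoint_iff_deg_eq_zero K.hom o).1 ?_
    haveI : IsClosedImmersion η[K].left := by
      haveI : IsSeparated K.hom := GrpSchLib.AntiAffine.isSeparated_grp K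
      haveI : IsClosedImmersion (η[K].left ≫ K.hom) := by rw [Over.w]; exact inferInstanceAs (IsClosedImmersion (𝟙 _))
      exact IsClosedImmersion.of_comp η[K].left K.hom
    have e3 : ({o} : Set K.left) = Set.range η[K].left := Set.Subset.antisymm
      (Set.singleton_subset_iff.2 ⟨_, rfl⟩) (by
        rintro _ ⟨z, rfl⟩
        exact congrArg η[K].left (Subsingleton.elim (α := Spec (CommRingCat.of k)) _ _))
    rw [e3]
    exact η[K].left.isClosedEmbedding.isClosed_range
  have hdim : topologicalKrullDim K.left ≤ 0 := by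
    rw [GrpSchLib.topologicalKrullDim_eq_deg hmaxpt, h0]; rfl
  haveI : IsLocallyNoetherian K.left := LocallyOfFiniteType.isLocallyNoetherian K.hom
  haveI : CompactSpace K.left := QuasiCompact.compactSpace_of_compactSpace K.hom
  haveI : IsNoetherian K.left := {}
  haveI : Finite K.left := (H23.TopDim.finite_discrete_of_dim_le_zero hdim).1
  haveI : LocallyQuasiFinite K.hom := locallyQuasiFinite_iff_finite_preimage_singleton.2 fun _ => Set.toFinite _
  haveI : IsFinite K.hom := IsFinite.of_locallyQuasiFinite K.hom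
  haveI := isFinite_of_finite_kernel e h hek
  haveI : IsProper R.hom := by rw [← Over.w h]; infer_instance
  have hir : i ≫ r = toUnit N ≫ η[R] := (hmin R r).trans Hom.one_def
  have hu : hrk.lift i (toUnit N) hir ≫ c = 𝟙 N := by
    rw [← cancel_mono i, Category.assoc, hrk.lift_fst, Category.id_comp]
  haveI : Surjective c.left := by
    haveI : Surjective ((hrk.lift i (toUnit N) hir).left ≫ c.left) := by
      rw [← Over.comp_left, hu]; exact inferInstanceAs (Surjective (𝟙 _))
    exact Surjective.of_comp (hrk.lift i (toUnit N) hir).left c.left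
  exact c.left.surjective.connectedSpace c.left.continuous

end Groth.Agent.Chev24
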