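import Groth.Agent.Chev24.FrobBound
import Groth.Agent.Chev24.DescentPerfect
import Groth.Agent.GrpSchLib.QuotAffine
import Groth.Agent.Chev24.Minimal

/-! A smooth group in positive characteristic has an affine normal subgroup with proper quotient. -/

set_option linter.style.haveILetI false

open CategoryTheory AlgebraicGeometry MonoidalCategory CartesianMonoidalCategory MonObj Limits IsLocalRing

namespace Groth.Agent.Chev24

universe u

open AlgGrp25.FrobQuot in
/-- The base change of the relative Frobenius is an iterate of the absolute Frobenius up to an isomorphism. -/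
theorem exists_twist_bc {k : Type u} [Field k] (p : ℕ) [Fact p.Prime] [CharP k p] (m : ℕ)
    (X : Over (Spec (CommRingCat.of k))) [FrobSch.IsCharP ((B k).obj X).left p] :
    ∃ t : ((B k).obj ((P p m).obj X)).left ⟶ ((B k).obj X).left,
      IsIso t ∧ ((B k).map (F (p := p) m X)).left ≫ t = FrobIter.iter p ((B k).obj X).left m := by
  let K := AlgebraicClosure k
  haveI : CharP K p := charP_of_injective_algebraMap (algebraMap k K).injective p
  haveI : IsIso (FrobIter.iter p (Spec (CommRingCat.of K)) m) := by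
    rw [FrobIter.iter_Spec]
    haveI : PerfectRing K p := PerfectField.toPerfectRing p
    haveI : IsIso (CommRingCat.ofHom (iterateFrobenius K p m)) :=
      (ConcreteCategory.isIso_iff_bijective _).mpr (bijective_iterateFrobenius K p m)
    infer_instance
  obtain ⟨t, ht, ht1, ht2⟩ := exists_twist_iso X.hom (bcσ k) (FrobIter.iter p (Spec (CommRingCat.of k)) m)
    (FrobIter.iter p (Spec (CommRingCat.of K)) m) (FrobIter.iter_comp (bcσ k) m)
  refine ⟨t, ht, ?_⟩
  haveI : FrobSch.IsCharP (pullback X.hom (bcσ k)) p :=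
    FrobSch.IsCharP.of_hom (pullback.snd X.hom (bcσ k)) p
  refine pullback.hom_ext ?_ ?_
  · refine (Category.assoc _ _ _).trans ?_
    erw [ht1]
    refine (pullback.lift_fst_assoc _ _ _ _).trans ?_
    rw [Category.assoc, F_fst]
    exact (FrobIter.iter_comp (pullback.fst X.hom (bcσ k)) m).symm
  · refine (Category.assoc _ _ _).trans ?_
    erw [ht2]
    refine (pullback.lift_snd_assoc _ _ _ _).trans ?_
    exact (FrobIter.iter_comp (pullback.snd X.hom (bcσ k)) m).symm

open AlgGrp25.FrobQuot in
/-- The relative Frobenius is surjective. -/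
theorem surjective_F {k : Type u} [Field k] (p : ℕ) [Fact p.Prime] [CharP k p] (m : ℕ)
    (X : Over (Spec (CommRingCat.of k))) : Surjective ((B k).map (F (p := p) m X)).left ∧ Surjective (F (p := p) m X).left := by
  haveI : CharP (AlgebraicClosure k) p :=
    charP_of_injective_algebraMap (algebraMap k (AlgebraicClosure k)).injective p
  obtain ⟨t, ht, e⟩ := exists_twist_bc p m X
  haveI := ht
  have h1 : Surjective ((B k).map (F (p := p) m X)).left := ⟨fun y => ⟨t y, by
    have hinj : Function.Injective t := t.isOpenEmbedding.injective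
    apply hinj
    rw [← Scheme.Hom.comp_apply, e]
    exact FrobIter.iter_apply m (t y)⟩⟩
  refine ⟨h1, ⟨fun y => ?_⟩⟩
  obtain ⟨z, rfl⟩ := (surjective_pr _).1 y
  obtain ⟨w, rfl⟩ := h1.1 z
  exact ⟨pr X w, (congrArg (fun f : ((B k).obj X).left ⟶ _ => f w) (pr_natural (F (p := p) m X))).symm⟩

open AlgGrp25.FrobQuot in
/-- A subscheme whose image under Frobenius is geometrically reduced. -/
theorem isReduced_bc_image {k : Type u} [Field k] (p : ℕ) [Fact p.Prime] [CharP k p] (m : ℕ)
    {Z Y : Over (Spec (CommRingCat.of k))} [LocallyOfFiniteType Z.hom] [IsReduced Y.left]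
    [FrobSch.IsCharP ((B k).obj Z).left p] (u₀ : Z ⟶ Y) [Surjective u₀.left]
    (e : Y ⟶ (P p m).obj Z) [IsClosedImmersion e.left] (hue : u₀ ≫ e = F (p := p) m Z)
    (hm : ∀ (x : ((B k).obj Z).left) (g : ((B k).obj Z).left.presheaf.stalk x), IsNilpotent g → g ^ p ^ m = 0) :
    IsReduced ((B k).obj Y).left := by
  haveI : IsFinite u₀.left := by
    haveI : IsFinite (u₀.left ≫ e.left) := by rw [← Over.comp_left, hue]; exact isFinite_F m Z
    exact MorphismProperty.of_postcomp (W := @IsFinite) (W' := @IsSeparated) u₀.left e.left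
      inferInstance inferInstance
  haveI : IsFinite ((B k).map u₀).left := property_map_bc u₀ @IsFinite ‹_›
  haveI : Surjective ((B k).map u₀).left := property_map_bc u₀ @Surjective ‹_›
  haveI : IsClosedImmersion ((B k).map e).left := property_map_bc e @IsClosedImmersion ‹_›
  obtain ⟨t, ht, het⟩ := exists_twist_bc p m Z
  haveI := ht
  have hvb : ((B k).map u₀).left ≫ ((B k).map e).left ≫ t = FrobIter.iter p ((B k).obj Z).left m := by
    rw [← Category.assoc, ← Over.comp_left, ← Functor.map_comp, hue, het]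
  have hinj : Function.Injective ((B k).map u₀).left := fun a b h => by
    have ha := congrArg (fun f : ((B k).obj Z).left ⟶ _ => f a) hvb
    have hb := congrArg (fun f : ((B k).obj Z).left ⟶ _ => f b) hvb
    simp only [Scheme.Hom.comp_apply, FrobIter.iter_apply] at ha hb
    rw [← ha, ← hb, h]
  have hemb : Topology.IsEmbedding ((B k).map u₀).left :=
    (Topology.IsClosedEmbedding.of_continuous_injective_isClosedMap ((B k).map u₀).left.continuous hinj
      ((B k).map u₀).left.isClosedMap).isEmbedding
  haveI : IsSchemeTheoreticallyDominant u₀.left := IsSchemeTheoreticallyDominant.of_isDominant u₀.left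
  haveI := flat_pr Y
  haveI : IsSchemeTheoreticallyDominant ((B k).map u₀).left :=
    IsSchemeTheoreticallyDominant.of_isPullback (isPullback_map_bc u₀).flip.flip.flip.flip
  haveI : ∀ y : ((B k).obj Y).left, _root_.IsReduced (((B k).obj Y).left.presheaf.stalk y) := fun y => by
    obtain ⟨x, rfl⟩ := ((B k).map u₀).left.surjective y
    exact isReduced_stalk_of_injective p m _ (((B k).map e).left ≫ t) hvb x
      (stalkMap_injective_of_app _ hemb (fun U => ((B k).map u₀).left.app_injective U) x) (hm x)
  exact isReduced_of_isReduced_stalk _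

open AlgGrp25.FrobQuot in
/-- A smooth group in positive characteristic has an affine normal subgroup with proper quotient. -/
theorem exists_affine_kernel_charP {k : Type u} [Field k] (p : ℕ) [Fact p.Prime] [CharP k p]
    (G : Over (Spec (CommRingCat.of k))) [GrpObj G] [Smooth G.hom] [QuasiCompact G.hom] :
    ∃ (N H : Over (Spec (CommRingCat.of k))) (_ : GrpObj N) (_ : GrpObj H) (i : N ⟶ G) (f : G ⟶ H),
      IsMonHom i ∧ IsClosedImmersion i.left ∧ AlgGrp.IsNormalHom i ∧ IsAffine N.left ∧
      IsMonHom f ∧ IsProper H.hom ∧ AlgGrp.IsKernel i f := by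
  haveI : Smooth ((B k).obj G).hom := inferInstanceAs (Smooth (pullback.snd G.hom (bcσ k)))
  haveI : QuasiCompact ((B k).obj G).hom := qc_bc G
  haveI : CharP (AlgebraicClosure k) p :=
    charP_of_injective_algebraMap (algebraMap k (AlgebraicClosure k)).injective p
  obtain ⟨L, _, a, ham, hac, hLs, hLc, hLa, hn, ⟨Q, _, q, hqm, hqs, hqf, hk, hQp⟩, -⟩ :=
    exists_affPart_properQuot ((B k).obj G)
  haveI := ham; haveI := hac; haveI := hLs; haveI := hLc; haveI := hLa
  haveI := hqm; haveI := hqs; haveI := hqf; haveI := hQp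
  haveI : IsReduced L.left := H23.RigidGamma.isReduced_of_smooth L.hom
  let C : TopologicalSpace.Closeds G.left :=
    ⟨pr G '' Set.range a.left, isClosedMap_pr G _ a.left.isClosedEmbedding.isClosed_range⟩
  let I := Scheme.IdealSheafData.vanishingIdeal C
  let Z : Over (Spec (CommRingCat.of k)) := Over.mk (I.subschemeι ≫ G.hom)
  let j : Z ⟶ G := Over.homMk I.subschemeι rfl
  haveI : IsClosedImmersion j.left := inferInstanceAs (IsClosedImmersion I.subschemeι)
  haveI : IsReduced Z.left := inferInstanceAs (IsReduced I.subscheme)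
  haveI : LocallyOfFiniteType Z.hom := by rw [← Over.w j]; infer_instance
  haveI : QuasiCompact Z.hom := by rw [← Over.w j]; infer_instance
  haveI : LocallyOfFiniteType ((B k).obj Z).hom := lft_bc Z
  haveI : QuasiCompact ((B k).obj Z).hom := qc_bc Z
  haveI : IsLocallyNoetherian ((B k).obj Z).left := LocallyOfFiniteType.isLocallyNoetherian ((B k).obj Z).hom
  haveI : CompactSpace ((B k).obj Z).left := QuasiCompact.compactSpace_of_compactSpace ((B k).obj Z).hom
  haveI : IsNoetherian ((B k).obj Z).left := {}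
  obtain ⟨m, hm⟩ := exists_stalk_bound ((B k).obj Z).left
  have hm' : ∀ (x : ((B k).obj Z).left) (g : ((B k).obj Z).left.presheaf.stalk x), IsNilpotent g → g ^ p ^ m = 0 :=
    fun x g hg => pow_eq_zero_of_le (Nat.lt_pow_self (Fact.out : p.Prime).one_lt).le (hm x g hg)
  let G' := (P p m).obj G
  haveI : Smooth G'.hom := inferInstanceAs (Smooth (pullback.snd G.hom _))
  haveI : QuasiCompact G'.hom := inferInstanceAs (QuasiCompact (pullback.snd G.hom _))
  haveI : LocallyOfFiniteType ((B k).obj G').hom := lft_bc G'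
  haveI : QuasiCompact ((B k).obj G').hom := qc_bc G'
  haveI : IsFinite (F (p := p) m G).left := isFinite_F m G
  let C' : TopologicalSpace.Closeds G'.left :=
    ⟨(F (p := p) m G).left '' C, (F (p := p) m G).left.isClosedMap _ C.isClosed⟩
  let I' := Scheme.IdealSheafData.vanishingIdeal C'
  let Y : Over (Spec (CommRingCat.of k)) := Over.mk (I'.subschemeι ≫ G'.hom)
  let ι₀ : Y ⟶ G' := Over.homMk I'.subschemeι rfl
  haveI : IsClosedImmersion ι₀.left := inferInstanceAs (IsClosedImmersion I'.subschemeι)
  haveI : IsReduced Y.left := inferInstanceAs (IsReduced I'.subscheme)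
  have hrj : Set.range j.left = C := H23.RedSub.range_vanishingIdeal C
  have hrι : Set.range ι₀.left = (F (p := p) m G).left '' C := H23.RedSub.range_vanishingIdeal C'
  obtain ⟨u₁, hu₁⟩ := H23.RedSub.exists_lift_closed (j ≫ F (p := p) m G).left ι₀.left (by
    rw [hrι, ← hrj, ← Set.range_comp]
    rintro _ ⟨x, rfl⟩
    exact ⟨x, rfl⟩)
  let u₀ : Z ⟶ Y := Over.homMk u₁ (by rw [← Over.w ι₀, reassoc_of% hu₁, Over.w (j ≫ F (p := p) m G)])
  have hu : u₀ ≫ ι₀ = j ≫ F (p := p) m G := Over.OverMorphism.ext hu₁
  haveI : Surjective u₀.left := ⟨fun y => by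
    obtain ⟨x, hx, hxy⟩ := hrι.le ⟨y, rfl⟩
    obtain ⟨z, rfl⟩ := hrj.ge hx
    refine ⟨z, ι₀.left.isEmbedding.injective ?_⟩
    exact (congrArg (fun f : Z ⟶ G' => f.left z) hu).trans hxy⟩
  haveI : IsClosedImmersion ((P p m).map j).left :=
    MorphismProperty.overPullbackMap (P := @IsClosedImmersion) _ j ‹_›
  obtain ⟨e₁, he₁⟩ := H23.RedSub.exists_lift_closed ι₀.left ((P p m).map j).left (by
    rintro _ ⟨y, rfl⟩
    obtain ⟨z, rfl⟩ := u₀.left.surjective y
    refine ⟨(F (p := p) m Z).left z, ?_⟩
    exact (congrArg (fun f : Z ⟶ G' => f.left z) ((F_natural (p := p) m j).symm.trans hu.symm)))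
  let e : Y ⟶ (P p m).obj Z := Over.homMk e₁ (by rw [← Over.w ((P p m).map j), reassoc_of% he₁, Over.w ι₀])
  have he : e ≫ (P p m).map j = ι₀ := Over.OverMorphism.ext he₁
  haveI : IsClosedImmersion e.left := by
    haveI : IsClosedImmersion (e.left ≫ ((P p m).map j).left) := by rw [← Over.comp_left, he]; infer_instance
    exact IsClosedImmersion.of_comp e.left ((P p m).map j).left
  haveI : Mono ((P p m).map j) := Over.mono_of_mono_left _
  have hue : u₀ ≫ e = F (p := p) m Z := by
    rw [← cancel_mono ((P p m).map j), Category.assoc, he, hu, F_natural]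
  haveI : IsReduced ((B k).obj Y).left := isReduced_bc_image p m u₀ e hue hm'
  -- the image subgroup over the algebraic closure
  have hBFs := (surjective_F p m G).1
  haveI := hBFs
  haveI : IsMonHom ((B k).map (F (p := p) m G)) := inferInstance
  let a' : L ⟶ (B k).obj G' := a ≫ (B k).map (F (p := p) m G)
  haveI : IsMonHom a' := inferInstanceAs (IsMonHom (a ≫ (B k).map (F (p := p) m G)))
  have hset : Set.range ((B k).map ι₀).left = Set.range a'.left := by
    rw [range_map_bc, hrι]
    ext x
    constructor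
    · rintro ⟨c, hc, hcx⟩
      obtain ⟨w, rfl⟩ := hBFs.1 x
      have h1 := congrArg (fun f : ((B k).obj G).left ⟶ _ => f w) (pr_natural (F (p := p) m G))
      have h2 : pr G w = c := F_injective (p := p) m G (h1.symm.trans hcx.symm)
      obtain ⟨l, hl⟩ := (preimage_image_range a q hk).le (show pr G w ∈ pr G '' Set.range a.left by rw [h2]; exact hc)
      exact ⟨l, congrArg ((B k).map (F (p := p) m G)).left hl⟩
    · rintro ⟨l, rfl⟩
      refine ⟨pr G (a.left l), ⟨_, ⟨l, rfl⟩, rfl⟩, ?_⟩
      exact (congrArg (fun f : ((B k).obj G).left ⟶ _ => f (a.left l)) (pr_natural (F (p := p) m G))).symm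
  obtain ⟨str, hιm, hnY, hYs, c, hc, hcs⟩ := exists_group_of_set ι₀ a' hset (by
    let u : (B k).obj G ⊗ L ⟶ (B k).obj G' ⊗ L := (B k).map (F (p := p) m G) ▷ L
    haveI : Surjective u.left := AlgGrpH24.property_whiskerRight' _ L @Surjective hBFs
    obtain ⟨n', hn'⟩ := hn _ (fst ((B k).obj G) L) (snd ((B k).obj G) L)
    rintro _ ⟨y, rfl⟩
    obtain ⟨z, rfl⟩ := u.left.surjective y
    have e1 : u ≫ (fst ((B k).obj G') L * (snd ((B k).obj G') L ≫ a') * (fst ((B k).obj G') L)⁻¹) = n' ≫ a' := by
      rw [MonObj.comp_mul, MonObj.comp_mul, GrpObj.comp_inv]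
      simp only [u, whiskerRight_fst]
      rw [← Category.assoc n', ← hn', MonObj.mul_comp, MonObj.mul_comp, GrpObj.inv_comp, Category.assoc]
      erw [whiskerRight_snd_assoc]
    exact ⟨n'.left z, (congrArg (fun f : (B k).obj G ⊗ L ⟶ _ => f.left z) e1).symm⟩)
  letI := str
  haveI := hιm; haveI := hYs; haveI := hcs
  haveI : IsClosedImmersion ((B k).map ι₀).left := property_map_bc ι₀ @IsClosedImmersion ‹_›
  haveI : Mono ((B k).map ι₀) := Over.mono_of_mono_left _
  haveI : IsMonHom c := Red23Lib.isMonHom_of_mul c fun T x y => by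
    rw [← cancel_mono ((B k).map ι₀), Category.assoc, hc, MonObj.mul_comp, MonObj.mul_comp, Category.assoc,
      Category.assoc, hc]
  haveI : LocallyOfFiniteType Y.hom := by rw [← Over.w ι₀]; infer_instance
  haveI : QuasiCompact Y.hom := by rw [← Over.w ι₀]; infer_instance
  haveI : LocallyOfFiniteType ((B k).obj Y).hom := lft_bc Y
  haveI : QuasiCompact ((B k).obj Y).hom := qc_bc Y
  haveI : IsSchemeTheoreticallyDominant c.left := IsSchemeTheoreticallyDominant.of_isDominant c.left
  haveI := (GrpSchLib.ImageFlat.flat_surjective_of_dominant c).1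
  haveI : IsAffine ((B k).obj Y).left := GrpSchLib.isAffine_of_quotient c
  have hσ : (@Surjective ⊓ @Flat ⊓ @QuasiCompact : MorphismProperty Scheme.{u}) (bcσ k) :=
    ⟨⟨surjective_bcσ, inferInstance⟩, inferInstance⟩
  haveI : IsAffine Y.left := by
    haveI := EtFound.fpqc_isAffineHom.{u}
    haveI : IsAffineHom Y.hom :=
      MorphismProperty.of_pullback_snd_of_descendsAlong (P := @IsAffineHom) (g := bcσ k) hσ
        (inferInstanceAs (IsAffineHom ((B k).obj Y).hom))
    exact isAffine_of_isAffineHom Y.hom
  obtain ⟨R, _, r, hrm, hrs, hrf, -, hRl, hRq, hRsep, hrk⟩ := AlgGrpH24.exists_quotient_grp ι₀ hnY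
  haveI := hrm; haveI := hrs; haveI := hrf; haveI := hRl; haveI := hRq; haveI := hRsep
  haveI : LocallyOfFiniteType ((B k).obj R).hom := lft_bc R
  haveI : QuasiCompact ((B k).obj R).hom := qc_bc R
  haveI : LocallyOfFiniteType Q.hom := inferInstance
  haveI : IsMonHom ((B k).map (F (p := p) m G ≫ r)) := inferInstance
  obtain ⟨d, -, hqd, -⟩ := Groth.Agent.S3280.result (AlgebraicClosure k) ((B k).obj G) L Q ((B k).obj R) q a hk
    ((B k).map (F (p := p) m G ≫ r)) (by
      rw [Functor.map_comp, ← Category.assoc]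
      show a' ≫ (B k).map r = _
      rw [← hc, Category.assoc, ← Functor.map_comp, hrk.w, ← Hom.one_def,
        ← Hom.one_def]
      refine Eq.trans (congrArg (c ≫ ·) ((B k).homMonoidHom.map_one)) (MonObj.comp_one c))
  haveI : Surjective ((B k).map r).left := property_map_bc r @Surjective ‹_›
  haveI : Surjective d.left := by
    haveI : Surjective (q.left ≫ d.left) := by
      rw [← Over.comp_left, hqd, Functor.map_comp, Over.comp_left]; infer_instance
    exact Surjective.of_comp q.left d.left
  haveI : UniversallyClosed (d.left ≫ ((B k).obj R).hom) := by rw [Over.w]; infer_instance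
  haveI : UniversallyClosed ((B k).obj R).hom := UniversallyClosed.of_comp_surjective d.left _
  haveI : UniversallyClosed R.hom :=
    MorphismProperty.of_pullback_snd_of_descendsAlong (P := @UniversallyClosed) (Q := @Surjective ⊓ @Flat ⊓ @QuasiCompact)
      (g := bcσ k) hσ (inferInstanceAs (UniversallyClosed ((B k).obj R).hom))
  haveI : IsProper R.hom := {}
  obtain ⟨N, _, i, him, hic, hin, hik⟩ := GrpSchLib.exists_kernel (F (p := p) m G ≫ r)
  haveI := hic
  let g : N ⟶ Y := hrk.lift (i ≫ F (p := p) m G) (toUnit N) (by rw [Category.assoc]; exact hik.w)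
  have hg : g ≫ ι₀ = i ≫ F (p := p) m G := hrk.lift_fst _ _ _
  haveI : IsAffineHom g.left := by
    haveI : IsAffineHom (g.left ≫ ι₀.left) := by rw [← Over.comp_left, hg, Over.comp_left]; infer_instance
    exact IsAffineHom.of_comp g.left ι₀.left
  exact ⟨N, R, inferInstance, inferInstance, i, F (p := p) m G ≫ r, him, hic, hin, isAffine_of_isAffineHom g.left,
    inferInstance, inferInstance, hik⟩

end Groth.Agent.Chev24
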