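import Groth.Agent.Chev24.DescentKey
import Groth.Agent.EtFound.Descent

/-! Descending the affine normal subgroup with proper quotient from an algebraic closure. -/

set_option linter.style.haveILetI false

open CategoryTheory AlgebraicGeometry MonoidalCategory CartesianMonoidalCategory MonObj Limits IsLocalRing

namespace Groth.Agent.Chev24

universe u

variable {k : Type u} [Field k]

/-- The base change of a closed subscheme is the fibre product. -/
theorem isPullback_map_bc {X Y : Over (Spec (CommRingCat.of k))} (f : X ⟶ Y) :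
    IsPullback (pr X) ((B k).map f).left f.left (pr Y) := by
  have t : IsPullback (pr Y) ((B k).obj Y).hom Y.hom (bcσ k) := IsPullback.of_hasPullback Y.hom (bcσ k)
  have s : IsPullback (pr X) ((B k).obj X).hom X.hom (bcσ k) := IsPullback.of_hasPullback X.hom (bcσ k)
  refine IsPullback.of_bot ?_ (pr_natural f).symm t
  rw [Over.w ((B k).map f), Over.w f]
  exact s

theorem range_map_bc {X Y : Over (Spec (CommRingCat.of k))} (f : X ⟶ Y) :
    Set.range ((B k).map f).left = pr Y ⁻¹' Set.range f.left := by
  have h := (isPullback_map_bc f).flip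
  rw [← h.isoPullback_hom_fst, Scheme.Hom.comp_base, TopCat.coe_comp,
    h.isoPullback.hom.surjective.range_comp, Scheme.Pullback.range_fst]

theorem surjective_bcσ : Surjective (bcσ k) := GrpSchLib.surjective_spec_map_field _

/-- Descent of the largest affine subgroup of the base change to a subgroup below. -/
theorem exists_descend_normal {G : Over (Spec (CommRingCat.of k))} [GrpObj G] [Smooth G.hom] [QuasiCompact G.hom]
    {L Q : Over (Spec (CommRingCat.of (AlgebraicClosure k)))} [GrpObj L] [GrpObj Q] [Smooth L.hom]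
    [ConnectedSpace L.left] [IsAffine L.left] [IsProper Q.hom]
    (a : L ⟶ (B k).obj G) [IsMonHom a] [IsClosedImmersion a.left] (hn : AlgGrp.IsNormalHom a)
    (q : (B k).obj G ⟶ Q) [IsMonHom q] [Surjective q.left] [Flat q.left] (hk : AlgGrp.IsKernel a q)
    {Y : Over (Spec (CommRingCat.of k))} (ι₀ : Y ⟶ G) [IsClosedImmersion ι₀.left] [IsReduced ((B k).obj Y).left]
    (hY : Set.range ι₀.left = pr G '' Set.range a.left) :
    ∃ (str : GrpObj Y), @IsMonHom _ _ _ Y G str.toMonObj _ ι₀ ∧ @AlgGrp.IsNormalHom _ _ _ _ _ ι₀ ∧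
      Smooth Y.hom ∧ ConnectedSpace Y.left ∧ IsAffine Y.left ∧
      ∃ (R : Over (Spec (CommRingCat.of k))) (_ : GrpObj R) (r : G ⟶ R),
        IsMonHom r ∧ Surjective r.left ∧ Flat r.left ∧ AlgGrp.IsKernel ι₀ r ∧ IsProper R.hom ∧ Smooth R.hom := by
  haveI : LocallyOfFiniteType ((B k).obj G).hom := lft_bc G
  haveI : QuasiCompact ((B k).obj G).hom := qc_bc G
  haveI : IsReduced L.left := H23.RigidGamma.isReduced_of_smooth L.hom
  have hset : Set.range ((B k).map ι₀).left = Set.range a.left := by
    rw [range_map_bc, hY, preimage_image_range a q hk]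
  obtain ⟨str, hm, hnY, hs, c, hc, hcs⟩ := exists_group_of_set ι₀ a hset (by
    obtain ⟨n', hn'⟩ := hn _ (fst ((B k).obj G) L) (snd ((B k).obj G) L)
    rw [hn', Over.comp_left]
    rintro _ ⟨z, rfl⟩
    exact ⟨_, rfl⟩)
  letI := str
  haveI := hm; haveI := hs; haveI := hcs
  haveI : Mono ι₀ := Over.mono_of_mono_left _
  haveI : IsClosedImmersion ((B k).map ι₀).left := property_map_bc ι₀ @IsClosedImmersion ‹_›
  haveI : Mono ((B k).map ι₀) := Over.mono_of_mono_left _
  haveI : Mono a := Over.mono_of_mono_left _
  obtain ⟨d, hd⟩ := H23.RedSub.exists_lift_closed ((B k).map ι₀).left a.left hset.le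
  have hcd : c.left ≫ d = 𝟙 _ := by
    rw [← cancel_mono a.left, Category.assoc, hd, ← Over.comp_left, hc, Category.id_comp]
  have hdc : d ≫ c.left = 𝟙 _ := by
    rw [← cancel_mono ((B k).map ι₀).left, Category.assoc, ← Over.comp_left, hc, hd, Category.id_comp]
  haveI : IsIso c.left := ⟨d, hcd, hdc⟩
  haveI : IsIso d := ⟨c.left, hdc, hcd⟩
  haveI : IsAffine ((B k).obj Y).left := .of_isIso d
  haveI := surjective_pr Y
  haveI : ConnectedSpace ((B k).obj Y).left := c.left.surjective.connectedSpace c.left.continuous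
  haveI : ConnectedSpace Y.left := (pr Y).surjective.connectedSpace (pr Y).continuous
  have hσ : (@Surjective ⊓ @Flat ⊓ @QuasiCompact : MorphismProperty Scheme.{u}) (bcσ k) :=
    ⟨⟨surjective_bcσ, inferInstance⟩, inferInstance⟩
  haveI : IsAffine Y.left := by
    haveI : IsAffineHom ((B k).obj Y).hom := inferInstance
    haveI := EtFound.fpqc_isAffineHom.{u}
    haveI : IsAffineHom Y.hom :=
      MorphismProperty.of_pullback_snd_of_descendsAlong (P := @IsAffineHom) (g := bcσ k) hσ
        (inferInstanceAs (IsAffineHom ((B k).obj Y).hom))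
    exact isAffine_of_isAffineHom Y.hom
  obtain ⟨R, _, r, hrm, hrs, hrf, -, hRl, hRq, hRsep, hrk⟩ := AlgGrpH24.exists_quotient_grp ι₀ hnY
  haveI := hrm; haveI := hrs; haveI := hrf; haveI := hRl; haveI := hRq; haveI := hRsep
  haveI : LocallyOfFiniteType ((B k).obj R).hom := lft_bc R
  haveI : QuasiCompact ((B k).obj R).hom := qc_bc R
  haveI : LocallyOfFiniteType Q.hom := inferInstance
  haveI : IsMonHom ((B k).map r) := inferInstance
  obtain ⟨e, -, hqe, -⟩ := Groth.Agent.S3280.result (AlgebraicClosure k) ((B k).obj G) L Q ((B k).obj R) q a hk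
    ((B k).map r) (by
      rw [← hc, Category.assoc, ← Functor.map_comp, hrk.w, ← Hom.one_def, ← Hom.one_def]
      refine Eq.trans (congrArg (c ≫ ·) ((B k).homMonoidHom.map_one)) (MonObj.comp_one c))
  haveI : Surjective ((B k).map r).left := property_map_bc r @Surjective ‹_›
  haveI : Surjective e.left := by
    haveI : Surjective (q.left ≫ e.left) := by rw [← Over.comp_left, hqe]; infer_instance
    exact Surjective.of_comp q.left e.left
  haveI : UniversallyClosed (e.left ≫ ((B k).obj R).hom) := by rw [Over.w]; infer_instance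
  haveI : UniversallyClosed ((B k).obj R).hom := UniversallyClosed.of_comp_surjective e.left _
  haveI : UniversallyClosed R.hom :=
    MorphismProperty.of_pullback_snd_of_descendsAlong (P := @UniversallyClosed) (Q := @Surjective ⊓ @Flat ⊓ @QuasiCompact)
      (g := bcσ k) hσ (inferInstanceAs (UniversallyClosed ((B k).obj R).hom))
  exact ⟨str, hm, hnY, hs, inferInstance, inferInstance, R, inferInstance, r, hrm, hrs, hrf, hrk, {},
    GrpSchLib.smooth_of_quotient r⟩

end Groth.Agent.Chev24
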