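import Groth.Agent.Red23Lib.BCComp

/-! Transposing a repeated base change along morphisms which agree on the base. -/

open CategoryTheory AlgebraicGeometry MonoidalCategory CartesianMonoidalCategory MonObj Limits

namespace Groth.Agent.Chev24

universe u

section Twist

variable {S S' Z : Scheme.{u}} (sig : S' ⟶ S) {t1 t2 : Z ⟶ S'}

/-- The components of `twistNat`. -/
noncomputable def twistApp (h : t2 ≫ sig = t1 ≫ sig) (X : Over S) :
    pullback (pullback.snd X.hom sig) t2 ⟶ pullback (pullback.snd X.hom sig) t1 :=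
  pullback.lift
    (pullback.lift (pullback.fst (pullback.snd X.hom sig) t2 ≫ pullback.fst X.hom sig)
      (pullback.snd (pullback.snd X.hom sig) t2 ≫ t1)
      (by rw [Category.assoc, pullback.condition, pullback.condition_assoc, Category.assoc, h]))
    (pullback.snd (pullback.snd X.hom sig) t2) (pullback.lift_snd _ _ _)

theorem twistApp_fst_fst (h : t2 ≫ sig = t1 ≫ sig) (X : Over S) :
    twistApp sig h X ≫ pullback.fst (pullback.snd X.hom sig) t1 ≫ pullback.fst X.hom sig =
      pullback.fst (pullback.snd X.hom sig) t2 ≫ pullback.fst X.hom sig := by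
  rw [twistApp, pullback.lift_fst_assoc, pullback.lift_fst]

theorem twistApp_snd (h : t2 ≫ sig = t1 ≫ sig) (X : Over S) :
    twistApp sig h X ≫ pullback.snd (pullback.snd X.hom sig) t1 = pullback.snd (pullback.snd X.hom sig) t2 :=
  pullback.lift_snd _ _ _

theorem map_fst_fst {X Y : Over S} (f : X ⟶ Y) (t : Z ⟶ S') :
    ((Over.pullback sig ⋙ Over.pullback t).map f).left ≫ pullback.fst (pullback.snd Y.hom sig) t ≫
        pullback.fst Y.hom sig =
      pullback.fst (pullback.snd X.hom sig) t ≫ pullback.fst X.hom sig ≫ f.left := by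
  change pullback.lift _ _ _ ≫ _ = _
  refine (pullback.lift_fst_assoc _ _ _ _).trans ?_
  refine (Category.assoc _ _ _).trans (congrArg (_ ≫ ·) ?_)
  exact pullback.lift_fst _ _ _

theorem map_snd {X Y : Over S} (f : X ⟶ Y) (t : Z ⟶ S') :
    ((Over.pullback sig ⋙ Over.pullback t).map f).left ≫ pullback.snd (pullback.snd Y.hom sig) t =
      pullback.snd (pullback.snd X.hom sig) t :=
  pullback.lift_snd _ _ _

theorem hom_ext_twist {T : Scheme.{u}} {X : Over S} {t : Z ⟶ S'}
    {a b : T ⟶ pullback (pullback.snd X.hom sig) t}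
    (h₁ : a ≫ pullback.fst (pullback.snd X.hom sig) t ≫ pullback.fst X.hom sig =
      b ≫ pullback.fst (pullback.snd X.hom sig) t ≫ pullback.fst X.hom sig)
    (h₂ : a ≫ pullback.snd (pullback.snd X.hom sig) t = b ≫ pullback.snd (pullback.snd X.hom sig) t) : a = b := by
  refine pullback.hom_ext (pullback.hom_ext ?_ ?_) h₂
  · simpa only [Category.assoc] using h₁
  · simp only [Category.assoc, pullback.condition]
    rw [reassoc_of% h₂]

/-- Two base changes of a base change along morphisms agreeing on the base. -/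
noncomputable def twistNat (h : t2 ≫ sig = t1 ≫ sig) :
    Over.pullback sig ⋙ Over.pullback t2 ⟶ Over.pullback sig ⋙ Over.pullback t1 where
  app X := Over.homMk (twistApp sig h X) (twistApp_snd sig h X)
  naturality X Y f := by
    refine Over.OverMorphism.ext (hom_ext_twist sig ?_ ?_)
    · refine Eq.trans (Category.assoc _ _ _) (Eq.trans ?_ (Category.assoc _ _ _).symm)
      refine Eq.trans (congrArg (((Over.pullback sig ⋙ Over.pullback t2).map f).left ≫ ·) (twistApp_fst_fst sig h Y)) ?_
      refine Eq.trans ?_ (congrArg (twistApp sig h X ≫ ·) (map_fst_fst sig f t1)).symm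
      rw [map_fst_fst, reassoc_of% (twistApp_fst_fst sig h X)]
    · refine Eq.trans (Category.assoc _ _ _) (Eq.trans ?_ (Category.assoc _ _ _).symm)
      refine Eq.trans (congrArg (((Over.pullback sig ⋙ Over.pullback t2).map f).left ≫ ·) (twistApp_snd sig h Y)) ?_
      refine Eq.trans ?_ (congrArg (twistApp sig h X ≫ ·) (map_snd sig f t1)).symm
      rw [map_snd, twistApp_snd]

theorem twistNat_fst (h : t2 ≫ sig = t1 ≫ sig) (X : Over S) :
    ((twistNat sig h).app X).left ≫ pullback.fst (pullback.snd X.hom sig) t1 =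
      pullback.lift (pullback.fst (pullback.snd X.hom sig) t2 ≫ pullback.fst X.hom sig)
        (pullback.snd (pullback.snd X.hom sig) t2 ≫ t1)
        (by rw [Category.assoc, pullback.condition, pullback.condition_assoc, Category.assoc, h]) :=
  pullback.lift_fst _ _ _

set_option backward.isDefEq.respectTransparency false in
theorem isMonHom_twistNat (h : t2 ≫ sig = t1 ≫ sig) (G : Over S) [GrpObj G] :
    letI : GrpObj ((Over.pullback sig).obj G) := Functor.grpObjObj
    letI : GrpObj ((Over.pullback t1).obj ((Over.pullback sig).obj G)) := Functor.grpObjObj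
    letI : GrpObj ((Over.pullback t2).obj ((Over.pullback sig).obj G)) := Functor.grpObjObj
    @IsMonHom (Over Z) _ _ ((Over.pullback t2).obj ((Over.pullback sig).obj G))
      ((Over.pullback t1).obj ((Over.pullback sig).obj G)) GrpObj.toMonObj GrpObj.toMonObj
      ((twistNat sig h).app G) := by
  have hh := Red23Lib.isMonHom_natTrans_app (twistNat sig h) G
  have h1 := hh.one_hom
  have h2 := hh.mul_hom
  constructor
  · refine Eq.trans (congrArg (· ≫ _) ?_) (h1.trans ?_)
    · change _ ≫ _ = _ ≫ _
      simp [Functor.LaxMonoidal.comp_ε]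
    · change _ ≫ _ = _ ≫ _
      simp [Functor.LaxMonoidal.comp_ε]
  · refine Eq.trans (congrArg (· ≫ _) ?_) (h2.trans (congrArg (_ ≫ ·) ?_))
    · change _ ≫ _ = _ ≫ _
      simp [Functor.LaxMonoidal.comp_μ]
    · change _ ≫ _ = _ ≫ _
      simp [Functor.LaxMonoidal.comp_μ]

theorem twist_point (h : t2 ≫ sig = t1 ≫ sig) (X : Over S) (u u' : Z ⟶ pullback X.hom sig)
    (hu : u ≫ pullback.snd X.hom sig = t2) (hu' : u' ≫ pullback.snd X.hom sig = t1)
    (he : u' ≫ pullback.fst X.hom sig = u ≫ pullback.fst X.hom sig) :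
    u' = pullback.lift u (𝟙 Z) (hu.trans (Category.id_comp _).symm) ≫ ((twistNat sig h).app X).left ≫
      pullback.fst (pullback.snd X.hom sig) t1 := by
  rw [twistNat_fst]
  apply pullback.hom_ext
  · rw [Category.assoc, pullback.lift_fst, pullback.lift_fst_assoc, he]
  · rw [Category.assoc, pullback.lift_snd, pullback.lift_snd_assoc, hu', Category.id_comp]

end Twist

end Groth.Agent.Chev24
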