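import Groth.Agent.Chev24.DescentSet
import Groth.Agent.Chev24.AffProperQuot
import Groth.Agent.Chev24.DescentTwist

/-! An affine normal subgroup with proper quotient over an algebraic closure is set-theoretically defined below. -/

set_option linter.style.haveILetI false

open CategoryTheory AlgebraicGeometry MonoidalCategory CartesianMonoidalCategory MonObj Limits IsLocalRing

namespace Groth.Agent.Chev24

universe u

variable {k : Type u} [Field k]

theorem comp_eq_one_aux {Ω : Type u} [Field Ω] {L M₂ M₁ Q T : Over (Spec (CommRingCat.of Ω))} [GrpObj L]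
    [GrpObj M₂] [GrpObj M₁] [GrpObj Q] [Smooth L.hom] [ConnectedSpace L.left] [IsAffine L.left] [IsProper Q.hom]
    (a : L ⟶ M₂) [IsMonHom a] (θ : M₂ ⟶ M₁) [IsMonHom θ] (q : M₁ ⟶ Q) [IsMonHom q] (p : T ⟶ L) :
    p ≫ a ≫ θ ≫ q = 1 := by
  haveI : IsMonHom (θ ≫ q) := inferInstance
  rw [eq_one_of_affine_of_proper (a ≫ θ ≫ q), MonObj.comp_one]

/-- A homomorphism carries a point of an affine subgroup into the kernel of a map to a proper group. -/
theorem comp_eq_one_of_twist {K Ω : Type u} [Field K] [Field Ω]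
    {t1 t2 : Spec (CommRingCat.of Ω) ⟶ Spec (CommRingCat.of K)}
    {L M Q : Over (Spec (CommRingCat.of K))} [GrpObj L] [GrpObj M] [GrpObj Q] [Smooth L.hom]
    [ConnectedSpace L.left] [IsAffine L.left] [IsAlgClosed K] [IsProper Q.hom]
    (a : L ⟶ M) [IsMonHom a] (q : M ⟶ Q) [IsMonHom q]
    (θ : (Over.pullback t2).obj M ⟶ (Over.pullback t1).obj M)
    (hθ : letI : GrpObj ((Over.pullback t1).obj M) := Functor.grpObjObj
      letI : GrpObj ((Over.pullback t2).obj M) := Functor.grpObjObj
      IsMonHom θ)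
    (m : Spec (CommRingCat.of Ω) ⟶ L.left) (hm : m ≫ L.hom = t2) (v : Over.mk t1 ⟶ M)
    (hv : v.left = pullback.lift (m ≫ a.left) (𝟙 _) (by rw [Category.assoc, Over.w a, hm, Category.id_comp]) ≫
      θ.left ≫ pullback.fst M.hom t1) : v ≫ q = 1 := by
  let L' := (Over.pullback t2).obj L
  let Q' := (Over.pullback t1).obj Q
  letI : GrpObj L' := Functor.grpObjObj
  letI : GrpObj Q' := Functor.grpObjObj
  letI : GrpObj ((Over.pullback t1).obj M) := Functor.grpObjObj
  letI : GrpObj ((Over.pullback t2).obj M) := Functor.grpObjObj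
  haveI : Smooth L'.hom := inferInstanceAs (Smooth (pullback.snd L.hom t2))
  haveI : IsAffine L'.left := inferInstanceAs (IsAffine (pullback L.hom t2))
  haveI : ConnectedSpace L'.left := by
    haveI := AlgGrpH24.geometricallyIntegral_grp L
    haveI : GeometricallyIntegral (pullback.snd L.hom t2) := inferInstance
    haveI : IrreducibleSpace ↥(pullback L.hom t2) :=
      GeometricallyIrreducible.irreducibleSpace_of_subsingleton (pullback.snd L.hom t2)
    exact inferInstanceAs (ConnectedSpace ↥(pullback L.hom t2))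
  haveI : IsProper Q'.hom := inferInstanceAs (IsProper (pullback.snd Q.hom t1))
  let p : Over.mk (𝟙 (Spec (CommRingCat.of Ω))) ⟶ L' :=
    Over.homMk (pullback.lift m (𝟙 _) (by rw [hm, Category.id_comp])) (pullback.lift_snd _ _ _)
  let s : Over.mk (𝟙 (Spec (CommRingCat.of Ω))) ⟶ (Over.pullback t1).obj (Over.mk t1) :=
    Over.homMk (pullback.lift (𝟙 _) (𝟙 _) rfl) (pullback.lift_snd _ _ _)
  have e : p ≫ (Over.pullback t2).map a ≫ θ ≫ (Over.pullback t1).map q =
      s ≫ (Over.pullback t1).map (1 : Over.mk t1 ⟶ Q) := by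
    refine Eq.trans (@comp_eq_one_aux Ω _ L' ((Over.pullback t2).obj M) ((Over.pullback t1).obj M) Q' _
      Functor.grpObjObj Functor.grpObjObj Functor.grpObjObj Functor.grpObjObj _ _ _ _
      ((Over.pullback t2).map a) inferInstance θ hθ ((Over.pullback t1).map q) inferInstance p) ?_
    refine Eq.trans (MonObj.comp_one s).symm (congrArg (s ≫ ·) ?_)
    exact ((Over.pullback t1).homMonoidHom).map_one.symm
  have e' := congrArg (fun g => g.left ≫ pullback.fst Q.hom t1) e
  have hpa : p.left ≫ ((Over.pullback t2).map a).left = pullback.lift (m ≫ a.left) (𝟙 _)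
      (by rw [Category.assoc, Over.w a, hm, Category.id_comp]) := by
    apply pullback.hom_ext
    · show (pullback.lift _ _ _ ≫ pullback.lift _ _ _) ≫ _ = _
      erw [Category.assoc, pullback.lift_fst, pullback.lift_fst_assoc, pullback.lift_fst]
    · show (pullback.lift _ _ _ ≫ pullback.lift _ _ _) ≫ _ = _
      erw [Category.assoc, pullback.lift_snd, pullback.lift_snd, pullback.lift_snd]
      rfl
  apply Over.OverMorphism.ext
  rw [Over.comp_left, hv, ← hpa]
  have hq : ((Over.pullback t1).map q).left ≫ pullback.fst Q.hom t1 = pullback.fst M.hom t1 ≫ q.left :=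
    pullback.lift_fst _ _ _
  have h1 : s.left ≫ ((Over.pullback t1).map (1 : Over.mk t1 ⟶ Q)).left ≫ pullback.fst Q.hom t1 =
      (1 : Over.mk t1 ⟶ Q).left := by
    show pullback.lift _ _ _ ≫ pullback.lift _ _ _ ≫ _ = _
    erw [pullback.lift_fst, pullback.lift_fst_assoc]
    exact Category.id_comp _
  simp only [Over.comp_left, Category.assoc] at e'
  rw [hq, h1] at e'
  simpa only [Category.assoc] using e'

/-- Every point of a scheme is the image of a geometric point. -/
theorem exists_geomPoint (X : Scheme.{u}) (z : X) :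
    ∃ (Ω : Type u) (_ : Field Ω) (w : Spec (CommRingCat.of Ω) ⟶ X), ∀ s, w s = z :=
  ⟨AlgebraicClosure (X.residueField z), inferInstance,
    Spec.map (CommRingCat.ofHom (algebraMap (X.residueField z) _)) ≫ X.fromSpecResidueField z,
    fun s => (Scheme.Hom.comp_apply _ _ s).trans (Scheme.fromSpecResidueField_apply _ _)⟩

set_option maxHeartbeats 400000 in
/-- The image of an affine normal subgroup with proper quotient is saturated for the projection. -/
theorem preimage_image_range {G : Over (Spec (CommRingCat.of k))} [GrpObj G]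
    {L Q : Over (Spec (CommRingCat.of (AlgebraicClosure k)))} [GrpObj L] [GrpObj Q] [Smooth L.hom]
    [ConnectedSpace L.left] [IsAffine L.left] [IsProper Q.hom]
    (a : L ⟶ (B k).obj G) [IsMonHom a] [IsClosedImmersion a.left] (q : (B k).obj G ⟶ Q) [IsMonHom q]
    (hk : AlgGrp.IsKernel a q) : pr G ⁻¹' (pr G '' Set.range a.left) = Set.range a.left := by
  refine subset_antisymm ?_ (Set.subset_preimage_image _ _)
  rintro x ⟨y, hy, hxy⟩
  obtain ⟨z, hz1, hz2⟩ := Scheme.Pullback.exists_preimage_pullback (f := pr G) (g := pr G) x y hxy.symm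
  obtain ⟨Ω, _, w, hw⟩ := exists_geomPoint (pullback (pr G) (pr G)) z
  let w1 := w ≫ pullback.fst (pr G) (pr G)
  let w2 := w ≫ pullback.snd (pr G) (pr G)
  let BG := (B k).obj G
  let t1 := w1 ≫ BG.hom
  let t2 := w2 ≫ BG.hom
  have hwpr : w1 ≫ pr G = w2 ≫ pr G := by simp only [w1, w2, Category.assoc, pullback.condition]
  have hB : BG.hom ≫ bcσ k = pr G ≫ G.hom := pullback.condition.symm
  have ht : t2 ≫ bcσ k = t1 ≫ bcσ k := by
    simp only [t1, t2, Category.assoc, hB]
    rw [reassoc_of% hwpr]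
  haveI : IsReduced (Spec (CommRingCat.of Ω)) := inferInstance
  obtain ⟨m, hm⟩ := H23.RedSub.exists_lift_closed w2 a.left (by
    rintro _ ⟨s, rfl⟩
    show pullback.snd (pr G) (pr G) (w s) ∈ _
    rw [hw s, hz2]
    exact hy)
  have hmt : m ≫ L.hom = t2 := by rw [← Over.w a, reassoc_of% hm]
  let v : Over.mk t1 ⟶ BG := Over.homMk w1 rfl
  have hv : v ≫ q = 1 := by
    refine comp_eq_one_of_twist a q ((twistNat (bcσ k) ht).app G) (isMonHom_twistNat (bcσ k) ht G) m hmt v ?_
    exact twist_point (bcσ k) ht G (m ≫ a.left) w1 (by rw [hm]; rfl) rfl (by rw [hm]; exact hwpr)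
  obtain ⟨s₀⟩ : Nonempty ↥(Spec (CommRingCat.of Ω)) := inferInstance
  refine ⟨(hk.lift v (toUnit _) (hv.trans Hom.one_def)).left s₀, ?_⟩
  have := congrArg (fun e : Over.mk t1 ⟶ BG => e.left s₀) (hk.lift_fst v (toUnit _) (hv.trans Hom.one_def))
  refine this.trans ?_
  show pullback.fst (pr G) (pr G) (w s₀) = x
  rw [hw s₀, hz1]

end Groth.Agent.Chev24
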