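import Groth.Agent.Chev24.AffQuot
import Groth.Agent.GrpSchLib.FieldReduced
import Groth.Agent.GrpSchLib.MonoSubgroup
import Groth.Agent.GrpSchLib.Cartier
import Groth.Agent.GrpSchLib.PerfectSmooth
import Groth.Agent.FBaseLib.Basic
import Groth.Agent.H23.RedSub

/-! A closed subscheme which becomes a subgroup set-theoretically over an algebraic closure is a subgroup. -/

set_option linter.style.haveILetI false

open CategoryTheory AlgebraicGeometry MonoidalCategory CartesianMonoidalCategory MonObj Limits IsLocalRing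

namespace Groth.Agent.Chev24

universe u

variable {k : Type u} [Field k]

/-- The morphism to the spectrum of `k`. -/
noncomputable abbrev bcσ (k : Type u) [Field k] :
    Spec (CommRingCat.of (AlgebraicClosure k)) ⟶ Spec (CommRingCat.of k) :=
  Spec.map (CommRingCat.ofHom (algebraMap k (AlgebraicClosure k)))

/-- Base change to an algebraic closure. -/
noncomputable abbrev B (k : Type u) [Field k] :
    Over (Spec (CommRingCat.of k)) ⥤ Over (Spec (CommRingCat.of (AlgebraicClosure k))) :=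
  Over.pullback (bcσ k)

/-- The projection of a base change. -/
noncomputable def pr (X : Over (Spec (CommRingCat.of k))) : ((B k).obj X).left ⟶ X.left :=
  pullback.fst X.hom (bcσ k)

theorem pr_natural {X Y : Over (Spec (CommRingCat.of k))} (f : X ⟶ Y) :
    ((B k).map f).left ≫ pr Y = pr X ≫ f.left := by
  show pullback.lift _ _ _ ≫ pullback.fst Y.hom (bcσ k) = _
  rw [pullback.lift_fst]
  rfl

theorem surjective_pr (X : Over (Spec (CommRingCat.of k))) : Surjective (pr X) := by
  haveI : Surjective (bcσ k) := GrpSchLib.surjective_spec_map_field _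
  exact inferInstanceAs (Surjective (pullback.fst X.hom (bcσ k)))

theorem flat_pr (X : Over (Spec (CommRingCat.of k))) : Flat (pr X) := by
  haveI : Flat (bcσ k) := inferInstance
  exact inferInstanceAs (Flat (pullback.fst X.hom (bcσ k)))

theorem isReduced_of_bc (X : Over (Spec (CommRingCat.of k))) [IsReduced ((B k).obj X).left] : IsReduced X.left := by
  haveI := surjective_pr X
  haveI := flat_pr X
  exact FBaseLib.isReduced_of_flat_surjective (pr X)

theorem lft_bc (X : Over (Spec (CommRingCat.of k))) [LocallyOfFiniteType X.hom] :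
    LocallyOfFiniteType ((B k).obj X).hom :=
  inferInstanceAs (LocallyOfFiniteType (pullback.snd X.hom (bcσ k)))

theorem qc_bc (X : Over (Spec (CommRingCat.of k))) [QuasiCompact X.hom] : QuasiCompact ((B k).obj X).hom :=
  inferInstanceAs (QuasiCompact (pullback.snd X.hom (bcσ k)))

theorem property_map_bc {X Y : Over (Spec (CommRingCat.of k))} (f : X ⟶ Y) (Q : MorphismProperty Scheme.{u})
    [Q.IsStableUnderBaseChange] (h : Q f.left) : Q ((B k).map f).left :=
  MorphismProperty.overPullbackMap (P := Q) _ f h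

/-- A range may be checked over the algebraic closure. -/
theorem range_subset_of_bc {T X Y : Over (Spec (CommRingCat.of k))} (f : T ⟶ X) (ι₀ : Y ⟶ X)
    {S : Over (Spec (CommRingCat.of (AlgebraicClosure k)))} (u : S ⟶ (B k).obj T) [Surjective u.left]
    (h : Set.range (u ≫ (B k).map f).left ⊆ Set.range ((B k).map ι₀).left) :
    Set.range f.left ⊆ Set.range ι₀.left := by
  rintro _ ⟨t, rfl⟩
  obtain ⟨t', rfl⟩ := (surjective_pr T).1 t
  obtain ⟨s, rfl⟩ := u.left.surjective t'
  obtain ⟨y, hy⟩ := h ⟨s, rfl⟩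
  refine ⟨pr Y y, ?_⟩
  have h1 := congrArg (fun m : ((B k).obj Y).left ⟶ X.left => m y) (pr_natural ι₀)
  have h2 := congrArg (fun m : ((B k).obj T).left ⟶ X.left => m (u.left s)) (pr_natural f)
  refine h1.symm.trans (Eq.trans ?_ h2)
  show pr X (((B k).map ι₀).left y) = pr X (((B k).map f).left (u.left s))
  rw [hy]
  rfl

/-- A subscheme which is a subgroup set-theoretically over the algebraic closure. -/
theorem exists_group_of_set {G Y : Over (Spec (CommRingCat.of k))} [GrpObj G] [Smooth G.hom]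
    (ι₀ : Y ⟶ G) [IsClosedImmersion ι₀.left] [IsReduced ((B k).obj Y).left]
    {L : Over (Spec (CommRingCat.of (AlgebraicClosure k)))} [GrpObj L] [IsReduced L.left]
    (a : L ⟶ (B k).obj G) [IsMonHom a]
    (hset : Set.range ((B k).map ι₀).left = Set.range a.left)
    (hconj : Set.range (fst ((B k).obj G) L * (snd ((B k).obj G) L ≫ a) * (fst ((B k).obj G) L)⁻¹).left ⊆
      Set.range a.left) :
    ∃ str : GrpObj Y, @IsMonHom _ _ _ Y G str.toMonObj _ ι₀ ∧ @AlgGrp.IsNormalHom _ _ _ _ _ ι₀ ∧ Smooth Y.hom ∧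
      ∃ c : L ⟶ (B k).obj Y, c ≫ (B k).map ι₀ = a ∧ Surjective c.left := by
  haveI : Mono ι₀ := Over.mono_of_mono_left _
  haveI : LocallyOfFiniteType Y.hom := by rw [← Over.w ι₀]; infer_instance
  haveI hBi : IsClosedImmersion ((B k).map ι₀).left := property_map_bc ι₀ @IsClosedImmersion ‹_›
  obtain ⟨l, hl⟩ := H23.RedSub.exists_lift_closed a.left ((B k).map ι₀).left hset.ge
  let c : L ⟶ (B k).obj Y := Over.homMk l (by rw [← Over.w ((B k).map ι₀), reassoc_of% hl, Over.w a])
  have hc : c ≫ (B k).map ι₀ = a := Over.OverMorphism.ext hl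
  haveI hcs : Surjective c.left := ⟨fun y => by
    obtain ⟨x, hx⟩ := hset.le ⟨y, rfl⟩
    refine ⟨x, ((B k).map ι₀).left.isEmbedding.injective ?_⟩
    exact (congrArg (fun m : L ⟶ (B k).obj G => m.left x) hc).trans hx⟩
  haveI := isReduced_of_bc Y
  haveI : IsReduced (Y ⊗ Y).left := by
    haveI : IsReduced (((B k).obj Y) ⊗ ((B k).obj Y)).left :=
      GrpSchLib.isReduced_pullback_of_perfectField ((B k).obj Y).hom ((B k).obj Y).hom
    haveI : IsIso (Functor.Monoidal.μIso (B k) Y Y).inv.left :=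
      ((Over.forget _).mapIso (Functor.Monoidal.μIso (B k) Y Y)).isIso_inv
    haveI : IsReduced ((B k).obj (Y ⊗ Y)).left :=
      isReduced_of_isOpenImmersion (Functor.Monoidal.μIso (B k) Y Y).inv.left
    exact isReduced_of_bc (Y ⊗ Y)
  haveI : IsReduced (G ⊗ Y).left := by
    haveI : LocallyOfFiniteType ((B k).obj G).hom := lft_bc G
    haveI : Smooth ((B k).obj G).hom := inferInstanceAs (Smooth (pullback.snd G.hom (bcσ k)))
    haveI : IsReduced ((B k).obj G).left := H23.RigidGamma.isReduced_of_smooth ((B k).obj G).hom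
    haveI : IsReduced (((B k).obj G) ⊗ ((B k).obj Y)).left :=
      GrpSchLib.isReduced_pullback_of_perfectField ((B k).obj G).hom ((B k).obj Y).hom
    haveI : IsIso (Functor.Monoidal.μIso (B k) G Y).inv.left :=
      ((Over.forget _).mapIso (Functor.Monoidal.μIso (B k) G Y)).isIso_inv
    haveI : IsReduced ((B k).obj (G ⊗ Y)).left :=
      isReduced_of_isOpenImmersion (Functor.Monoidal.μIso (B k) G Y).inv.left
    exact isReduced_of_bc (G ⊗ Y)
  have hfac : ∀ {T : Over (Spec (CommRingCat.of k))} [IsReduced T.left] (f : T ⟶ G),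
      Set.range f.left ⊆ Set.range ι₀.left → ∃ f' : T ⟶ Y, f' ≫ ι₀ = f := by
    intro T _ f hf
    obtain ⟨g, hg⟩ := H23.RedSub.exists_lift_closed f.left ι₀.left hf
    exact ⟨Over.homMk g (by rw [← Over.w ι₀, reassoc_of% hg, Over.w f]), Over.OverMorphism.ext hg⟩
  haveI : IsReduced (𝟙_ (Over (Spec (CommRingCat.of k)))).left :=
    inferInstanceAs (IsReduced (Spec (CommRingCat.of k)))
  haveI : Surjective (CommaMorphism.left (𝟙 ((B k).obj (𝟙_ (Over (Spec (CommRingCat.of k))))))) :=
    inferInstanceAs (Surjective (𝟙 _))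
  have hBone : (B k).map η[G] = (toUnit _ ≫ η[L]) ≫ a := by
    rw [MonObj.one_eq_one (M := G)]
    show (B k).homMonoidHom (1 : 𝟙_ (Over (Spec (CommRingCat.of k))) ⟶ G) = _
    rw [map_one, Category.assoc, IsMonHom.one_hom a, ← Hom.one_def]
  obtain ⟨η', hη'⟩ := hfac η[G] (range_subset_of_bc η[G] ι₀ (𝟙 _) (by
    rw [Category.id_comp, hBone, hset, Over.comp_left]
    rintro _ ⟨z, rfl⟩
    exact ⟨_, rfl⟩))
  obtain ⟨μ', hμ'⟩ := hfac ((fst Y Y ≫ ι₀) * (snd Y Y ≫ ι₀)) (by
    let u : L ⊗ L ⟶ (B k).obj (Y ⊗ Y) := (c ⊗ₘ c) ≫ (Functor.Monoidal.μIso (B k) Y Y).hom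
    haveI : Surjective u.left := by
      haveI : Surjective (c ▷ L).left := AlgGrpH24.property_whiskerRight' c L @Surjective hcs
      haveI : Surjective ((B k).obj Y ◁ c).left := AlgGrpH24.property_whiskerLeft' _ c @Surjective hcs
      haveI : IsIso (Functor.Monoidal.μIso (B k) Y Y).hom.left :=
        ((Over.forget _).mapIso (Functor.Monoidal.μIso (B k) Y Y)).isIso_hom
      show Surjective ((c ⊗ₘ c) ≫ _).left
      rw [MonoidalCategory.tensorHom_def, Over.comp_left, Over.comp_left]
      infer_instance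
    refine range_subset_of_bc _ ι₀ u ?_
    have e : u ≫ (B k).map ((fst Y Y ≫ ι₀) * (snd Y Y ≫ ι₀)) = (fst L L * snd L L) ≫ a := by
      show u ≫ (B k).homMonoidHom ((fst Y Y ≫ ι₀) * (snd Y Y ≫ ι₀)) = _
      rw [map_mul]
      show u ≫ ((B k).map (fst Y Y ≫ ι₀) * (B k).map (snd Y Y ≫ ι₀)) = _
      rw [MonObj.comp_mul, Functor.map_comp, Functor.map_comp, MonObj.mul_comp]
      simp only [u, Category.assoc, Functor.Monoidal.μIso_hom, Functor.Monoidal.μ_fst_assoc,
        Functor.Monoidal.μ_snd_assoc, tensorHom_fst_assoc, tensorHom_snd_assoc, hc]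
    rw [e, hset, Over.comp_left]
    rintro _ ⟨z, rfl⟩
    exact ⟨_, rfl⟩)
  obtain ⟨v', hv'⟩ := hfac ι₀⁻¹ (range_subset_of_bc _ ι₀ c (by
    have e : c ≫ (B k).map ι₀⁻¹ = (𝟙 L : L ⟶ L)⁻¹ ≫ a := by
      show c ≫ (B k).homMonoidHom ι₀⁻¹ = _
      rw [map_inv]
      show c ≫ ((B k).map ι₀)⁻¹ = _
      rw [GrpObj.comp_inv, hc, GrpObj.inv_comp, Category.id_comp]
    rw [e, hset, Over.comp_left]
    rintro _ ⟨z, rfl⟩
    exact ⟨_, rfl⟩))
  obtain ⟨str, hmon⟩ := GrpSchLib.exists_grpObj_of_mono ι₀ η' hη' μ' hμ' v' hv'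
  haveI := hmon
  refine ⟨str, hmon, fun T g n => ?_, ?_, c, hc, hcs⟩
  · obtain ⟨f', hf'⟩ := hfac (fst G Y * (snd G Y ≫ ι₀) * (fst G Y)⁻¹) (by
      let u : (B k).obj G ⊗ L ⟶ (B k).obj (G ⊗ Y) := ((B k).obj G ◁ c) ≫ (Functor.Monoidal.μIso (B k) G Y).hom
      haveI : Surjective u.left := by
        haveI : Surjective ((B k).obj G ◁ c).left := AlgGrpH24.property_whiskerLeft' _ c @Surjective hcs
        haveI : IsIso (Functor.Monoidal.μIso (B k) G Y).hom.left :=
          ((Over.forget _).mapIso (Functor.Monoidal.μIso (B k) G Y)).isIso_hom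
        show Surjective (((B k).obj G ◁ c) ≫ _).left
        rw [Over.comp_left]
        infer_instance
      refine range_subset_of_bc _ ι₀ u ?_
      have e : u ≫ (B k).map (fst G Y * (snd G Y ≫ ι₀) * (fst G Y)⁻¹) =
          fst ((B k).obj G) L * (snd ((B k).obj G) L ≫ a) * (fst ((B k).obj G) L)⁻¹ := by
        show u ≫ (B k).homMonoidHom (fst G Y * (snd G Y ≫ ι₀) * (fst G Y)⁻¹) = _
        rw [map_mul, map_mul, map_inv]
        show u ≫ ((B k).map (fst G Y) * (B k).map (snd G Y ≫ ι₀) * ((B k).map (fst G Y))⁻¹) = _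
        rw [MonObj.comp_mul, MonObj.comp_mul, GrpObj.comp_inv, Functor.map_comp]
        simp only [u, Category.assoc, Functor.Monoidal.μIso_hom, Functor.Monoidal.μ_fst,
          Functor.Monoidal.μ_snd_assoc, whiskerLeft_fst, whiskerLeft_snd_assoc, hc]
      rw [e, hset]
      exact hconj)
    refine ⟨lift g n ≫ f', ?_⟩
    have := congrArg (lift g n ≫ ·) hf'
    simp only [MonObj.comp_mul, GrpObj.comp_inv, lift_fst, lift_snd_assoc, Category.assoc] at this
    simp only [Category.assoc]
    exact this.symm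
  · exact GrpSchLib.smooth_of_isReduced_baseChange Y (inferInstanceAs (IsReduced ((B k).obj Y).left))

end Groth.Agent.Chev24
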