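import Mathlib

/-! A valuation-theoretic lemma: some element restricts to a nonconstant residue. -/

namespace Groth.Agent.Chev24

universe u

theorem exists_good_coeff {ι L O : Type*} [CommRing O] [Field L] (ψ : O →+* L)
    (hval : ∀ z : L, ∃ b : O, z = ψ b ∨ z * ψ b = 1) (s : Finset ι) (hs : s.Nonempty) (a : ι → L)
    (ha : ∀ i ∈ s, a i ≠ 0) : ∃ m ∈ s, ∀ i ∈ s, ∃ b : O, a i = ψ b * a m := by
  classical
  induction hs using Finset.Nonempty.cons_induction with
  | singleton x => exact ⟨x, Finset.mem_singleton_self x, fun i hi => ⟨1, by simp [Finset.mem_singleton.1 hi]⟩⟩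
  | cons x t hx ht ih =>
    obtain ⟨m, hm, hmt⟩ := ih fun i hi => ha i (Finset.mem_cons.2 (Or.inr hi))
    have hx0 := ha x (Finset.mem_cons_self x t)
    have hm0 := ha m (Finset.mem_cons.2 (Or.inr hm))
    obtain ⟨b, hb | hb⟩ := hval (a x / a m)
    · refine ⟨m, Finset.mem_cons.2 (Or.inr hm), fun i hi => ?_⟩
      rcases Finset.mem_cons.1 hi with rfl | hi
      · exact ⟨b, by rw [← hb, div_mul_cancel₀ _ hm0]⟩
      · exact hmt i hi
    · refine ⟨x, Finset.mem_cons_self x t, fun i hi => ?_⟩
      rcases Finset.mem_cons.1 hi with rfl | hi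
      · exact ⟨1, by simp⟩
      · obtain ⟨c, hc⟩ := hmt i hi
        refine ⟨c * b, ?_⟩
        rw [hc, map_mul, mul_assoc]
        congr 1
        field_simp at hb
        rw [← hb]; ring

/-- If two independent residues exist and lifts are dependent over `K`, some element of `K` has a
nonconstant residue. -/
theorem exists_nonconstant_residue {k K O L F : Type u} [Field k] [Field K] [CommRing O] [Field L] [Field F]
    [Algebra k F] [Algebra K L] (ψ : O →+* L) (hψ : Function.Injective ψ)
    (hval : ∀ z : L, ∃ b : O, z = ψ b ∨ z * ψ b = 1) (r : O →+* F) (hr : Function.Surjective r)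
    (hF : 2 ≤ Algebra.trdeg k F) (hL : Algebra.trdeg K L ≤ 1) :
    ∃ (a : K) (b : O), algebraMap K L a = ψ b ∧ r b ∉ Set.range (algebraMap k F) := by
  classical
  by_contra hcon
  push Not at hcon
  obtain ⟨s, hs⟩ := exists_isTranscendenceBasis k F
  rw [← hs.cardinalMk_eq_trdeg] at hF
  obtain ⟨t⟩ : Nonempty (Fin 2 ↪ s) := by
    have : Cardinal.lift.{u} (Cardinal.mk (Fin 2)) ≤ Cardinal.lift.{0} (Cardinal.mk s) := by simpa using hF
    exact Cardinal.lift_mk_le'.1 this
  let x : Fin 2 → F := fun i => (t i : F)
  have hx : AlgebraicIndependent k x := hs.1.comp t t.injective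
  choose X hX using fun i => hr (x i)
  have hdep : ¬ AlgebraicIndependent K fun i => ψ (X i) := fun h => by
    have h2 := h.lift_cardinalMk_le_trdeg
    simp only [Cardinal.mk_fin, Cardinal.lift_natCast, Cardinal.lift_id] at h2
    have := h2.trans (Cardinal.lift_le.2 hL)
    norm_num at this
  rw [algebraicIndependent_iff] at hdep
  push Not at hdep
  obtain ⟨p, hp, hp0⟩ := hdep
  have hne : p.support.Nonempty := Finset.nonempty_iff_ne_empty.2 (mt MvPolynomial.support_eq_empty.1 hp0)
  obtain ⟨m, hm, hmb⟩ := exists_good_coeff ψ hval p.support hne (fun d => algebraMap K L (p.coeff d))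
    (fun d hd => by simpa using MvPolynomial.mem_support_iff.1 hd)
  have hm0 : p.coeff m ≠ 0 := MvPolynomial.mem_support_iff.1 hm
  choose! b hb using hmb
  have hconst : ∀ d ∈ p.support, ∃ c : k, algebraMap k F c = r (b d) := fun d hd => by
    refine hcon (p.coeff d / p.coeff m) (b d) ?_
    rw [map_div₀, hb d hd, mul_div_assoc, div_self (by simpa using hm0), mul_one]
  choose! c hc using hconst
  let q : MvPolynomial (Fin 2) k := ∑ d ∈ p.support, MvPolynomial.monomial d (c d)
  have hsum : ∑ d ∈ p.support, b d * ∏ i ∈ d.support, X i ^ d i = 0 := by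
    refine hψ ?_
    rw [map_zero, map_sum]
    refine mul_right_cancel₀ (b := algebraMap K L (p.coeff m)) (by simpa using hm0) ?_
    rw [zero_mul, Finset.sum_mul, ← hp, MvPolynomial.aeval_def, MvPolynomial.eval₂_eq]
    refine Finset.sum_congr rfl fun d hd => ?_
    simp only [map_mul, map_prod, map_pow]
    rw [hb d hd]
    ring
  have hq : MvPolynomial.aeval x q = 0 := by
    have := congrArg r hsum
    rw [map_zero, map_sum] at this
    rw [← this, map_sum]
    refine Finset.sum_congr rfl fun d hd => ?_
    rw [MvPolynomial.aeval_monomial, hc d hd, map_mul, map_prod, Finsupp.prod]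
    exact congrArg _ (Finset.prod_congr rfl fun i _ => by rw [map_pow, hX])
  have hq0 : q ≠ 0 := fun h => by
    have h1 : MvPolynomial.coeff m q = 0 := by rw [h]; simp
    simp only [q, MvPolynomial.coeff_sum, MvPolynomial.coeff_monomial, Finset.sum_ite_eq', hm, if_true] at h1
    have h2 : b m = 1 := hψ (by
      rw [map_one]
      exact mul_right_cancel₀ (b := algebraMap K L (p.coeff m)) (by simpa using hm0) (by rw [one_mul, ← hb m hm]))
    have h3 := hc m hm
    rw [h1, map_zero, h2, map_one] at h3
    exact zero_ne_one h3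
  exact hq0 ((algebraicIndependent_iff.1 hx) q hq)

end Groth.Agent.Chev24
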