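import Groth.Agent.AlgGrp25.FrobQuot
import Mathlib.AlgebraicGeometry.Morphisms.SchemeTheoreticallyDominant

/-! Reducedness of the image of an iterate of Frobenius. -/

set_option linter.style.haveILetI false

open CategoryTheory AlgebraicGeometry Limits TopologicalSpace

namespace Groth.Agent.Chev24

universe u

/-- On a Noetherian scheme nilpotent germs have bounded exponent. -/
theorem exists_stalk_bound (X : Scheme.{u}) [IsNoetherian X] :
    ∃ M : ℕ, ∀ (x : X) (g : X.presheaf.stalk x), IsNilpotent g → g ^ M = 0 := by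
  obtain ⟨s, hs⟩ := (isCompact_univ (X := X)).elim_finite_subcover
    (fun U : X.affineOpens => (U.1 : Set X)) (fun U => U.1.2) (fun x _ => by
      obtain ⟨U, hU, hx, -⟩ := exists_isAffineOpen_mem_and_subset (x := x) (U := ⊤) trivial
      exact Set.mem_iUnion.2 ⟨⟨U, hU⟩, hx⟩)
  have hn : ∀ U : X.affineOpens, ∃ n : ℕ, ∀ a : Γ(X, U), IsNilpotent a → a ^ n = 0 := fun U => by
    haveI := IsLocallyNoetherian.component_noetherian U
    obtain ⟨n, hn⟩ := IsNoetherianRing.isNilpotent_nilradical Γ(X, U)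
    refine ⟨n, fun a ha => ?_⟩
    have := Ideal.pow_mem_pow (mem_nilradical.mpr ha) n
    rwa [hn, Ideal.zero_eq_bot, Ideal.mem_bot] at this
  choose n hn using hn
  refine ⟨s.sup n, fun x g hg => ?_⟩
  obtain ⟨U, hU, hx⟩ := Set.mem_iUnion₂.1 (hs (Set.mem_univ x))
  letI : Algebra Γ(X, U) (X.presheaf.stalk x) := (X.presheaf.germ U.1 x hx).hom.toAlgebra
  haveI := U.2.isLocalization_stalk ⟨x, hx⟩
  let S := (U.2.primeIdealOf ⟨x, hx⟩).asIdeal.primeCompl
  obtain ⟨a, c, rfl⟩ := IsLocalization.exists_mk'_eq S g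
  obtain ⟨N, hN⟩ := hg
  rw [← IsLocalization.mk'_pow, IsLocalization.mk'_eq_zero_iff] at hN
  obtain ⟨d, hd⟩ := hN
  have h1 : IsNilpotent ((d : Γ(X, U)) * a) := by
    refine ⟨N + 1, ?_⟩
    calc ((d : Γ(X, U)) * a) ^ (N + 1) = (d : Γ(X, U)) ^ N * a * ((d : Γ(X, U)) * a ^ N) := by ring
      _ = 0 := by rw [hd, mul_zero]
  have h2 := pow_eq_zero_of_le (Finset.le_sup hU) (hn U _ h1)
  rw [← IsLocalization.mk'_pow, IsLocalization.mk'_eq_zero_iff]
  exact ⟨d ^ s.sup n, by rw [SubmonoidClass.coe_pow, ← mul_pow, h2]⟩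

/-- A topological embedding which is injective on sections is injective on stalks. -/
theorem stalkMap_injective_of_app {X Y : Scheme.{u}} (f : X ⟶ Y) (he : Topology.IsEmbedding f)
    (hf : ∀ U : Y.Opens, Function.Injective (f.app U)) (x : X) : Function.Injective (f.stalkMap x) := by
  rw [injective_iff_map_eq_zero]
  intro c hc
  obtain ⟨U, hU, s, rfl⟩ := Y.presheaf.exists_germ_eq (x := f x) c
  rw [Scheme.Hom.germ_stalkMap_apply] at hc
  obtain ⟨V, hxV, i, j, hij⟩ := X.presheaf.germ_eq x (U := f ⁻¹ᵁ U) (V := f ⁻¹ᵁ U) hU hU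
    (f.app U s) 0 (by rw [hc, map_zero])
  obtain ⟨W, hW, hWV⟩ := he.isInducing.isOpen_iff.1 V.2
  let U' : Y.Opens := U ⊓ ⟨W, hW⟩
  have hxU : f x ∈ U' := ⟨hU, by have : x ∈ f ⁻¹' W := hWV.symm ▸ hxV; exact this⟩
  have hle : f ⁻¹ᵁ U' ≤ V := fun y hy => by
    show y ∈ V.carrier
    rw [← hWV]
    exact hy.2
  have h0 : Y.presheaf.map (homOfLE (inf_le_left : U' ≤ U)).op s = 0 := by
    apply hf U'
    rw [map_zero, ← ConcreteCategory.comp_apply, Scheme.Hom.naturality, ConcreteCategory.comp_apply]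
    rw [map_zero] at hij
    have := congrArg (X.presheaf.map (homOfLE hle).op) hij
    rw [map_zero, ← ConcreteCategory.comp_apply, ← Functor.map_comp] at this
    exact this
  rw [← Y.presheaf.germ_res_apply (homOfLE (inf_le_left : U' ≤ U)) (f x) hxU, h0, map_zero]

/-- If an iterate of Frobenius factors through a map injective on stalks followed by an immersion, the middle
scheme is reduced at the image of a point where the iterate kills the nilradical. -/
theorem isReduced_stalk_of_injective (p : ℕ) [Fact p.Prime] {X Y : Scheme.{u}} [FrobSch.IsCharP X p] (N : ℕ)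
    (v : X ⟶ Y) (b : Y ⟶ X) [IsPreimmersion b] (hvb : v ≫ b = FrobIter.iter p X N) (x : X)
    (hinj : Function.Injective (v.stalkMap x))
    (hN : ∀ g : X.presheaf.stalk x, IsNilpotent g → g ^ p ^ N = 0) :
    _root_.IsReduced (Y.presheaf.stalk (v x)) := by
  refine ⟨fun c hc => ?_⟩
  obtain ⟨a, rfl⟩ := b.stalkMap_surjective (v x) c
  obtain ⟨U, hU, s, rfl⟩ := X.presheaf.exists_germ_eq (x := b (v x)) a
  have hbx : b (v x) = x := by rw [← Scheme.Hom.comp_apply, hvb]; exact FrobIter.iter_apply N x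
  have hxU : x ∈ U := hbx ▸ hU
  have key : v.stalkMap x (b.stalkMap (v x) (X.presheaf.germ U (b (v x)) hU s)) =
      (X.presheaf.germ U x hxU s) ^ p ^ N := by
    have aux : ∀ (φ : X ⟶ X), φ = FrobIter.iter p X N → ∀ (h : φ x ∈ U),
        φ.stalkMap x (X.presheaf.germ U (φ x) h s) = (X.presheaf.germ U x hxU s) ^ p ^ N := by
      intro φ hφ h
      subst hφ
      refine (Scheme.Hom.germ_stalkMap_apply _ U x h s).trans ?_
      exact AlgGrp25.FrobQuot.iter_germ p N U x hxU h s
    rw [← aux (v ≫ b) hvb hU, Scheme.Hom.stalkMap_comp]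
    rfl
  apply hinj
  rw [map_zero, key]
  have hn := hc.map (v.stalkMap x).hom
  rw [show (v.stalkMap x).hom (b.stalkMap (v x) (X.presheaf.germ U (b (v x)) hU s)) =
    (X.presheaf.germ U x hxU s) ^ p ^ N from key] at hn
  exact hN _ (IsNilpotent.of_pow hn)

end Groth.Agent.Chev24
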