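import Groth.Agent.Chev24.Pts
import Groth.Agent.H23.RatProductK

/-! Sections as maps to the affine line, and maps determined on rational points. -/

set_option linter.style.haveILetI false

open CategoryTheory AlgebraicGeometry MonoidalCategory CartesianMonoidalCategory MonObj Limits IsLocalRing

namespace Groth.Agent.Chev24

universe u

variable {k : Type u} [Field k]

/-- The affine line. -/
noncomputable abbrev A1 (k : Type u) [Field k] : Over (Spec (CommRingCat.of k)) :=
  H23.RatProductK.affine k PUnit.{u+1}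

/-- A section as a map to the affine line. -/
noncomputable def toA1 {X : Over (Spec (CommRingCat.of k))} (U : X.left.Opens) (s : Γ(X.left, U)) : op U ⟶ A1 k :=
  Over.homMk (AffineSpace.homOfVector (op U).hom fun _ => U.topIso.inv s) (AffineSpace.homOfVector_over _ _)

theorem resLE_left {X Y : Over (Spec (CommRingCat.of k))} (f : X ⟶ Y) {O : X.left.Opens} {V : Y.left.Opens}
    (e : O ≤ f.left ⁻¹ᵁ V) {a : op O ⟶ op V} (ha : a ≫ opι V = opι O ≫ f) : a.left = f.left.resLE V O e := by
  rw [← cancel_mono V.ι, Scheme.Hom.resLE_comp_ι]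
  exact congrArg CommaMorphism.left ha

theorem comp_toA1 {X Y : Over (Spec (CommRingCat.of k))} (f : X ⟶ Y) {O : X.left.Opens} {V : Y.left.Opens}
    (e : O ≤ f.left ⁻¹ᵁ V) {a : op O ⟶ op V} (ha : a ≫ opι V = opι O ≫ f) (s : Γ(Y.left, V)) :
    a ≫ toA1 V s = toA1 O (f.left.appLE V O e s) := by
  refine Over.OverMorphism.ext (AffineSpace.hom_ext ?_ fun i => ?_)
  · exact (Category.assoc _ _ _).trans ((congrArg (a.left ≫ ·) (AffineSpace.homOfVector_over _ _)).trans
      ((Over.w a).trans (AffineSpace.homOfVector_over _ _).symm))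
  · rw [Over.comp_left, Scheme.Hom.comp_appTop, CommRingCat.comp_apply]
    refine (congrArg a.left.appTop (AffineSpace.homOfVector_appTop_coord _ _ i)).trans ?_
    refine Eq.trans ?_ (AffineSpace.homOfVector_appTop_coord _ _ i).symm
    rw [resLE_left f e ha]
    refine (congr($(Scheme.Hom.resLE_app_top f.left e) (V.topIso.inv s))).trans ?_
    show O.topIso.inv (f.left.appLE V O e (V.topIso.hom (V.topIso.inv s))) = _
    rw [← CommRingCat.comp_apply V.topIso.inv, Iso.inv_hom_id]
    rfl

/-- The constant section. -/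
noncomputable def constSec (X : Over (Spec (CommRingCat.of k))) (U : X.left.Opens) (c : k) : Γ(X.left, U) :=
  X.left.presheaf.map (homOfLE le_top).op (X.hom.appTop ((Scheme.ΓSpecIso (CommRingCat.of k)).inv c))

theorem exists_const_of_eq {X : Over (Spec (CommRingCat.of k))} (U : X.left.Opens) (s : Γ(X.left, U))
    (a : 𝟙_ (Over (Spec (CommRingCat.of k))) ⟶ A1 k) (h : toA1 U s = toUnit (op U) ≫ a) :
    ∃ c : k, s = constSec X U c := by
  let v : Γ(Spec (CommRingCat.of k), ⊤) := a.left.appTop (AffineSpace.coord _ PUnit.unit)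
  obtain ⟨c, hc⟩ : ∃ c, (Scheme.ΓSpecIso (CommRingCat.of k)).inv c = v :=
    (ConcreteCategory.bijective_of_isIso (Scheme.ΓSpecIso (CommRingCat.of k)).inv).2 v
  refine ⟨c, ?_⟩
  have h1 := congrArg (fun m : op U ⟶ A1 k => m.left.appTop (AffineSpace.coord _ PUnit.unit)) h
  have e1 : (toA1 U s).left.appTop (AffineSpace.coord _ PUnit.unit) = U.topIso.inv s :=
    AffineSpace.homOfVector_appTop_coord _ _ _
  have e2 : (toUnit (op U) ≫ a).left.appTop (AffineSpace.coord _ PUnit.unit) = (U.ι ≫ X.hom).appTop v := by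
    rw [Over.comp_left, Scheme.Hom.comp_appTop, CommRingCat.comp_apply]
    rfl
  replace h1 := e1.symm.trans (h1.trans e2)
  rw [← hc] at h1
  have h2 := congrArg U.topIso.hom h1
  rw [← CommRingCat.comp_apply, Iso.inv_hom_id] at h2
  refine Eq.trans h2 ?_
  rw [Scheme.Hom.comp_appTop, CommRingCat.comp_apply]
  show U.topIso.hom (U.ι.appTop (X.hom.appTop _)) = constSec X U c
  rw [← CommRingCat.comp_apply U.ι.appTop]
  unfold constSec
  congr 2
  rw [Scheme.Opens.ι_appTop]
  exact (X.left.presheaf.map_comp _ _).symm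

theorem closedPoint_pt {X : Over (Spec (CommRingCat.of k))} [IsAlgClosed k] [LocallyOfFiniteType X.hom]
    (x : 𝟙_ (Over (Spec (CommRingCat.of k))) ⟶ X) : IsClosed ({pt x} : Set X.left) :=
  (pointEquivClosedPoint X.hom ⟨x.left, Over.w x⟩).2

/-- The residue field point at a rational point factors through it. -/
theorem pointOfClosedPoint_factor {X : Over (Spec (CommRingCat.of k))} [IsAlgClosed k] [LocallyOfFiniteType X.hom]
    (t : 𝟙_ (Over (Spec (CommRingCat.of k))) ⟶ X) :
    X.left.fromSpecResidueField (pt t) ≫ X.hom ≫ t.left = X.left.fromSpecResidueField (pt t) := by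
  have hc := closedPoint_pt t
  have e : t.left = pointOfClosedPoint X.hom (pt t) hc :=
    AlgebraicGeometry.ext_of_apply_closedPoint_eq X.hom (Over.w t) (pointOfClosedPoint_comp _ _ _)
      (pointOfClosedPoint_apply X.hom (pt t) hc _).symm
  rw [e, pointOfClosedPoint, ← Category.assoc, ← Category.assoc, ← SpecMap_residueFieldIsoBase_inv X.hom (pt t) hc,
    ← Spec.map_comp, Iso.hom_inv_id]
  simp

/-- Two maps to a separated target agree at points in the closure of where they agree. -/
theorem eq_at_limit {X A T : Over (Spec (CommRingCat.of k))} [IsAlgClosed k] [LocallyOfFiniteType X.hom] [IsSeparated A.hom]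
    (f g : X ⟶ A) (t : T ⟶ X) (ht : t ≫ f = t ≫ g) (x : 𝟙_ (Over (Spec (CommRingCat.of k))) ⟶ X)
    (hx : pt x ∈ closure (Set.range t.left)) : x ≫ f = x ≫ g := by
  let E := equalizer f g
  haveI : IsClosedImmersion (equalizer.ι f g).left := inferInstance
  obtain ⟨l, hl⟩ : ∃ l : T ⟶ E, l ≫ equalizer.ι f g = t := ⟨equalizer.lift t ht, equalizer.lift_ι _ _⟩
  obtain ⟨e, he⟩ : pt x ∈ Set.range (equalizer.ι f g).left := by
    refine closure_minimal ?_ (equalizer.ι f g).left.isClosedEmbedding.isClosed_range hx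
    rw [← hl, Over.comp_left]
    rintro _ ⟨y, rfl⟩
    exact ⟨_, rfl⟩
  haveI : LocallyOfFiniteType E.hom := by rw [← Over.w (equalizer.ι f g)]; infer_instance
  obtain ⟨w, hw⟩ := exists_pt_mem (X := E) (Z := (equalizer.ι f g).left ⁻¹' {pt x}) ⟨e, he⟩ (by
    refine IsClosed.isLocallyClosed (IsClosed.preimage (equalizer.ι f g).left.continuous ?_)
    exact closedPoint_pt x)
  have : x = w ≫ equalizer.ι f g :=
    Over.OverMorphism.ext (AlgebraicGeometry.ext_of_apply_closedPoint_eq X.hom (Over.w x) (Over.w _) hw.symm)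
  rw [this, Category.assoc, Category.assoc, equalizer.condition]

/-- Two maps agreeing on the rational points of a dense open agree. -/
theorem eq_of_pts {X A : Over (Spec (CommRingCat.of k))} [IsAlgClosed k] [LocallyOfFiniteType X.hom] [IsReduced X.left]
    [IsSeparated A.hom] (f g : X ⟶ A) {S : Set X.left} (hS : Dense S) (hSo : IsOpen S)
    (h : ∀ x : 𝟙_ (Over (Spec (CommRingCat.of k))) ⟶ X, pt x ∈ S → x ≫ f = x ≫ g) : f = g := by
  haveI : JacobsonSpace X.left := LocallyOfFiniteType.jacobsonSpace (Y := Spec _) X.hom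
  refine Over.OverMorphism.ext (ext_of_fromSpecResidueField_eq _ _ A.hom (S ∩ closedPoints X.left) ?_ (fun z hz => ?_)
    ((Over.w f).trans (Over.w g).symm))
  · rw [dense_iff_inter_open]
    intro O hO hne
    obtain ⟨x, hx⟩ := hS.inter_open_nonempty O hO hne
    obtain ⟨y, hy, hyc⟩ := nonempty_inter_closedPoints ⟨x, hx⟩ (hO.inter hSo).isLocallyClosed
    exact ⟨y, hy.1, hy.2, hyc⟩
  · obtain ⟨t, ht⟩ := exists_pt z hz.2
    have h1 := congrArg CommaMorphism.left (h t (ht ▸ hz.1))
    replace h1 : t.left ≫ f.left = t.left ≫ g.left := h1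
    subst ht
    obtain ⟨ρ, hρ⟩ : ∃ ρ : Spec (X.left.residueField (pt t)) ⟶ Spec (CommRingCat.of k),
        X.left.fromSpecResidueField (pt t) = ρ ≫ t.left := by
      refine ⟨X.left.fromSpecResidueField (pt t) ≫ X.hom, ?_⟩
      rw [Category.assoc]
      exact (pointOfClosedPoint_factor t).symm
    rw [hρ, Category.assoc, Category.assoc, h1]

end Groth.Agent.Chev24
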