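import Groth.Agent.Chev24.AffQuot
import Groth.Agent.AbTors.Factor
import Groth.Agent.AVTors2.RedComp

/-! Products of an abelian subvariety with an affine subgroup. -/

set_option linter.style.haveILetI false

open CategoryTheory AlgebraicGeometry MonoidalCategory CartesianMonoidalCategory MonObj Limits IsLocalRing

namespace Groth.Agent.Chev24

universe u

variable {k : Type u} [Field k]

/-- A homomorphism whose image contains the kernel and surjects onto the quotient is surjective. -/
theorem surjective_of_kernel_and_quot {P G Q N : Over (Spec (CommRingCat.of k))} [GrpObj P] [GrpObj G] [GrpObj Q]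
    [GrpObj N] (f : P ⟶ G) [IsMonHom f] (i : N ⟶ G) [Mono i] (π : G ⟶ Q) [IsMonHom π] (hker : AlgGrp.IsKernel i π)
    (g : N ⟶ P) (hg : g ≫ f = i) [Surjective (f ≫ π).left] : Surjective f.left := by
  refine ⟨fun y => ?_⟩
  obtain ⟨x, hx⟩ := (f ≫ π).left.surjective (π.left y)
  have hpb := (isPullback_kernel i π hker).map (Over.forget _)
  obtain ⟨z, hz1, hz2⟩ := Scheme.Pullback.exists_preimage_pullback (f := π.left) (g := π.left) y (f.left x)
    ((hx : (f ≫ π).left x = π.left y).symm.trans rfl)
  let z' := hpb.isoPullback.inv z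
  have hz'2 : (snd N G).left z' = f.left x :=
    (congrArg (fun m : pullback π.left π.left ⟶ G.left => m z) hpb.isoPullback_inv_snd).trans hz2
  have hz'1 : ((fst N G ≫ i) * snd N G).left z' = y :=
    (congrArg (fun m : pullback π.left π.left ⟶ G.left => m z) hpb.isoPullback_inv_fst).trans hz1
  obtain ⟨w, -, hw⟩ := Scheme.exists_preimage_of_isPullback (AlgGrpH24.isPullback_whiskerLeft_left N f) x z' hz'2.symm
  refine ⟨((fst N P ≫ g) * snd N P).left w, ?_⟩
  have e : ((fst N P ≫ g) * snd N P) ≫ f = (N ◁ f) ≫ ((fst N G ≫ i) * snd N G) := by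
    rw [MonObj.mul_comp, Category.assoc, hg, MonObj.comp_mul, whiskerLeft_fst_assoc, whiskerLeft_snd]
  refine (congrArg (fun m : N ⊗ P ⟶ G => m.left w) e).trans ?_
  exact (congrArg ((fst N G ≫ i) * snd N G).left hw).trans hz'1

/-- An affine proper group is finite. -/
theorem isFinite_hom_of_closed {K A N : Over (Spec (CommRingCat.of k))} [IsProper A.hom] [IsAffine N.left]
    (a : K ⟶ A) [IsClosedImmersion a.left] (b : K ⟶ N) [IsClosedImmersion b.left] : IsFinite K.hom := by
  haveI : IsAffine K.left := isAffine_of_isAffineHom b.left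
  haveI : IsProper K.hom := by rw [← Over.w a]; infer_instance
  exact IsFinite.iff_isProper_and_isAffineHom.mpr ⟨inferInstance, inferInstance⟩

/-- An abelian subvariety meets an affine kernel in a finite group. -/
theorem isFinite_kernel_restrict {G N A Q K : Over (Spec (CommRingCat.of k))} [GrpObj G] [GrpObj N] [GrpObj A]
    [GrpObj Q] [LocallyOfFiniteType G.hom] (i : N ⟶ G) [IsClosedImmersion i.left] [IsAffine N.left] (π : G ⟶ Q)
    (hker : AlgGrp.IsKernel i π) (j : A ⟶ G) [IsClosedImmersion j.left] [IsProper A.hom]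
    (c : K ⟶ A) (hc : AlgGrp.IsKernel c (j ≫ π)) : IsFinite K.hom := by
  haveI : IsSeparated Q.hom := GrpSchLib.AntiAffine.isSeparated_grp Q
  haveI : IsClosedImmersion (η[Q]).left := by
    haveI : IsClosedImmersion ((η[Q]).left ≫ Q.hom) := by rw [Over.w]; exact inferInstanceAs (IsClosedImmersion (𝟙 _))
    exact IsClosedImmersion.of_comp (η[Q]).left Q.hom
  haveI : IsClosedImmersion c.left := MorphismProperty.of_isPullback (hc.map (Over.forget _)).flip ‹_›
  let b : K ⟶ N := hker.lift (c ≫ j) (toUnit K) (by rw [Category.assoc, hc.w])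
  have hb : b ≫ i = c ≫ j := hker.lift_fst _ _ _
  haveI : IsClosedImmersion b.left := by
    haveI : IsClosedImmersion (b.left ≫ i.left) := by rw [← Over.comp_left, hb, Over.comp_left]; infer_instance
    exact IsClosedImmersion.of_comp b.left i.left
  exact isFinite_hom_of_closed c b

variable [IsAlgClosed k]

/-- An isogeny between abelian varieties has a quasi-inverse. -/
theorem exists_isogeny_inverse {A B : Over (Spec (CommRingCat.of k))} [GrpObj A] [GrpObj B] [IsProper A.hom]
    [Smooth A.hom] [ConnectedSpace A.left] [IsProper B.hom] [Smooth B.hom] [ConnectedSpace B.left] (u : A ⟶ B)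
    [IsMonHom u] [Surjective u.left] (hfin : ∀ (K : Over (Spec (CommRingCat.of k))) (c : K ⟶ A),
      AlgGrp.IsKernel c u → IsFinite K.hom) :
    ∃ d : ℕ, 0 < d ∧ ∃ v : B ⟶ A, IsMonHom v ∧ v ≫ u = (𝟙 B) ^ d := by
  haveI := AlgGrpH24.geometricallyIntegral_grp A
  haveI := AlgGrpH24.geometricallyIntegral_grp B
  haveI := isCommMonObj_of_isProper_of_geometricallyIntegral A
  haveI : IsReduced B.left := H23.RigidGamma.isReduced_of_smooth B.hom
  haveI : QuasiCompact u.left := by
    haveI : QuasiCompact (u.left ≫ B.hom) := by rw [Over.w]; infer_instance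
    exact QuasiCompact.of_comp u.left B.hom
  haveI : Flat u.left := GrpSchLib.flat_of_surjective_hom u
  obtain ⟨K, _, c, hcm, hcc, -, hck⟩ := GrpSchLib.exists_kernel u
  haveI := hcm; haveI := hcc
  haveI : Mono c := Over.mono_of_mono_left _
  haveI := isCommMonObj_of_mono c
  haveI : IsFinite K.hom := hfin K c hck
  haveI : IsProper K.hom := inferInstance
  obtain ⟨X, _, j, hjm, hjc, hXp, hXi, r, hr, hrK⟩ := AVTors2.exists_kills_mod K
  haveI := hjm; haveI := hjc; haveI := hXp; haveI := hXi
  haveI : IsAffine K.left := isAffine_of_isAffineHom K.hom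
  haveI : IsAffine X.left := isAffine_of_isAffineHom j.left
  haveI : IsIso X.hom := by
    haveI : IsIso X.hom.appTop := (ConcreteCategory.isIso_iff_bijective _).2 (H23.Rigid.bijective_appTop X.hom)
    haveI : IsIso (X.hom ≫ (Spec (CommRingCat.of k)).isoSpec.hom) := by
      rw [← Scheme.isoSpec_hom_naturality]; infer_instance
    exact IsIso.of_isIso_comp_right X.hom (Spec (CommRingCat.of k)).isoSpec.hom
  haveI : IsMonHom (𝟙 A ^ r : A ⟶ A) := AlgGrpH24.isMonHom_of_forall_mul _ fun {T} a b => by
    simp only [MonObj.comp_pow, Category.comp_id]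
    exact mul_pow a b r
  obtain ⟨v, ⟨hvm, hv⟩, -⟩ := AbTors.exists_unique_factor u (𝟙 A ^ r : A ⟶ A) fun T x hx => by
    let y := hck.lift x (toUnit T) (hx.trans Hom.one_def)
    obtain ⟨z, hz⟩ := hrK T y
    have hz1 : z = 1 := Over.OverMorphism.ext ((cancel_mono X.hom).1 ((Over.w z).trans (Over.w (1 : T ⟶ X)).symm))
    rw [hz1, MonObj.one_comp] at hz
    rw [MonObj.comp_pow, Category.comp_id, show x = y ≫ c from (hck.lift_fst _ _ _).symm, ← MonObj.pow_comp, ← hz,
      MonObj.one_comp]
  refine ⟨r, Nat.pos_of_ne_zero hr, v, hvm, ?_⟩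
  haveI : Epi u.left := Flat.epi_of_flat_of_surjective _
  haveI : Epi u := (Over.forget _).epi_of_epi_map (by assumption)
  rw [← cancel_epi u, reassoc_of% hv, MonObj.pow_comp, MonObj.comp_pow, Category.id_comp, Category.comp_id]

end Groth.Agent.Chev24
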