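import Groth.Agent.Chev24.DescentAny
import Groth.Agent.TransLib.Universal
import Groth.Agent.AGF27.UnipNorm
import Groth.Agent.S5356

/-! Neutral components of smooth groups over any field. -/

set_option linter.style.haveILetI false

open CategoryTheory AlgebraicGeometry MonoidalCategory CartesianMonoidalCategory MonObj Limits IsLocalRing

namespace Groth.Agent.Chev24

universe u

variable {k : Type u} [Field k]

/-- An open connected subgroup of a smooth group is the identity component. -/
theorem range_open_connected_subgroup {G G₀ : Over (Spec (CommRingCat.of k))} [GrpObj G] [GrpObj G₀] [Smooth G.hom]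
    [QuasiCompact G.hom] (i₀ : G₀ ⟶ G) [IsMonHom i₀] [IsOpenImmersion i₀.left] [ConnectedSpace G₀.left] :
    IsClosedImmersion i₀.left ∧ Set.range i₀.left = connectedComponent (η[G].left (closedPoint k)) := by
  haveI : IsSeparated G.hom := GrpSchLib.AntiAffine.isSeparated_grp G
  haveI : IsLocallyNoetherian G.left := LocallyOfFiniteType.isLocallyNoetherian G.hom
  haveI : CompactSpace G.left := QuasiCompact.compactSpace_of_compactSpace G.hom
  haveI : IsNoetherian G.left := {}
  haveI : QuasiCompact i₀.left := inferInstance
  obtain ⟨G₁, _, c, hcm, hcc, hcf, hcr, hgi, hcs⟩ := GrpSchLib.exists_identityComponent (G := G)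
  haveI := hcm; haveI := hcc; haveI := hcf; haveI := hgi
  haveI : LocallyOfFiniteType G₁.hom := by rw [← Over.w c]; infer_instance
  haveI : QuasiCompact G₁.hom := by rw [← Over.w c]; infer_instance
  haveI : LocallyOfFinitePresentation c.left := inferInstance
  haveI : IsOpenImmersion c.left := IsOpenImmersion.of_flat_of_mono c.left
  haveI : Smooth G₁.hom := by rw [← Over.w c]; infer_instance
  haveI : LocallyOfFiniteType G₀.hom := by rw [← Over.w i₀]; infer_instance
  haveI : QuasiCompact G₀.hom := by rw [← Over.w i₀]; infer_instance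
  haveI : IrreducibleSpace G₁.left := GeometricallyIrreducible.irreducibleSpace_of_subsingleton G₁.hom
  haveI : IsReduced G₁.left := H23.RigidGamma.isReduced_of_smooth G₁.hom
  have h1 : η[G₀].left ≫ i₀.left = η[G].left := by rw [← Over.comp_left, IsMonHom.one_hom]
  have hsub : Set.range i₀.left ⊆ Set.range c.left := by
    rw [hcr]
    refine (isPreconnected_range i₀.left.continuous).subset_connectedComponent ?_
    exact ⟨η[G₀].left (closedPoint k), congrArg (fun f => f (closedPoint k)) h1⟩
  let f : G₀ ⟶ G₁ := Over.homMk (IsOpenImmersion.lift c.left i₀.left hsub)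
    (by rw [← Over.w c, IsOpenImmersion.lift_fac_assoc, Over.w i₀])
  have hf : f ≫ c = i₀ := Over.OverMorphism.ext (IsOpenImmersion.lift_fac _ _ _)
  haveI : Mono c := Over.mono_of_mono_left _
  haveI : IsMonHom f := Red23Lib.isMonHom_of_mul f fun T x y => by
    rw [← cancel_mono c, Category.assoc, hf, MonObj.mul_comp, MonObj.mul_comp, Category.assoc, Category.assoc, hf]
  haveI : IsOpenImmersion (f.left ≫ c.left) := by rw [← Over.comp_left, hf]; infer_instance
  haveI : IsOpenImmersion f.left := IsOpenImmersion.of_comp f.left c.left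
  haveI : IsDominant f.left := ⟨f.left.isOpenEmbedding.isOpen_range.dense
    (Set.range_nonempty_iff_nonempty.mpr ⟨η[G₀].left (closedPoint k)⟩)⟩
  haveI : IsSchemeTheoreticallyDominant f.left := IsSchemeTheoreticallyDominant.of_isDominant f.left
  haveI : Surjective f.left := (GrpSchLib.ImageFlat.flat_surjective_of_dominant f).2
  haveI : IsIso f.left := by
    haveI : Epi f.left.base := (TopCat.epi_iff_surjective _).2 f.left.surjective
    exact IsOpenImmersion.isIso f.left
  refine ⟨?_, ?_⟩
  · rw [show i₀.left = f.left ≫ c.left by rw [← Over.comp_left, hf]]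
    infer_instance
  · rw [← hcr, show i₀.left = f.left ≫ c.left by rw [← Over.comp_left, hf], Scheme.Hom.comp_base, TopCat.coe_comp,
      f.left.surjective.range_comp]

/-- The neutral component is normal. -/
theorem isNormalHom_neutral {G G₀ : Over (Spec (CommRingCat.of k))} [GrpObj G] [GrpObj G₀] [Smooth G.hom]
    [QuasiCompact G.hom] (i₀ : G₀ ⟶ G) [IsMonHom i₀] [IsOpenImmersion i₀.left] [ConnectedSpace G₀.left] :
    AlgGrp.IsNormalHom i₀ := by
  haveI : GeometricallyIrreducible G₀.hom := AGF27.geometricallyIrreducible_grp G₀
  haveI : GeometricallyConnected G₀.hom := geometricallyConnected_of_geometricallyIrreducible G₀.hom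
  have hn : AlgGrp.IsNormalHom (𝟙 G) := fun T g n => ⟨g * n * g⁻¹, by simp⟩
  simpa using isNormalHom_identityComponent (𝟙 G) hn i₀ (range_open_connected_subgroup i₀).2

end Groth.Agent.Chev24
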