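import Groth.Agent.Chev24.Neutral

/-! The smallest subgroup of the neutral component with proper quotient is normal in the whole group. -/

set_option linter.style.haveILetI false

open CategoryTheory AlgebraicGeometry MonoidalCategory CartesianMonoidalCategory MonObj Limits IsLocalRing

namespace Groth.Agent.Chev24

universe u

variable {k : Type u} [Field k]

/-- The neutral component covers the group by finitely many translates of rational points. -/
theorem exists_finite_translates {K : Type u} [Field K] [IsAlgClosed K] {G G₀ : Over (Spec (CommRingCat.of K))}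
    [GrpObj G] [LocallyOfFiniteType G.hom] [QuasiCompact G.hom] (c : G₀ ⟶ G) [IsOpenImmersion c.left]
    (e : 𝟙_ (Over (Spec (CommRingCat.of K))) ⟶ G₀) (he : e ≫ c = η[G]) :
    ∃ s : Finset (𝟙_ (Over (Spec (CommRingCat.of K))) ⟶ G), (∀ t, IsOpenImmersion (c ≫ sh t).left) ∧
      Set.univ ⊆ ⋃ t ∈ s, Set.range (c ≫ sh t).left := by
  haveI : CompactSpace G.left := QuasiCompact.compactSpace_of_compactSpace G.hom
  haveI : JacobsonSpace G.left := LocallyOfFiniteType.jacobsonSpace (Y := Spec _) G.hom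
  have hiso : ∀ t : 𝟙_ (Over (Spec (CommRingCat.of K))) ⟶ G, IsIso (sh t).left := fun t => by
    have h : ∀ a b : 𝟙_ (Over (Spec (CommRingCat.of K))) ⟶ G, a * b = 1 → sh a ≫ sh b = 𝟙 G := fun a b hab => by
      simp only [sh, MonObj.comp_mul, Category.comp_id]
      rw [← Category.assoc, comp_toUnit, _root_.mul_assoc, ← MonObj.comp_mul, hab, MonObj.comp_one, _root_.mul_one]
    exact ⟨(sh t⁻¹).left, congrArg CommaMorphism.left (h _ _ (mul_inv_cancel t)),
      congrArg CommaMorphism.left (h _ _ (inv_mul_cancel t))⟩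
  have ho : ∀ t : 𝟙_ (Over (Spec (CommRingCat.of K))) ⟶ G, IsOpenImmersion (c ≫ sh t).left := fun t => by
    haveI := hiso t
    rw [Over.comp_left]
    infer_instance
  have hmem : ∀ t, pt t ∈ Set.range (c ≫ sh t).left := fun t => ⟨pt e, by
    rw [← pt_comp, ← Category.assoc, he, comp_sh, MonObj.one_eq_one, _root_.one_mul]⟩
  have hopen : ∀ t, IsOpen (Set.range (c ≫ sh t).left) := fun t => by
    haveI := ho t
    exact (c ≫ sh t).left.isOpenEmbedding.isOpen_range
  have hcov : Set.univ ⊆ ⋃ t, Set.range (c ≫ sh t).left := by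
    intro y _
    by_contra hy
    obtain ⟨z, hz, hzc⟩ := nonempty_inter_closedPoints (Z := (⋃ t, Set.range (c ≫ sh t).left)ᶜ) ⟨y, hy⟩
      (isOpen_iUnion hopen).isClosed_compl.isLocallyClosed
    obtain ⟨t, rfl⟩ := exists_pt z hzc
    exact hz (Set.mem_iUnion.2 ⟨t, hmem t⟩)
  obtain ⟨s, hs⟩ := isCompact_univ.elim_finite_subcover _ hopen hcov
  exact ⟨s, ho, hs⟩

/-- A finite family of homomorphisms to proper groups has the kernel of one of them. -/
theorem exists_joint_hom {K : Type u} [Field K] {H A : Over (Spec (CommRingCat.of K))} [GrpObj H] [GrpObj A]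
    [IsProper A.hom] {ι' : Type u} (f : ι' → (H ⟶ A)) (hf : ∀ i, IsMonHom (f i)) (s : Finset ι') :
    ∃ (P : Over (Spec (CommRingCat.of K))) (_ : GrpObj P) (_ : IsProper P.hom) (ψ : H ⟶ P), IsMonHom ψ ∧
      ∀ (T : Over (Spec (CommRingCat.of K))) (x : T ⟶ H), x ≫ ψ = 1 → ∀ i ∈ s, x ≫ f i = 1 := by
  classical
  induction s using Finset.induction_on with
  | empty =>
    haveI : IsProper (𝟙_ (Over (Spec (CommRingCat.of K)))).hom :=
      inferInstanceAs (IsProper (𝟙 (Spec (CommRingCat.of K))))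
    exact ⟨𝟙_ _, inferInstance, inferInstance, toUnit H, inferInstance, fun T x _ i hi => absurd hi (by simp)⟩
  | insert a t _ ih =>
    obtain ⟨P, _, hP, ψ, hψ, h⟩ := ih
    haveI := hP; haveI := hψ; haveI := hf a
    haveI : IsProper (P ⊗ A).hom := inferInstanceAs (IsProper (pullback.fst P.hom A.hom ≫ P.hom))
    refine ⟨P ⊗ A, inferInstance, inferInstance, lift ψ (f a), AlgGrpH24.isMonHom_of_forall_mul _ fun {T} x y => by
      apply CartesianMonoidalCategory.hom_ext <;> simp [MonObj.mul_comp], fun T x hx i hi => ?_⟩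
    have h1 := congrArg (· ≫ fst P A) hx
    have h2 := congrArg (· ≫ snd P A) hx
    simp only [Category.assoc, lift_fst, lift_snd, MonObj.one_comp] at h1 h2
    rcases Finset.mem_insert.1 hi with rfl | hi
    · exact h2
    · exact h T x h1 i hi

/-- The transpose of a point. -/
noncomputable def trPt {T : Over (Spec (CommRingCat.of (AlgebraicClosure k)))} {X : Over (Spec (CommRingCat.of k))}
    (y : (Over.map (bcσ k)).obj T ⟶ X) : T ⟶ (B k).obj X :=
  Over.homMk (pullback.lift y.left T.hom (Over.w y)) (pullback.lift_snd _ _ _)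

theorem trPt_comp {T : Over (Spec (CommRingCat.of (AlgebraicClosure k)))} {X Y : Over (Spec (CommRingCat.of k))}
    (y : (Over.map (bcσ k)).obj T ⟶ X) (f : X ⟶ Y) : trPt (y ≫ f) = trPt y ≫ (B k).map f := by
  refine Over.OverMorphism.ext (pullback.hom_ext ?_ ?_)
  · show pullback.lift _ _ _ ≫ _ = (pullback.lift _ _ _ ≫ pullback.lift _ _ _) ≫ _
    erw [pullback.lift_fst, Category.assoc, pullback.lift_fst, pullback.lift_fst_assoc]
    rfl
  · show pullback.lift _ _ _ ≫ _ = (pullback.lift _ _ _ ≫ pullback.lift _ _ _) ≫ _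
    erw [pullback.lift_snd, Category.assoc, pullback.lift_snd, pullback.lift_snd]

theorem trPt_injective {T : Over (Spec (CommRingCat.of (AlgebraicClosure k)))} {X : Over (Spec (CommRingCat.of k))}
    {y y' : (Over.map (bcσ k)).obj T ⟶ X} (h : trPt y = trPt y') : y = y' := by
  apply Over.OverMorphism.ext
  have := congrArg (fun f => f.left ≫ pullback.fst X.hom (bcσ k)) h
  simp only [trPt, Over.homMk_left] at this
  erw [pullback.lift_fst, pullback.lift_fst] at this
  exact this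

theorem trPt_one {T : Over (Spec (CommRingCat.of (AlgebraicClosure k)))} {X : Over (Spec (CommRingCat.of k))}
    [GrpObj X] : trPt (1 : (Over.map (bcσ k)).obj T ⟶ X) = 1 := by
  have h : (1 : (Over.map (bcσ k)).obj T ⟶ X) = (1 : (Over.map (bcσ k)).obj T ⟶ X) ≫ (1 : X ⟶ X) :=
    (MonObj.comp_one _).symm
  rw [h, trPt_comp]
  exact (congrArg (_ ≫ ·) ((B k).homMonoidHom.map_one)).trans (MonObj.comp_one _)

set_option maxHeartbeats 2000000 in
/-- A subgroup of the neutral component killed by every map to a proper group is normal in the whole group. -/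
theorem isNormalHom_of_smallest {G G₀ A N : Over (Spec (CommRingCat.of k))} [GrpObj G] [GrpObj G₀] [GrpObj A]
    [GrpObj N] [Smooth G.hom] [QuasiCompact G.hom] (i₀ : G₀ ⟶ G) [IsMonHom i₀] [IsOpenImmersion i₀.left]
    [ConnectedSpace G₀.left] [IsProper A.hom] (α : G₀ ⟶ A) [IsMonHom α] (j : N ⟶ G₀) [IsMonHom j]
    (hk : AlgGrp.IsKernel j α)
    (hmin : ∀ (Q' : Over (Spec (CommRingCat.of k))) [GrpObj Q'] [IsProper Q'.hom] (q' : G₀ ⟶ Q') [IsMonHom q'],
      j ≫ q' = 1) : AlgGrp.IsNormalHom (j ≫ i₀) := by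
  haveI : LocallyOfFiniteType G₀.hom := by rw [← Over.w i₀]; infer_instance
  haveI : IsSeparated G.hom := GrpSchLib.AntiAffine.isSeparated_grp G
  haveI := (range_open_connected_subgroup i₀).1
  haveI : QuasiCompact G₀.hom := by rw [← Over.w i₀]; infer_instance
  haveI : Mono i₀ := Over.mono_of_mono_left _
  obtain ⟨Φ, hΦ⟩ := isNormalHom_neutral i₀ (G ⊗ G₀) (fst G G₀) (snd G G₀)
  have hc : ∀ {P : Over (Spec (CommRingCat.of k))} (g : P ⟶ G) (x : P ⟶ G₀),
      (lift g x ≫ Φ) ≫ i₀ = g * (x ≫ i₀) * g⁻¹ := by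
    intro P g x
    rw [Category.assoc, ← hΦ, MonObj.comp_mul, MonObj.comp_mul, GrpObj.comp_inv, lift_fst, lift_snd_assoc]
  have hmul : ∀ {P : Over (Spec (CommRingCat.of k))} (g : P ⟶ G) (x y : P ⟶ G₀),
      lift g (x * y) ≫ Φ = (lift g x ≫ Φ) * (lift g y ≫ Φ) := by
    intro P g x y
    rw [← cancel_mono i₀, MonObj.mul_comp _ _ i₀, hc, hc, hc, MonObj.mul_comp]
    group
  have hone : ∀ {P : Over (Spec (CommRingCat.of k))} (g : P ⟶ G), lift g (1 : P ⟶ G₀) ≫ Φ = 1 := by
    intro P g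
    have := hmul g 1 1
    rw [_root_.mul_one] at this
    exact left_eq_mul.mp this
  let e : 𝟙_ (Over (Spec (CommRingCat.of k))) ⟶ A := η[A]
  haveI : IsClosedImmersion e.left := by
    haveI : IsClosedImmersion (e.left ≫ A.hom) := by rw [Over.w]; exact inferInstanceAs (IsClosedImmersion (𝟙 _))
    exact IsClosedImmersion.of_comp e.left A.hom
  obtain ⟨Z, c, hcc, -, hZ⟩ := TransLib.exists_closed_universal_essFree
    ((Groth.Agent.S5356.result.{u}).2.2.1 k G.left G.hom) (Φ ≫ α) e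
  have hmem : ∀ {P : Over (Spec (CommRingCat.of k))} (x : P ⟶ G₀), (∃ z : P ⟶ Z, z ≫ c = x) ↔
      ∀ (T : Over (Spec (CommRingCat.of k))) (g : T ⟶ G) (p : T ⟶ P), (lift g (p ≫ x) ≫ Φ) ≫ α = 1 := by
    intro P x
    rw [hZ]
    constructor
    · rintro ⟨l, hl⟩ T g p
      have := congrArg (lift g p ≫ ·) hl
      simp only [lift_whiskerLeft_assoc] at this
      rw [Category.assoc, ← this, ← Category.assoc, toUnit_unique (lift g p ≫ l) (toUnit T), ← Hom.one_def]
    · intro h
      refine ⟨toUnit _, ?_⟩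
      rw [← Hom.one_def, ← h _ (fst G P) (snd G P), Category.assoc]
      congr 1
  haveI : Mono c := Over.mono_of_mono_left _
  obtain ⟨η', hη'⟩ := (hmem η[G₀]).2 fun T g p => by
    rw [MonObj.one_eq_one, MonObj.comp_one, hone, MonObj.one_comp]
  obtain ⟨μ', hμ'⟩ := (hmem ((fst Z Z ≫ c) * (snd Z Z ≫ c))).2 fun T g p => by
    rw [MonObj.comp_mul, hmul, MonObj.mul_comp]
    have h1 := (hmem _).1 ⟨fst Z Z, rfl⟩ T g p
    have h2 := (hmem _).1 ⟨snd Z Z, rfl⟩ T g p
    rw [h1, h2, _root_.one_mul]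
  obtain ⟨v', hv'⟩ := (hmem c⁻¹).2 fun T g p => by
    have h1 := (hmem c).1 ⟨𝟙 Z, Category.id_comp c⟩ T g p
    have h2 := hmul g (p ≫ c) (p ≫ c⁻¹)
    rw [← MonObj.comp_mul, mul_inv_cancel, MonObj.comp_one, hone] at h2
    have h3 := congrArg (· ≫ α) h2
    simp only [MonObj.one_comp, MonObj.mul_comp, h1, _root_.one_mul] at h3
    exact h3.symm
  obtain ⟨str, hcm⟩ := GrpSchLib.exists_grpObj_of_mono c η' hη' μ' hμ' v' hv'
  letI := str
  haveI := hcm
  have hn : AlgGrp.IsNormalHom c := fun T h n => by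
    obtain ⟨z, hz⟩ := (hmem (h * (n ≫ c) * h⁻¹)).2 fun T' g p => by
      have h1 := (hmem c).1 ⟨𝟙 Z, Category.id_comp c⟩ T' (g * (p ≫ h ≫ i₀)) (p ≫ n)
      refine Eq.trans (congrArg (· ≫ α) ?_) h1
      rw [← cancel_mono i₀, hc, hc]
      simp only [Category.assoc, MonObj.mul_comp, GrpObj.inv_comp, MonObj.comp_mul, GrpObj.comp_inv]
      group
    exact ⟨z, hz.symm⟩
  obtain ⟨S, _, r, hrm, hrs, hrf, -, hSl, hSq, hSsep, hrk⟩ := AlgGrpH24.exists_quotient_grp c hn
  haveI := hrm; haveI := hrs; haveI := hrf; haveI := hSl; haveI := hSq; haveI := hSsep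
  -- over the algebraic closure
  let K := AlgebraicClosure k
  haveI : LocallyOfFiniteType ((B k).obj G).hom := lft_bc G
  haveI : QuasiCompact ((B k).obj G).hom := qc_bc G
  haveI : LocallyOfFiniteType ((B k).obj G₀).hom := lft_bc G₀
  haveI : QuasiCompact ((B k).obj G₀).hom := qc_bc G₀
  haveI : LocallyOfFiniteType ((B k).obj S).hom := lft_bc S
  haveI : QuasiCompact ((B k).obj S).hom := qc_bc S
  haveI : IsProper ((B k).obj A).hom := inferInstanceAs (IsProper (pullback.snd A.hom (bcσ k)))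
  haveI : IsOpenImmersion ((B k).map i₀).left := property_map_bc i₀ @IsOpenImmersion ‹_›
  haveI : Mono ((B k).map i₀) := Over.mono_of_mono_left _
  obtain ⟨s, ho, hs⟩ := exists_finite_translates ((B k).map i₀) η[(B k).obj G₀]
    (IsMonHom.one_hom ((B k).map i₀))
  obtain ⟨ΦK, hΦK⟩ : ∃ ΦK : ∀ {T : Over (Spec (CommRingCat.of K))}, (T ⟶ (B k).obj G) → (T ⟶ (B k).obj G₀) →
      (T ⟶ (B k).obj G₀), ∀ {T : Over (Spec (CommRingCat.of K))} (g : T ⟶ (B k).obj G) (x : T ⟶ (B k).obj G₀),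
        ΦK g x ≫ (B k).map i₀ = g * (x ≫ (B k).map i₀) * g⁻¹ := by
    refine ⟨fun {T} g x => (lift g x ≫ (Functor.Monoidal.μIso (B k) G G₀).hom) ≫ (B k).map Φ, fun {T} g x => ?_⟩
    rw [Category.assoc, Category.assoc, ← Functor.map_comp, ← hΦ]
    show lift g x ≫ (Functor.Monoidal.μIso (B k) G G₀).hom ≫
      (B k).homMonoidHom (fst G G₀ * (snd G G₀ ≫ i₀) * (fst G G₀)⁻¹) = _
    rw [map_mul, map_mul, map_inv]
    show lift g x ≫ (Functor.Monoidal.μIso (B k) G G₀).hom ≫
      ((B k).map (fst G G₀) * (B k).map (snd G G₀ ≫ i₀) * ((B k).map (fst G G₀))⁻¹) = _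
    rw [MonObj.comp_mul, MonObj.comp_mul, GrpObj.comp_inv, MonObj.comp_mul, MonObj.comp_mul, GrpObj.comp_inv,
      Functor.map_comp]
    simp only [Functor.Monoidal.μIso_hom, Functor.Monoidal.μ_fst, Functor.Monoidal.μ_snd_assoc, lift_fst,
      lift_snd_assoc]
  let f : (𝟙_ (Over (Spec (CommRingCat.of K))) ⟶ (B k).obj G) → ((B k).obj G₀ ⟶ (B k).obj A) := fun t =>
    ΦK (toUnit _ ≫ t) (𝟙 _) ≫ (B k).map α
  have hf : ∀ t, IsMonHom (f t) := fun t => by
    refine Red23Lib.isMonHom_of_mul _ fun T x y => ?_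
    simp only [f, ← Category.assoc]
    rw [← MonObj.mul_comp _ _ ((B k).map α)]
    congr 1
    rw [← cancel_mono ((B k).map i₀), MonObj.mul_comp _ _ ((B k).map i₀)]
    simp only [Category.assoc, hΦK, Category.id_comp, MonObj.comp_mul, GrpObj.comp_inv, MonObj.mul_comp]
    simp only [← Category.assoc, comp_toUnit]
    group
  obtain ⟨P, _, hPp, ψ, hψ, hψs⟩ := exists_joint_hom f hf s
  haveI := hPp; haveI := hψ
  obtain ⟨K₁, _, κ, hκm, hκc, hκn, hκk⟩ := GrpSchLib.exists_kernel ψ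
  haveI := hκm; haveI := hκc
  obtain ⟨x', hx'⟩ : ∃ x' : (Over.map (bcσ k)).obj K₁ ⟶ G₀, trPt x' = κ :=
    ⟨Over.homMk (κ.left ≫ pullback.fst G₀.hom (bcσ k)) (by
      show (κ.left ≫ _) ≫ G₀.hom = K₁.hom ≫ bcσ k
      rw [Category.assoc, pullback.condition, ← Category.assoc]
      exact congrArg (· ≫ bcσ k) (Over.w κ)), Over.OverMorphism.ext (pullback.hom_ext
        (pullback.lift_fst _ _ _) ((pullback.lift_snd _ _ _).trans (Over.w κ).symm))⟩
  obtain ⟨z, hz⟩ := (hmem x').2 fun T g p => by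
    let T' : Over (Spec (CommRingCat.of K)) := Over.mk (p.left ≫ K₁.hom)
    obtain ⟨e', he'⟩ : ∃ e' : (Over.map (bcσ k)).obj T' ⟶ T, e'.left = 𝟙 _ :=
      ⟨Over.homMk (𝟙 _) (by
        show 𝟙 _ ≫ T.hom = (p.left ≫ K₁.hom) ≫ bcσ k
        rw [Category.id_comp, Category.assoc, ← Over.w p]
        rfl), rfl⟩
    let n : T' ⟶ K₁ := Over.homMk p.left rfl
    have hnx : trPt (e' ≫ p ≫ x') = n ≫ κ := by
      rw [← hx']
      refine Over.OverMorphism.ext (pullback.hom_ext ?_ ?_)
      · show pullback.lift _ _ _ ≫ _ = (n.left ≫ pullback.lift _ _ _) ≫ _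
        erw [pullback.lift_fst, Category.assoc, pullback.lift_fst, Over.comp_left, Over.comp_left, he',
          Category.id_comp]
      · show pullback.lift _ _ _ ≫ _ = (n.left ≫ pullback.lift _ _ _) ≫ _
        erw [pullback.lift_snd, Category.assoc, pullback.lift_snd]
        rfl
    have key : trPt (e' ≫ lift g (p ≫ x') ≫ Φ) ≫ (B k).map α = 1 := by
      let gK := trPt (e' ≫ g)
      have hcK : trPt (e' ≫ lift g (p ≫ x') ≫ Φ) ≫ (B k).map i₀ = gK * ((n ≫ κ) ≫ (B k).map i₀) * gK⁻¹ := by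
        rw [← hnx, ← trPt_comp, Category.assoc, Category.assoc, ← hΦ]
        simp only [MonObj.comp_mul, GrpObj.comp_inv, Category.assoc, lift_fst, lift_snd_assoc]
        rw [show e' ≫ g * e' ≫ p ≫ x' ≫ i₀ * (e' ≫ g)⁻¹ =
          lift (e' ≫ g) (e' ≫ p ≫ x') ≫ (fst G G₀ * (snd G G₀ ≫ i₀) * (fst G G₀)⁻¹) by
          simp only [MonObj.comp_mul, GrpObj.comp_inv, lift_fst, lift_snd_assoc, Category.assoc], trPt_comp]
        show _ ≫ (B k).homMonoidHom (fst G G₀ * (snd G G₀ ≫ i₀) * (fst G G₀)⁻¹) = _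
        rw [map_mul, map_mul, map_inv]
        show _ ≫ ((B k).map (fst G G₀) * (B k).map (snd G G₀ ≫ i₀) * ((B k).map (fst G G₀))⁻¹) = _
        rw [MonObj.comp_mul, MonObj.comp_mul, GrpObj.comp_inv, ← trPt_comp, ← trPt_comp, lift_fst, lift_snd_assoc,
          trPt_comp (e' ≫ p ≫ x') i₀]
      apply Over.OverMorphism.ext
      refine (T'.left.openCoverOfIsOpenCover (fun t : s => ⟨gK.left ⁻¹' Set.range ((B k).map i₀ ≫ sh t.1).left,
        (haveI := ho t.1; ((B k).map i₀ ≫ sh t.1).left.isOpenEmbedding.isOpen_range).preimage gK.left.continuous⟩)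
        ?_).hom_ext _ _ fun t => ?_
      · refine TopologicalSpace.IsOpenCover.mk (eq_top_iff.2 fun y _ => ?_)
        obtain ⟨t, ht, hyt⟩ := Set.mem_iUnion₂.1 (hs (Set.mem_univ (gK.left y)))
        exact TopologicalSpace.Opens.mem_iSup.2 ⟨⟨t, ht⟩, hyt⟩
      · let U : T'.left.Opens := ⟨gK.left ⁻¹' Set.range ((B k).map i₀ ≫ sh t.1).left,
          (haveI := ho t.1; ((B k).map i₀ ≫ sh t.1).left.isOpenEmbedding.isOpen_range).preimage gK.left.continuous⟩
        let u : Over.mk (U.ι ≫ T'.hom) ⟶ T' := Over.homMk U.ι rfl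
        haveI := ho t.1
        have hr : Set.range (U.ι ≫ gK.left) ⊆ Set.range ((B k).map i₀ ≫ sh t.1).left := by
          rintro _ ⟨y, rfl⟩
          exact y.2
        let h : Over.mk (U.ι ≫ T'.hom) ⟶ (B k).obj G₀ :=
          Over.homMk (IsOpenImmersion.lift ((B k).map i₀ ≫ sh t.1).left (U.ι ≫ gK.left) hr) (by
            show _ = U.ι ≫ T'.hom
            rw [← Over.w ((B k).map i₀ ≫ sh t.1), IsOpenImmersion.lift_fac_assoc, Category.assoc, Over.w gK])
        have hh : h ≫ (B k).map i₀ ≫ sh t.1 = u ≫ gK := Over.OverMorphism.ext (IsOpenImmersion.lift_fac _ _ _)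
        have e1 : u ≫ trPt (e' ≫ lift g (p ≫ x') ≫ Φ) = h * ((u ≫ n ≫ κ) ≫ ΦK (toUnit _ ≫ t.1) (𝟙 _)) * h⁻¹ := by
          rw [← cancel_mono ((B k).map i₀), Category.assoc, hcK]
          simp only [MonObj.mul_comp, GrpObj.inv_comp, MonObj.comp_mul, GrpObj.comp_inv, Category.assoc, hΦK,
            Category.id_comp]
          rw [← hh]
          simp only [sh, MonObj.comp_mul, Category.comp_id, ← Category.assoc, comp_toUnit]
          group
        have e2 : (u ≫ n ≫ κ) ≫ f t.1 = 1 := hψs _ _ (by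
          rw [Category.assoc, Category.assoc, hκk.w, ← Category.assoc n, comp_toUnit, ← Category.assoc u,
            comp_toUnit, ← Hom.one_def]) t.1 t.2
        have e3 : (u ≫ trPt (e' ≫ lift g (p ≫ x') ≫ Φ)) ≫ (B k).map α = 1 := by
          rw [e1, MonObj.mul_comp, MonObj.mul_comp, GrpObj.inv_comp, Category.assoc,
            show (u ≫ n ≫ κ) ≫ f t.1 = 1 from e2, _root_.mul_one, mul_inv_cancel]
        exact congrArg CommaMorphism.left ((Category.assoc _ _ _).symm.trans (e3.trans (MonObj.comp_one u).symm))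
    rw [← trPt_comp] at key
    have key2 := trPt_injective (key.trans trPt_one.symm)
    rw [Category.assoc] at key2
    apply Over.OverMorphism.ext
    have key3 := congrArg CommaMorphism.left (key2.trans (MonObj.comp_one e').symm)
    simp only [Over.comp_left, he', Category.id_comp] at key3
    simpa only [Over.comp_left, Category.assoc] using key3
  have hκr : κ ≫ (B k).map r = 1 := by
    rw [← hx', ← trPt_comp, ← hz, Category.assoc, hrk.w, ← Hom.one_def, MonObj.comp_one, trPt_one]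
  obtain ⟨Q₁, _, q₁, hq₁m, hq₁s, hq₁f, hq₁k, hQ₁p⟩ := exists_proper_quotient_of_kernel κ hκn ψ hκk
  haveI := hq₁m; haveI := hq₁s; haveI := hq₁f; haveI := hQ₁p
  haveI : IsMonHom ((B k).map r) := inferInstance
  obtain ⟨d, -, hqd, -⟩ := Groth.Agent.S3280.result K ((B k).obj G₀) K₁ Q₁ ((B k).obj S) q₁ κ hq₁k
    ((B k).map r) (hκr.trans Hom.one_def)
  haveI : Surjective ((B k).map r).left := property_map_bc r @Surjective ‹_›
  haveI : Surjective d.left := by
    haveI : Surjective (q₁.left ≫ d.left) := by rw [← Over.comp_left, hqd]; infer_instance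
    exact Surjective.of_comp q₁.left d.left
  haveI : UniversallyClosed (d.left ≫ ((B k).obj S).hom) := by rw [Over.w]; infer_instance
  haveI : UniversallyClosed ((B k).obj S).hom := UniversallyClosed.of_comp_surjective d.left _
  haveI : UniversallyClosed S.hom :=
    MorphismProperty.of_pullback_snd_of_descendsAlong (P := @UniversallyClosed) (Q := @Surjective ⊓ @Flat ⊓ @QuasiCompact)
      (g := bcσ k) ⟨⟨surjective_bcσ, inferInstance⟩, inferInstance⟩
      (inferInstanceAs (UniversallyClosed ((B k).obj S).hom))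
  haveI : IsProper S.hom := {}
  have hjz : hrk.lift j (toUnit N) ((hmin S r).trans Hom.one_def) ≫ c = j := hrk.lift_fst _ _ _
  intro T g n
  have h1 := (hmem j).1 ⟨_, hjz⟩ T g n
  refine ⟨hk.lift _ (toUnit _) (h1.trans Hom.one_def), ?_⟩
  rw [hk.lift_fst_assoc, hc, Category.assoc]

end Groth.Agent.Chev24
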