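import Groth.Agent.Chev24.FieldLemma
import Groth.Agent.Chev24.Pts
import Groth.Agent.VarDim.Fibre
import Groth.Agent.Eg2RatExt.Basic
import Groth.Agent.FlatMisc.ApproxDim
import Groth.Agent.GrpSchLib.SmoothRegular

/-! Dimension facts for the product of a group with a curve. -/

set_option linter.style.haveILetI false

open CategoryTheory AlgebraicGeometry MonoidalCategory CartesianMonoidalCategory MonObj Limits IsLocalRing
open Groth.Agent.VarDim (deg tdeg fdeg rdeg resHom baseMap)

namespace Groth.Agent.Chev24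

universe u

variable {k : Type u} [Field k]

theorem germ_appLE {X Y : Scheme.{u}} (f : X ⟶ Y) {V : Y.Opens} {O : X.Opens} (e : O ≤ f ⁻¹ᵁ V) (x : X)
    (hx : x ∈ O) (s : Γ(Y, V)) :
    X.presheaf.germ O x hx (f.appLE V O e s) = f.stalkMap x (Y.presheaf.germ V (f x) (e hx) s) := by
  refine Eq.trans ?_ (Scheme.Hom.germ_stalkMap_apply f V x (e hx) s).symm
  rw [Scheme.Hom.appLE, CommRingCat.comp_apply]
  exact TopCat.Presheaf.germ_res_apply X.presheaf (homOfLE e) x hx _

theorem deg_preimmersion {X Y : Scheme.{u}} (f : X ⟶ Y) [IsPreimmersion f] [LocallyOfFiniteType f]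
    (q : Y ⟶ Spec (CommRingCat.of k)) [LocallyOfFiniteType q] {p : X ⟶ Spec (CommRingCat.of k)} (h : f ≫ q = p) (x : X) :
    deg p x = deg q (f x) := by
  rw [VarDim.deg_eq_add f q h, fdeg, VarDim.rdeg_preimmersion, map_zero, add_zero]

variable [IsAlgClosed k]

/-- A curve: a closed point with one-dimensional local ring. -/
theorem dim_curve {C : Over (Spec (CommRingCat.of k))} [LocallyOfFiniteType C.hom] [IsIntegral C.left]
    (c : C.left) (hc : IsClosed ({c} : Set C.left)) (hC : ringKrullDim (C.left.presheaf.stalk c) = 1) :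
    topologicalKrullDim C.left = 1 := by
  rw [VarDim.topologicalKrullDim_eq_deg_genericPoint C.hom]
  obtain ⟨b, hb, ⟨ξ', hξ', hdξ⟩, hle⟩ := VarDim.exists_deg_add_stalk C.hom c
  obtain rfl : b = 1 := by rw [hC] at hb; exact_mod_cast hb.symm
  rw [(VarDim.closedPoint_iff_deg_eq_zero C.hom c).1 hc, zero_add] at hdξ hle
  have h1 := hle _ (genericPoint_specializes c)
  have h2 := VarDim.deg_le_of_specializes C.hom (genericPoint_specializes ξ')
  rw [show deg C.hom (genericPoint C.left) = 1 by omega]
  rfl

theorem deg_prod_curve {G C : Over (Spec (CommRingCat.of k))} [LocallyOfFiniteType G.hom] [LocallyOfFiniteType C.hom]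
    [IsIntegral G.left] [IsIntegral C.left] (hC : topologicalKrullDim C.left = 1) (z : (G ⊗ C).left) :
    deg (G ⊗ C).hom z ≤ deg G.hom (genericPoint G.left) + 1 := by
  haveI := lft_tensor G C
  haveI : LocallyOfFiniteType (fst G C).left := inferInstanceAs (LocallyOfFiniteType (pullback.fst G.hom C.hom))
  rw [VarDim.deg_eq_add (fst G C).left G.hom (Over.w (fst G C)) z]
  have h1 := VarDim.deg_le_of_specializes G.hom (genericPoint_specializes ((fst G C).left z))
  suffices h : fdeg (fst G C).left z ≤ 1 by omega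
  have hsq : IsPullback (snd G C).left (fst G C).left C.hom G.hom :=
    (IsPullback.of_hasPullback G.hom C.hom).flip
  have h2 := FlatMisc.ApproxDim.fibre_dim_baseChange hsq ((fst G C).left z)
  have h3 : ((fdeg (fst G C).left z : ℕ∞) : WithBot ℕ∞) ≤ topologicalKrullDim ((fst G C).left.fiber ((fst G C).left z)) := by
    rw [VarDim.topologicalKrullDim_fiber]
    exact le_iSup_of_le ⟨z, rfl⟩ le_rfl
  have h4 : topologicalKrullDim (C.hom.fiber (G.hom ((fst G C).left z))) = topologicalKrullDim C.left := by
    rw [IsHomeomorph.topologicalKrullDim_eq _ (C.hom.fiberHomeo (G.hom ((fst G C).left z))).isHomeomorph]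
    have hu : C.hom ⁻¹' {G.hom ((fst G C).left z)} = Set.univ :=
      Set.eq_univ_of_forall fun x => Subsingleton.elim (α := Spec (CommRingCat.of k)) _ _
    rw [hu]
    exact IsHomeomorph.topologicalKrullDim_eq _ (Homeomorph.Set.univ C.left).isHomeomorph
  rw [h2, h4, hC] at h3
  exact_mod_cast h3

theorem spec_surj_gen {X : Scheme.{u}} [IsIntegral X] (z d : X) (hz : z = genericPoint X) (h : z ⤳ d)
    [ValuationRing (X.presheaf.stalk d)] [IsDomain (X.presheaf.stalk d)] :
    Function.Injective (X.presheaf.stalkSpecializes h) ∧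
      ∀ w : X.presheaf.stalk z, ∃ b : X.presheaf.stalk d,
        w = X.presheaf.stalkSpecializes h b ∨ w * X.presheaf.stalkSpecializes h b = 1 := by
  subst hz
  have hmap : ∀ b, algebraMap (X.presheaf.stalk d) X.functionField b = X.presheaf.stalkSpecializes h b := fun b => rfl
  refine ⟨fun a b hab => IsFractionRing.injective (X.presheaf.stalk d) X.functionField
    (by rw [hmap, hmap]; exact hab), fun w => ?_⟩
  by_cases hw : w = 0
  · exact ⟨0, Or.inl (by rw [hw, map_zero])⟩
  rcases ValuationRing.isInteger_or_isInteger (X.presheaf.stalk d) (K := X.functionField) w with ⟨b, hb⟩ | ⟨b, hb⟩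
  · exact ⟨b, Or.inl hb.symm⟩
  · refine ⟨b, Or.inr ?_⟩
    rw [← hmap, hb]
    exact mul_inv_cancel₀ (G₀ := X.functionField) hw

theorem residue_injective_gen {X : Scheme.{u}} [IsIntegral X] (z : X) (hz : z = genericPoint X) :
    Function.Injective (X.residue z) := by
  subst hz
  exact RingHom.injective (X.residue (genericPoint X)).hom

end Groth.Agent.Chev24
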