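import Groth.Agent.Chev24.StabAlg
import Groth.Agent.Chev24.Fun
import Groth.Agent.Chev24.ExtCurve

/-! A nonconstant function invariant under the limit values of a punctured curve. -/

set_option linter.style.haveILetI false

open CategoryTheory AlgebraicGeometry MonoidalCategory CartesianMonoidalCategory MonObj Limits IsLocalRing
open Groth.Agent.VarDim (deg tdeg fdeg rdeg resHom baseMap)

namespace Groth.Agent.Chev24

universe u

variable {k : Type u} [Field k] [IsAlgClosed k]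

theorem exists_invariant_fun {C C₀ G : Over (Spec (CommRingCat.of k))} [Smooth C.hom] [IsSeparated C.hom]
    [QuasiCompact C.hom] [IsIntegral C.left] [GrpObj G] [IsCommMonObj G] [Smooth G.hom] [IsIntegral G.left]
    (c : 𝟙_ (Over (Spec (CommRingCat.of k))) ⟶ C) (hc : ringKrullDim (C.left.presheaf.stalk (pt c)) = 1)
    (j : C₀ ⟶ C) [IsOpenImmersion j.left] (hne : Nonempty C₀.left) (gam : C₀ ⟶ G)
    (hn : 2 ≤ deg G.hom (genericPoint G.left)) :
    ∃ (U : G.left.Opens) (fb : op U ⟶ A1 k), (U : Set G.left).Nonempty ∧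
      (∀ a, fb ≠ toUnit (op U) ≫ a) ∧
      ∀ g, IsLimitValue c j gam g → ∀ x y : 𝟙_ (Over (Spec (CommRingCat.of k))) ⟶ op U,
        (x ≫ opι U) * g = y ≫ opι U → x ≫ fb = y ≫ fb := by
  haveI : IsSeparated G.hom := GrpSchLib.AntiAffine.isSeparated_grp G
  haveI : LocallyOfFiniteType C₀.hom := by rw [← Over.w j]; infer_instance
  haveI : IsSeparated C₀.hom := by rw [← Over.w j]; infer_instance
  haveI := hne
  haveI : IsIntegral C₀.left := isIntegral_of_isOpenImmersion j.left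
  let P := G ⊗ C
  let N := G ⊗ C₀
  haveI : IsIntegral P.left := isIntegral_tensor G C
  haveI : IsIntegral N.left := isIntegral_tensor G C₀
  haveI : LocallyOfFiniteType P.hom := lft_tensor G C
  haveI : LocallyOfFiniteType N.hom := lft_tensor G C₀
  haveI : IsSeparated P.hom := separated_tensor G C
  haveI : Smooth P.hom := inferInstanceAs (Smooth (pullback.fst G.hom C.hom ≫ G.hom))
  let jN : N ⟶ P := G ◁ j
  haveI hjN : IsOpenImmersion jN.left := AlgGrpH24.property_whiskerLeft' G j @IsOpenImmersion ‹_›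
  let σ : N ⟶ G := fst G C₀ * (snd G C₀ ≫ gam)
  let sec : G ⟶ P := lift (𝟙 G) (toUnit G ≫ c)
  haveI : IsClosedImmersion sec.left := by
    haveI : IsClosedImmersion (sec.left ≫ (fst G C).left) := by
      rw [← Over.comp_left, lift_fst, Over.id_left]; infer_instance
    haveI : IsSeparated (fst G C).left := inferInstanceAs (IsSeparated (pullback.fst G.hom C.hom))
    exact IsClosedImmersion.of_comp sec.left (fst G C).left
  let ξ := genericPoint G.left
  let d₀ := sec.left ξ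
  let gN := genericPoint N.left
  have hgen : jN.left gN = genericPoint P.left := genericPoint_eq_of_isOpenImmersion jN.left
  -- dimensions
  have hdimC := dim_curve (pt c) (isClosed_pt c) hc
  have hdeg_d : deg P.hom d₀ = deg G.hom ξ := (deg_preimmersion sec.left P.hom (Over.w sec) ξ).symm
  obtain ⟨b, hb, ⟨ξ', -, hdξ⟩, -⟩ := VarDim.exists_deg_add_stalk P.hom d₀
  have hb1 : b ≤ 1 := by
    have : deg P.hom ξ' ≤ deg G.hom ξ + 1 := deg_prod_curve (G := G) hdimC ξ'
    omega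
  haveI := GrpSchLib.isRegularLocalRing_stalk_of_smooth P.hom d₀
  haveI : IsDomain (P.left.presheaf.stalk d₀) :=
    Function.Injective.isDomain _ (IsFractionRing.injective (P.left.presheaf.stalk d₀) P.left.functionField)
  haveI : ValuationRing (P.left.presheaf.stalk d₀) :=
    Eg2RatExt.valuationRing_of_regular _ (by rw [hb]; exact_mod_cast hb1)
  -- the translated map is dominant
  have hσ : σ.left gN = ξ := by
    obtain ⟨s₀, -⟩ := exists_pt_mem (X := C₀) (Z := Set.univ) Set.univ_nonempty isOpen_univ.isLocallyClosed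
    have h1 : lift (𝟙 G * (toUnit G ≫ s₀ ≫ gam)⁻¹) (toUnit G ≫ s₀) ≫ σ = 𝟙 G := by
      simp only [σ, MonObj.comp_mul, lift_fst, lift_snd_assoc, Category.assoc, inv_mul_cancel_right]
    refine (((genericPoint_specializes (α := N.left)
      ((lift (𝟙 G * (toUnit G ≫ s₀ ≫ gam)⁻¹) (toUnit G ≫ s₀)).left ξ)).map σ.left.continuous).trans
        (specializes_of_eq ?_)).antisymm (genericPoint_specializes _) |>.eq
    rw [← Scheme.Hom.comp_apply, ← Over.comp_left, h1]
    rfl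
  haveI : LocallyOfFiniteType σ.left := by
    haveI : LocallyOfFiniteType (σ.left ≫ G.hom) := by rw [Over.w]; infer_instance
    exact locallyOfFiniteType_of_comp σ.left G.hom
  have hσdeg : fdeg σ.left gN ≤ 1 := by
    have h1 := deg_preimmersion jN.left P.hom (Over.w jN) gN
    have h2 := VarDim.deg_eq_add σ.left G.hom (Over.w σ) gN
    have h3 : deg P.hom (jN.left gN) ≤ deg G.hom ξ + 1 := deg_prod_curve (G := G) hdimC (jN.left gN)
    rw [hσ] at h2
    omega
  -- the valuation ring at the boundary divisor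
  have hsp : jN.left gN ⤳ d₀ := hgen ▸ genericPoint_specializes d₀
  obtain ⟨hinj, hval⟩ := spec_surj_gen (jN.left gN) d₀ hgen hsp
  let ψ : P.left.presheaf.stalk d₀ →+* N.left.residueField gN :=
    ((N.left.residue gN).hom.comp (jN.left.stalkMap gN).hom).comp (P.left.presheaf.stalkSpecializes hsp).hom
  haveI hiso : IsIso (jN.left.stalkMap gN) := (IsOpenImmersion.iff_isIso_stalkMap.1 hjN).2 gN
  have hbj := ConcreteCategory.bijective_of_isIso (jN.left.stalkMap gN)
  have hres := residue_injective_gen gN rfl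
  have hψ : Function.Injective ψ := hres.comp (hbj.1.comp hinj)
  have hψval : ∀ z : N.left.residueField gN, ∃ b, z = ψ b ∨ z * ψ b = 1 := fun z => by
    obtain ⟨z', rfl⟩ := N.left.residue_surjective gN z
    obtain ⟨w, rfl⟩ := hbj.2 z'
    obtain ⟨b, rfl | hb'⟩ := hval w
    · exact ⟨b, Or.inl rfl⟩
    · refine ⟨b, Or.inr ?_⟩
      show N.left.residue gN (jN.left.stalkMap gN w) *
        N.left.residue gN (jN.left.stalkMap gN (P.left.presheaf.stalkSpecializes hsp b)) = 1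
      rw [← map_mul, ← map_mul, hb', map_one, map_one]
  let r : P.left.presheaf.stalk d₀ →+* G.left.residueField ξ := (G.left.residue ξ).hom.comp (sec.left.stalkMap ξ).hom
  have hr : Function.Surjective r := (G.left.residue_surjective ξ).comp (sec.left.stalkMap_surjective ξ)
  letI := (resHom G.hom ξ).toAlgebra
  letI := (σ.left.residueFieldMap gN).hom.toAlgebra
  have hF : 2 ≤ Algebra.trdeg k (G.left.residueField ξ) := by
    rw [show Algebra.trdeg k (G.left.residueField ξ) = tdeg G.hom ξ from rfl, ← VarDim.deg_eq_tdeg]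
    exact_mod_cast hn
  have hL : Algebra.trdeg (G.left.residueField (σ.left gN)) (N.left.residueField gN) ≤ 1 := by
    rw [show Algebra.trdeg (G.left.residueField (σ.left gN)) (N.left.residueField gN) = rdeg σ.left gN from rfl,
      ← VarDim.fdeg_eq_rdeg σ.left G.hom]
    exact_mod_cast hσdeg
  obtain ⟨α, β, hαβ, hβ⟩ := exists_nonconstant_residue ψ hψ hψval r hr hF hL
  -- spread out
  obtain ⟨α₀, rfl⟩ := G.left.residue_surjective _ α
  obtain ⟨V₀, hV₀, s, rfl⟩ := G.left.presheaf.germ_exist (x := σ.left gN) α₀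
  obtain ⟨W, hW, F, rfl⟩ := P.left.presheaf.germ_exist (x := d₀) β
  let O : N.left.Opens := σ.left ⁻¹ᵁ V₀ ⊓ jN.left ⁻¹ᵁ W
  have hgW : jN.left gN ∈ W := hsp.mem_open W.isOpen hW
  have hgO : gN ∈ O := ⟨hV₀, hgW⟩
  have hO : σ.left.appLE V₀ O inf_le_left s = jN.left.appLE W O inf_le_right F := by
    refine germ_injective_of_isIntegral N.left gN hgO (hres ?_)
    rw [germ_appLE, germ_appLE]
    have e1 := congr($(Scheme.residue_residueFieldMap σ.left gN) (G.left.presheaf.germ V₀ (σ.left gN) hV₀ s))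
    rw [CommRingCat.comp_apply, CommRingCat.comp_apply] at e1
    refine e1.symm.trans (hαβ.trans ?_)
    show N.left.residue gN (jN.left.stalkMap gN (P.left.presheaf.stalkSpecializes hsp _)) = _
    rw [TopCat.Presheaf.germ_stalkSpecializes_apply]
  let U : G.left.Opens := sec.left ⁻¹ᵁ W
  let fb : op U ⟶ A1 k := toA1 U (sec.left.app W F)
  let Fm : op W ⟶ A1 k := toA1 W F
  let fm : op V₀ ⟶ A1 k := toA1 V₀ s
  obtain ⟨sU, hsU⟩ := exists_lift_opι W (opι U ≫ sec) (by rintro _ ⟨x, rfl⟩; exact x.2)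
  have hfb : sU ≫ Fm = fb := by
    have := comp_toA1 sec (le_refl (sec.left ⁻¹ᵁ W)) hsU F
    rwa [Scheme.Hom.appLE_eq_app] at this
  refine ⟨U, fb, ⟨ξ, hW⟩, fun a ha => hβ ?_, fun g hg x y hxy => ?_⟩
  · obtain ⟨e, he⟩ := exists_const_of_eq U _ a ha
    refine ⟨e, ?_⟩
    show resHom G.hom ξ e = G.left.residue ξ (sec.left.stalkMap ξ (P.left.presheaf.germ W d₀ hW F))
    rw [Scheme.Hom.germ_stalkMap_apply, he]
    show G.left.residue ξ _ = _
    congr 1
    exact (TopCat.Presheaf.germ_res_apply G.left.presheaf (homOfLE le_top) ξ _ _).symm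
  -- the two expressions agree on the closure of the graph
  let B := C ⊗ C
  let P₃ := B ⊗ G
  let X := G ⊗ P₃
  haveI : LocallyOfFiniteType B.hom := lft_tensor C C
  haveI : LocallyOfFiniteType P₃.hom := lft_tensor B G
  haveI : LocallyOfFiniteType X.hom := lft_tensor G P₃
  let m₁ : X ⟶ P := lift (fst G P₃) (snd G P₃ ≫ fst B G ≫ fst C C)
  let m₂ : X ⟶ P := lift (fst G P₃ * (snd G P₃ ≫ snd B G)) (snd G P₃ ≫ fst B G ≫ snd C C)
  let Ω : X.left.Opens := m₁.left ⁻¹ᵁ W ⊓ m₂.left ⁻¹ᵁ W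
  haveI : LocallyOfFiniteType (op Ω).hom := inferInstanceAs (LocallyOfFiniteType (Ω.ι ≫ X.hom))
  obtain ⟨a₁, ha₁⟩ := exists_lift_opι W (opι Ω ≫ m₁) (by rintro _ ⟨z, rfl⟩; exact z.2.1)
  obtain ⟨a₂, ha₂⟩ := exists_lift_opι W (opι Ω ≫ m₂) (by rintro _ ⟨z, rfl⟩; exact z.2.2)
  let B₀ := C₀ ⊗ C₀
  let R := G ⊗ B₀
  haveI : IsIntegral B₀.left := isIntegral_tensor C₀ C₀
  haveI : LocallyOfFiniteType B₀.hom := lft_tensor C₀ C₀
  haveI : IsIntegral R.left := isIntegral_tensor G B₀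
  let gX : R ⟶ X := G ◁ diffGraph j gam
  let n₁ : R ⟶ N := lift (fst G B₀) (snd G B₀ ≫ fst C₀ C₀)
  let n₂ : R ⟶ N :=
    lift (fst G B₀ * (snd G B₀ ≫ ((fst C₀ C₀ ≫ gam) * (snd C₀ C₀ ≫ gam)⁻¹))) (snd G B₀ ≫ snd C₀ C₀)
  have hn₁ : n₁ ≫ jN = gX ≫ m₁ := by
    apply CartesianMonoidalCategory.hom_ext <;>
      simp [n₁, jN, gX, m₁, N, P, P₃, B, R, B₀, diffGraph]
  have hn₂ : n₂ ≫ jN = gX ≫ m₂ := by
    apply CartesianMonoidalCategory.hom_ext <;>
      simp [n₂, jN, gX, m₂, N, P, P₃, B, R, B₀, diffGraph, MonObj.comp_mul, GrpObj.comp_inv]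
  have hσ₁₂ : n₂ ≫ σ = n₁ ≫ σ := by
    simp only [σ, n₁, n₂, MonObj.comp_mul, lift_fst, lift_snd_assoc, GrpObj.comp_inv, Category.assoc]
    rw [_root_.mul_assoc, inv_mul_cancel_right]
  let O₁ : R.left.Opens := gX.left ⁻¹ᵁ Ω ⊓ n₁.left ⁻¹ᵁ O ⊓ n₂.left ⁻¹ᵁ O
  obtain ⟨t, ht⟩ := exists_lift_opι Ω (opι O₁ ≫ gX) (by rintro _ ⟨z, rfl⟩; exact z.2.1.1)
  obtain ⟨l₁, hl₁⟩ := exists_lift_opι O (opι O₁ ≫ n₁) (by rintro _ ⟨z, rfl⟩; exact z.2.1.2)
  obtain ⟨l₂, hl₂⟩ := exists_lift_opι O (opι O₁ ≫ n₂) (by rintro _ ⟨z, rfl⟩; exact z.2.2)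
  obtain ⟨oW, hoW⟩ := exists_lift_opι W (opι O ≫ jN) (by rintro _ ⟨z, rfl⟩; exact z.2.2)
  obtain ⟨oV, hoV⟩ := exists_lift_opι V₀ (opι O ≫ σ) (by rintro _ ⟨z, rfl⟩; exact z.2.1)
  have hagree : oW ≫ Fm = oV ≫ fm := by
    rw [comp_toA1 jN (inf_le_right : O ≤ jN.left ⁻¹ᵁ W) hoW F,
      comp_toA1 σ (inf_le_left : O ≤ σ.left ⁻¹ᵁ V₀) hoV s, hO]
  haveI : Mono (opι W) := Over.mono_of_mono_left _
  haveI : Mono (opι V₀) := Over.mono_of_mono_left _
  have e1 : t ≫ a₁ = l₁ ≫ oW := by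
    rw [← cancel_mono (opι W), Category.assoc, Category.assoc, ha₁, hoW, reassoc_of% ht, reassoc_of% hl₁, hn₁]
  have e2 : t ≫ a₂ = l₂ ≫ oW := by
    rw [← cancel_mono (opι W), Category.assoc, Category.assoc, ha₂, hoW, reassoc_of% ht, reassoc_of% hl₂, hn₂]
  have e3 : l₁ ≫ oV = l₂ ≫ oV := by
    rw [← cancel_mono (opι V₀), Category.assoc, Category.assoc, hoV, reassoc_of% hl₁, reassoc_of% hl₂, hσ₁₂]
  have hteq : t ≫ (a₁ ≫ Fm) = t ≫ (a₂ ≫ Fm) := by
    rw [reassoc_of% e1, reassoc_of% e2, hagree, reassoc_of% e3]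
  -- the limit point
  let w : 𝟙_ (Over (Spec (CommRingCat.of k))) ⟶ X := lift (x ≫ opι U) (lift (lift c c) g)
  have hwm₁ : w ≫ m₁ = (x ≫ sU) ≫ opι W := by
    rw [Category.assoc x, hsU]
    apply CartesianMonoidalCategory.hom_ext <;> simp [w, m₁, sec, P, P₃, B]
  have hwm₂ : w ≫ m₂ = (y ≫ sU) ≫ opι W := by
    rw [Category.assoc y, hsU]
    apply CartesianMonoidalCategory.hom_ext <;> simp [w, m₂, sec, P, P₃, B, MonObj.comp_mul, hxy]
  obtain ⟨w', hw'⟩ := exists_lift_opι Ω w (by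
    rw [range_pt, Set.singleton_subset_iff]
    constructor
    · show m₁.left (pt w) ∈ W
      rw [← pt_comp, hwm₁, pt_comp]
      exact ((x ≫ sU).left (closedPoint k : Spec (CommRingCat.of k))).2
    · show m₂.left (pt w) ∈ W
      rw [← pt_comp, hwm₂, pt_comp]
      exact ((y ≫ sU).left (closedPoint k : Spec (CommRingCat.of k))).2)
  have hclos : pt w' ∈ closure (Set.range t.left) := by
    have h1 : pt w ∈ closure (Set.range gX.left) := by
      let sl : P₃ ⟶ X := lift (toUnit P₃ ≫ x ≫ opι U) (𝟙 P₃)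
      have hsl : lift (lift c c) g ≫ sl = w := by
        simp [sl, w, P₃, B]
      rw [← hsl, pt_comp]
      refine closure_mono ?_ (image_closure_subset_closure_image sl.left.continuous ⟨_, hg, rfl⟩)
      rintro _ ⟨_, ⟨z, rfl⟩, rfl⟩
      let sl₀ : B₀ ⟶ R := lift (toUnit B₀ ≫ x ≫ opι U) (𝟙 B₀)
      have : sl₀ ≫ gX = diffGraph j gam ≫ sl := by
        apply CartesianMonoidalCategory.hom_ext <;> simp [sl₀, sl, gX, R, X, B₀, P₃, B]
      exact ⟨sl₀.left z, congrArg (fun m : B₀ ⟶ X => m.left z) this⟩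
    have hO₁ne : (O₁ : Set R.left).Nonempty := by
      haveI : IrreducibleSpace R.left := inferInstance
      have hn₁ne : (n₁.left ⁻¹' (O : Set N.left)).Nonempty := by
        obtain ⟨gt, hgt⟩ := exists_pt_mem (X := N) (Z := (O : Set N.left)) ⟨gN, hgO⟩ O.isOpen.isLocallyClosed
        refine ⟨pt (lift (gt ≫ fst G C₀) (lift (gt ≫ snd G C₀) (gt ≫ snd G C₀))), ?_⟩
        show n₁.left _ ∈ O
        rw [← pt_comp, show lift (gt ≫ fst G C₀) (lift (gt ≫ snd G C₀) (gt ≫ snd G C₀)) ≫ n₁ = gt by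
          apply CartesianMonoidalCategory.hom_ext <;> simp [n₁, N, R, B₀]]
        exact hgt
      have hn₂ne : (n₂.left ⁻¹' (O : Set N.left)).Nonempty := by
        obtain ⟨gt, hgt⟩ := exists_pt_mem (X := N) (Z := (O : Set N.left)) ⟨gN, hgO⟩ O.isOpen.isLocallyClosed
        refine ⟨pt (lift (gt ≫ fst G C₀) (lift (gt ≫ snd G C₀) (gt ≫ snd G C₀))), ?_⟩
        show n₂.left _ ∈ O
        rw [← pt_comp, show lift (gt ≫ fst G C₀) (lift (gt ≫ snd G C₀) (gt ≫ snd G C₀)) ≫ n₂ = gt by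
          apply CartesianMonoidalCategory.hom_ext <;>
            simp [n₂, N, R, B₀, MonObj.comp_mul, GrpObj.comp_inv, MonObj.comp_one]]
        exact hgt
      obtain ⟨z, hz₁, hz₂⟩ := nonempty_preirreducible_inter (n₁.left ⁻¹ᵁ O).isOpen (n₂.left ⁻¹ᵁ O).isOpen hn₁ne hn₂ne
      have hΩne : (gX.left ⁻¹' (Ω : Set X.left)).Nonempty := by
        obtain ⟨_, hz, z', rfl⟩ := mem_closure_iff.1 h1 Ω Ω.isOpen (by
          show pt w ∈ Ω
          rw [← hw', pt_comp]
          exact (w'.left (closedPoint k : Spec (CommRingCat.of k))).2)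
        exact ⟨z', hz⟩
      obtain ⟨z, hz, ⟨hz1, hz2⟩⟩ := nonempty_preirreducible_inter (gX.left ⁻¹ᵁ Ω).isOpen
        ((n₁.left ⁻¹ᵁ O) ⊓ (n₂.left ⁻¹ᵁ O)).isOpen hΩne ⟨z, hz₁, hz₂⟩
      exact ⟨z, ⟨hz, hz1⟩, hz2⟩
    haveI : IsPreimmersion (opι Ω).left := inferInstanceAs (IsPreimmersion Ω.ι)
    rw [(opι Ω).left.isEmbedding.closure_eq_preimage_closure_image, Set.mem_preimage, ← Set.range_comp,
      ← pt_comp, hw']
    have hr : (opι Ω).left ∘ t.left = gX.left ∘ (opι O₁).left := funext fun z =>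
      congrArg (fun m : op O₁ ⟶ X => m.left z) ht
    rw [hr, Set.range_comp, range_opι]
    refine closure_minimal ?_ isClosed_closure h1
    rintro _ ⟨z, rfl⟩
    exact image_closure_subset_closure_image gX.left.continuous ⟨z, O₁.isOpen.dense hO₁ne z, rfl⟩
  haveI : IsSeparated (A1 k).hom :=
    inferInstanceAs (IsSeparated (𝔸(PUnit.{u+1}; Spec (CommRingCat.of k)) ↘ Spec (CommRingCat.of k)))
  have hfin := eq_at_limit (a₁ ≫ Fm) (a₂ ≫ Fm) t hteq w' hclos
  have ex : w' ≫ a₁ = x ≫ sU := by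
    rw [← cancel_mono (opι W), Category.assoc, ha₁, reassoc_of% hw', hwm₁]
  have ey : w' ≫ a₂ = y ≫ sU := by
    rw [← cancel_mono (opι W), Category.assoc, ha₂, reassoc_of% hw', hwm₂]
  rw [← Category.assoc, ← Category.assoc, ex, ey, Category.assoc, Category.assoc, hfb] at hfin
  exact hfin

end Groth.Agent.Chev24
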